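import Cfsg.Agent.Lib.DegreeThreeP.OneFixed

/-!
# Doubly transitive with involutions fixing one point: the orbits of a three-point stabilizer
-/

set_option autoImplicit false
set_option linter.style.haveILetI false
set_option linter.unusedSectionVars false

namespace Cfsg.Agent.DegreeThreeP

open Subgroup
open scoped _root_.Classical

universe u v

variable {G : Type u} [Group G] [Fintype G] {α : Type v} [MulAction G α] [Fintype α] {p : ℕ}
  [Fact p.Prime] {P : Sylow p G}

/-- The points fixed by a subgroup. -/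
noncomputable def fixSet (K : Subgroup G) (α : Type v) [MulAction G α] [Fintype α] : Finset α :=
  Finset.univ.filter fun x => ∀ g ∈ K, g • x = x

theorem mem_fixSet {K : Subgroup G} {x : α} : x ∈ fixSet K α ↔ ∀ g ∈ K, g • x = x := by simp [fixSet]

theorem mem_stab3 {a b e : α} {g : G} :
    g ∈ stab3 G a b e ↔ g • a = a ∧ g • b = b ∧ g • e = e := by
  simp [stab3, stab2, Subgroup.mem_inf, MulAction.mem_stabilizer_iff, and_assoc]

theorem One.exists_triple (O : One α P) {a b e a' b' e' : α} (hab : a ≠ b) (hea : e ≠ a) (heb : e ≠ b)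
    (hab' : a' ≠ b') (hea' : e' ≠ a') (heb' : e' ≠ b') :
    ∃ g : G, g • a = a' ∧ g • b = b' ∧ g • e = e' := by
  haveI := O.hyp.pretrans
  obtain ⟨g₁, h₁⟩ := MulAction.exists_smul_eq G a a'
  obtain ⟨g₂, h₂a, h₂b⟩ := O.two a' (g₁ • b) b'
    (fun e => hab (MulAction.injective g₁ (h₁.trans e.symm))) hab'.symm
  set g := g₂ * g₁ with hg
  have hga : g • a = a' := by rw [hg, mul_smul, h₁, h₂a]
  have hgb : g • b = b' := by rw [hg, mul_smul, h₂b]
  obtain ⟨g₃, ⟨h₃a, h₃b⟩, h₃e⟩ := O.exists_mem_stab2 hab' (x := g • e) (y := e')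
    (fun h => hea (MulAction.injective g (h.trans hga.symm)))
    (fun h => heb (MulAction.injective g (h.trans hgb.symm))) hea' heb'
  refine ⟨g₃ * g, ?_, ?_, ?_⟩
  · rw [mul_smul, hga]; exact h₃a
  · rw [mul_smul, hgb]; exact h₃b
  · rw [mul_smul, h₃e]

theorem One.card_fixSet_eq (O : One α P) {a b e a' b' e' : α} (hab : a ≠ b) (hea : e ≠ a) (heb : e ≠ b)
    (hab' : a' ≠ b') (hea' : e' ≠ a') (heb' : e' ≠ b') :
    (fixSet (stab3 G a' b' e') α).card = (fixSet (stab3 G a b e) α).card := by
  obtain ⟨g, h1, h2, h3⟩ := O.exists_triple hab hea heb hab' hea' heb'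
  symm
  refine Finset.card_equiv (MulAction.toPerm g) fun x => ?_
  simp only [mem_fixSet, MulAction.toPerm_apply, mem_stab3]
  constructor
  · rintro hx k ⟨ka, kb, ke⟩
    have := hx (g⁻¹ * k * g) ⟨by rw [mul_smul, mul_smul, h1, ka, ← h1, inv_smul_smul],
      by rw [mul_smul, mul_smul, h2, kb, ← h2, inv_smul_smul],
      by rw [mul_smul, mul_smul, h3, ke, ← h3, inv_smul_smul]⟩
    rw [mul_smul, mul_smul, inv_smul_eq_iff] at this
    exact this
  · rintro hx k ⟨ka, kb, ke⟩
    have := hx (g * k * g⁻¹) ⟨by rw [← h1, mul_smul, mul_smul, inv_smul_smul, ka],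
      by rw [← h2, mul_smul, mul_smul, inv_smul_smul, kb],
      by rw [← h3, mul_smul, mul_smul, inv_smul_smul, ke]⟩
    rw [mul_smul, mul_smul, inv_smul_smul] at this
    exact MulAction.injective g this

/-- The third points giving the same stabilizer. -/
noncomputable def fibre (G : Type u) [Group G] [Fintype G] {α : Type v} [MulAction G α] [Fintype α] (a b e : α) :
    Finset α :=
  (fixSet (stab3 G a b e) α \ {a, b})

theorem One.fibre_stab (O : One α P) {a b e x : α} (hab : a ≠ b) (hea : e ≠ a) (heb : e ≠ b)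
    (hx : x ∈ fibre G a b e) : stab3 G a b x = stab3 G a b e := by
  simp only [fibre, Finset.mem_sdiff, Finset.mem_insert, Finset.mem_singleton, not_or, mem_fixSet] at hx
  obtain ⟨hx, hxa, hxb⟩ := hx
  refine (eq_of_le_of_card_ge (fun g hg => ?_) ?_).symm
  · exact mem_stab3.2 ⟨(mem_stab3.1 hg).1, (mem_stab3.1 hg).2.1, hx g hg⟩
  · rw [O.card_stab3_eq hab hea heb hab hxa hxb]

theorem fibre_card {a b e : α} (hab : a ≠ b) :
    (fibre G a b e).card + 2 = (fixSet (stab3 G a b e) α).card := by
  have hsub : ({a, b} : Finset α) ⊆ fixSet (stab3 G a b e) α := by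
    intro z hz
    rw [mem_fixSet]
    intro g hg
    simp only [Finset.mem_insert, Finset.mem_singleton] at hz
    rcases hz with rfl | rfl
    · exact (mem_stab3.1 hg).1
    · exact (mem_stab3.1 hg).2.1
  have := Finset.card_le_card hsub
  rw [fibre, Finset.card_sdiff_of_subset hsub, Finset.card_pair hab]
  rw [Finset.card_pair hab] at this
  omega

/-- A three-point stabilizer fixes only its three points. -/
theorem One.card_fixSet (O : One α P) {a b e : α} (hab : a ≠ b) (hea : e ≠ a) (heb : e ≠ b) :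
    (fixSet (stab3 G a b e) α).card = 3 := by
  have hp5 := O.hyp.p5
  set F := fixSet (stab3 G a b e) α with hF
  set k := F.card with hk
  have hmem : ∀ {z}, z = a ∨ z = b ∨ z = e → z ∈ F := fun {z} hz => by
    rw [hF, mem_fixSet]
    intro g hg
    obtain ⟨h1, h2, h3⟩ := mem_stab3.1 hg
    rcases hz with rfl | rfl | rfl
    · exact h1
    · exact h2
    · exact h3
  have hconst : ∀ {x y z : α}, x ≠ y → z ≠ x → z ≠ y → (fibre G x y z).card + 2 = k := fun hxy hzx hzy => by
    rw [fibre_card hxy, O.card_fixSet_eq hab hea heb hxy hzx hzy]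
  -- the number is odd
  have hodd : (k : ℕ) % 2 = 1 := by
    obtain ⟨t, f, hto, hta, htb, htf, hfa, hfb, huniq⟩ := O.exists_swapper hab
    set E := fixSet (stab3 G a b f) α with hE
    have hEk : E.card = k := O.card_fixSet_eq hab hea heb hab hfa hfb
    have htt : ∀ x : α, t • t • x = x := fun x => by
      rw [← mul_smul, sq_one_of_orderOf hto, one_smul]
    have hti : t⁻¹ = t := inv_eq_of_mul_eq_one_right (sq_one_of_orderOf hto)
    have hstable : ∀ x ∈ E, t • x ∈ E := fun x hx => by
      rw [hE, mem_fixSet] at hx ⊢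
      intro g hg
      obtain ⟨h1, h2, h3⟩ := mem_stab3.1 hg
      have := hx (t * g * t) (mem_stab3.2 ⟨by rw [mul_smul, mul_smul, hta, h2, htb],
        by rw [mul_smul, mul_smul, htb, h1, hta], by rw [mul_smul, mul_smul, htf, h3, htf]⟩)
      rw [mul_smul, mul_smul] at this
      have h4 := congrArg (t • ·) this
      simp only [htt] at h4
      exact h4
    have hfE : f ∈ E := by
      rw [hE, mem_fixSet]
      exact fun g hg => (mem_stab3.1 hg).2.2
    have h2 : (((E.erase f).card : ℕ) : ZMod 2) = 0 := by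
      rw [Finset.card_eq_sum_ones, Nat.cast_sum]
      refine Finset.sum_involution (fun x _ => t • x) (fun x _ => by rw [Nat.cast_one]; decide)
        (fun x hx _ e => (Finset.mem_erase.1 hx).1 (huniq x e)) (fun x hx => ?_) (fun x _ => htt x)
      rw [Finset.mem_erase] at hx ⊢
      exact ⟨fun e => hx.1 (by rw [← htt x, e, htf]), hstable x hx.2⟩
    rw [Finset.card_erase_of_mem hfE, hEk, ZMod.natCast_eq_zero_iff] at h2
    have : 0 < k := hEk ▸ Finset.card_pos.2 ⟨f, hfE⟩
    omega
  have hk3 : 3 ≤ k := by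
    have h1 : ({a, b, e} : Finset α) ⊆ F := fun z hz => hmem (by simpa using hz)
    have := Finset.card_le_card h1
    rw [Finset.card_eq_three.2 ⟨a, b, e, hab, hea.symm, heb.symm, rfl⟩] at this
    exact this
  -- the divisibility
  have hdvd : (k - 2) ∣ (3 * p - 2) := by
    set U := (Finset.univ : Finset α) \ {a, b} with hU
    have hUc : U.card = 3 * p - 2 := by
      rw [hU, Finset.card_sdiff_of_subset (Finset.subset_univ _), Finset.card_univ,
        O.hyp.card_fintype, Finset.card_pair hab]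
    refine ⟨(U.image fun x => stab3 G a b x).card, ?_⟩
    rw [← hUc, Finset.card_eq_sum_card_image (fun x => stab3 G a b x) U,
      Finset.sum_const_nat (m := k - 2), mul_comm]
    intro S hS
    obtain ⟨x, hx, rfl⟩ := Finset.mem_image.1 hS
    simp only [hU, Finset.mem_sdiff, Finset.mem_univ, true_and, Finset.mem_insert, Finset.mem_singleton,
      not_or] at hx
    rw [show (U.filter fun y => stab3 G a b y = stab3 G a b x) = fibre G a b x by
      ext y
      constructor
      · intro hy
        obtain ⟨hyU, hy⟩ := Finset.mem_filter.1 hy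
        simp only [hU, Finset.mem_sdiff, Finset.mem_univ, true_and] at hyU
        simp only [fibre, Finset.mem_sdiff, mem_fixSet]
        exact ⟨fun g hg => (mem_stab3.1 (show g ∈ stab3 G a b y by rw [hy]; exact hg)).2.2, by simpa using hyU⟩
      · intro hy
        refine Finset.mem_filter.2 ⟨?_, O.fibre_stab hab hx.1 hx.2 hy⟩
        simp only [hU, Finset.mem_sdiff, Finset.mem_univ, true_and]
        exact (Finset.mem_sdiff.1 hy).2]
    have := hconst hab hx.1 hx.2
    omega
  -- many fixed points force small blocks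
  obtain ⟨⟨y, hy1, hy⟩, -⟩ := O.moments hab hea heb
  set Y := Finset.univ.filter (fun x : α => y • x = x) with hY
  have hYc : Y.card = fx α y := by
    rw [fx, Nat.card_eq_fintype_card, Fintype.card_subtype]
    simp [hY, MulAction.mem_fixedBy]
  obtain ⟨x₀, hx₀⟩ : Y.Nonempty := Finset.card_pos.1 (by omega)
  obtain ⟨o, ho⟩ : ∃ o, o ∉ Y := by
    by_contra hh
    push Not at hh
    have := O.hyp.fx_lt hy1
    rw [← hYc, Finset.eq_univ_of_forall hh, Finset.card_univ, O.hyp.card_fintype] at this
    omega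
  have hxo : x₀ ≠ o := fun e => ho (e ▸ hx₀)
  have hb' : ∀ z ∈ Y.erase x₀, z ≠ x₀ ∧ z ≠ o := fun z hz =>
    ⟨(Finset.mem_erase.1 hz).1, fun e => ho (e ▸ (Finset.mem_erase.1 hz).2)⟩
  have hdisj : ((Y.erase x₀ : Finset α) : Set α).PairwiseDisjoint fun z => fibre G x₀ o z := by
    intro z hz z' hz' hne
    simp only [Function.onFun]
    rw [Finset.disjoint_left]
    intro w hw hw'
    have e1 := O.fibre_stab hxo (hb' z hz).1 (hb' z hz).2 hw
    have e2 := O.fibre_stab hxo (hb' z' hz').1 (hb' z' hz').2 hw'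
    have e3 : stab3 G x₀ o z = stab3 G x₀ o z' := e1.symm.trans e2
    have hle : stab3 G x₀ o z ≤ stab3 G x₀ z z' := fun g hg => by
      have h' := mem_stab3.1 (e3 ▸ hg)
      have h := mem_stab3.1 hg
      exact mem_stab3.2 ⟨h.1, h.2.2, h'.2.2⟩
    have heq := eq_of_le_of_card_ge hle (by
      rw [O.card_stab3_eq hxo (hb' z hz).1 (hb' z hz).2 (hb' z hz).1.symm (hb' z' hz').1 hne.symm])
    have hyin : y ∈ stab3 G x₀ z z' := mem_stab3.2
      ⟨(Finset.mem_filter.1 hx₀).2, (Finset.mem_filter.1 (Finset.mem_of_mem_erase hz)).2,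
        (Finset.mem_filter.1 (Finset.mem_of_mem_erase hz')).2⟩
    rw [← heq] at hyin
    exact ho (Finset.mem_filter.2 ⟨Finset.mem_univ _, (mem_stab3.1 hyin).2.1⟩)
  have hsmall : (fx α y - 1) * (k - 2) ≤ 3 * p - 2 := by
    have h1 : ((Y.erase x₀).biUnion fun z => fibre G x₀ o z) ⊆ Finset.univ \ {x₀, o} := fun w hw => by
      obtain ⟨z, -, hw⟩ := Finset.mem_biUnion.1 hw
      exact Finset.mem_sdiff.2 ⟨Finset.mem_univ _, (Finset.mem_sdiff.1 hw).2⟩
    have h2 := Finset.card_le_card h1
    rw [Finset.card_biUnion hdisj, Finset.sum_const_nat (m := k - 2) fun z hz => by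
        have := hconst hxo (hb' z hz).1 (hb' z hz).2
        omega,
      Finset.card_erase_of_mem hx₀, hYc, Finset.card_sdiff_of_subset (Finset.subset_univ _),
      Finset.card_univ, O.hyp.card_fintype, Finset.card_pair hxo] at h2
    exact h2
  by_contra hne
  obtain ⟨j, hj⟩ : ∃ j, k = j + 5 := ⟨k - 5, by omega⟩
  rw [hj, show j + 5 - 2 = j + 3 by omega] at hsmall hdvd
  have h3 : (p - 2) * (j + 3) ≤ 3 * p - 2 :=
    le_trans (Nat.mul_le_mul_right _ (by omega)) hsmall
  have hj0 : j = 0 := by
    by_contra hj0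
    obtain ⟨w, hw⟩ : ∃ w, p = w + 5 := ⟨p - 5, by omega⟩
    subst hw
    rw [show w + 5 - 2 = w + 3 by omega, show 3 * (w + 5) - 2 = 3 * w + 13 by omega] at h3
    have : (w + 3) * 5 ≤ (w + 3) * (j + 3) := Nat.mul_le_mul_left _ (by omega)
    omega
  subst hj0
  omega

/-- All orbits of a three-point stabilizer on the other points have length three. -/
theorem One.orbit_three (O : One α P) {a b e x : α} (hab : a ≠ b) (hea : e ≠ a) (heb : e ≠ b)
    (hxa : x ≠ a) (hxb : x ≠ b) (hxe : x ≠ e) :
    Nat.card (MulAction.orbit (stab3 G a b e) x) = 3 := by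
  set R := stab3 G a b e with hR
  obtain ⟨hodd, -⟩ := O.rho_bound hab hea heb
  set T : Finset α := {a, b, e} with hT
  have hTc : T.card = 3 := Finset.card_eq_three.2 ⟨a, b, e, hab, hea.symm, heb.symm, rfl⟩
  have hTfix : ∀ g ∈ R, ∀ z ∈ T, g • z = z := fun g hg z hz => by
    obtain ⟨h1, h2, h3⟩ := mem_stab3.1 hg
    simp only [hT, Finset.mem_insert, Finset.mem_singleton] at hz
    rcases hz with rfl | rfl | rfl
    · exact h1
    · exact h2
    · exact h3
  have hFT : T = fixSet R α := Finset.eq_of_subset_of_card_le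
    (fun z hz => mem_fixSet.2 fun g hg => hTfix g hg z hz) (by rw [hTc, hR, O.card_fixSet hab hea heb])
  have hsize : ∀ y, y ∉ T → 3 ≤ Nat.card (MulAction.orbit R y) := fun y hy => by
    have ho : Odd (Nat.card (MulAction.orbit R y)) := hodd.of_dvd_nat (by
      rw [Nat.card_congr (MulAction.orbitEquivQuotientStabilizer R y)]
      exact Subgroup.card_quotient_dvd_card _)
    have h1 : Nat.card (MulAction.orbit R y) ≠ 1 := fun h => by
      refine hy (hFT ▸ mem_fixSet.2 fun g hg => ?_)
      haveI := (Nat.card_eq_one_iff_unique.1 h).1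
      exact congrArg Subtype.val (Subsingleton.elim
        (⟨g • y, ⟨⟨g, hg⟩, rfl⟩⟩ : MulAction.orbit R y) ⟨y, MulAction.mem_orbit_self y⟩)
    rw [Nat.odd_iff] at ho
    omega
  have hx : x ∉ T := by simp [hT, hxa, hxb, hxe]
  have hb := orbit_bound R hTfix hsize hx
  have hpar := orbit_parity (α := α) R hodd
  rw [O.hyp.card_fintype] at hb hpar
  rw [hTc] at hb
  obtain ⟨-, hn⟩ := O.moments hab hea heb
  rw [← hR] at hn
  have := hsize x hx
  obtain ⟨q, hq⟩ := O.hyp.odd
  omega

end Cfsg.Agent.DegreeThreeP
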