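import Mathlib.GroupTheory.FixedPointFree
import Mathlib.GroupTheory.Transfer
import Cfsg.Agent.Lib.DegreeThreeP.OneBlocks

/-!
# No doubly transitive group of degree `3 p` with involutions fixing one point
-/

set_option autoImplicit false
set_option linter.style.haveILetI false
set_option linter.unusedSectionVars false

namespace Cfsg.Agent.DegreeThreeP

open Subgroup
open scoped _root_.Classical

universe u v w

/-- An abelian group acting faithfully on an abelian group with all non-trivial orbits of length three. -/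
theorem card_le_three {R : Type v} {M : Type w} [CommGroup R] [Finite R] [CommGroup M]
    (c : R →* MulAut M) (hidx : ∀ m : M, m ≠ 1 → 3 * Nat.card {r : R // c r m = m} = Nat.card R)
    (hf : ∀ r : R, (∀ m, c r m = m) → r = 1) (hne : ∃ u : M, u ≠ 1) : Nat.card R ≤ 3 := by
  let S : M → Subgroup R := fun m =>
    { carrier := {r | c r m = m}
      mul_mem' := fun {r s} (hr : c r m = m) (hs : c s m = m) => by
        show c (r * s) m = m
        rw [map_mul, MulAut.mul_apply, hs, hr]
      one_mem' := by show c 1 m = m; rw [map_one, MulAut.one_apply]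
      inv_mem' := fun {r} (hr : c r m = m) => by
        show c r⁻¹ m = m
        rw [map_inv]
        nth_rewrite 1 [← hr]
        exact (c r).symm_apply_apply m }
  have hS : ∀ m : M, m ≠ 1 → 3 * Nat.card (S m) = Nat.card R := hidx
  have hswap : ∀ (r h : R) (m : M), c r (c h m) = c h (c r m) := fun r h m => by
    rw [← MulAut.mul_apply, ← map_mul, mul_comm, map_mul, MulAut.mul_apply]
  obtain ⟨u, hu⟩ := hne
  by_cases hex : ∃ (r : R) (u v : M), u ≠ 1 ∧ v ≠ 1 ∧ c r u = u ∧ c r v ≠ v
  · exfalso
    obtain ⟨r, u, v, hu, hv, hru, hrv⟩ := hex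
    have hw : u * v ≠ 1 := fun h => hrv (by
      rw [eq_inv_of_mul_eq_one_right h, map_inv, hru])
    set w := c r v / v with hwd
    have hw1 : w ≠ 1 := fun h => hrv (div_eq_one.1 h)
    have hle : S v ≤ S w := fun h (hh : c h v = v) => by
      show c h w = w
      rw [hwd, map_div, ← hswap, hh]
    have heq : S v = S w := eq_of_le_of_card_ge hle (by
      have := hS v hv; have := hS w hw1; omega)
    have hsub : S (u * v) ≤ S u ⊓ S v := by
      intro h (hh : c h (u * v) = u * v)
      rw [map_mul] at hh
      have hd : c h u / u = v / c h v := by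
        rw [div_eq_div_iff_mul_eq_mul, hh, mul_comm u v]
      have hd2 : c r (v / c h v) = v / c h v := by
        rw [← hd, map_div, hswap, hru]
      have hhw : h ∈ S w := by
        show c h w = w
        rw [hwd, map_div, ← hswap]
        rw [map_div] at hd2
        rw [div_eq_div_iff_mul_eq_mul] at hd2 ⊢
        rw [mul_comm v] at hd2
        exact hd2.symm
      rw [← heq] at hhw
      refine ⟨?_, hhw⟩
      show c h u = u
      rw [show c h v = v from hhw] at hh
      exact mul_right_cancel hh
    have h1 : Nat.card (S (u * v)) ≤ Nat.card ↥(S u ⊓ S v) := card_le_of_le hsub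
    have h2 : S u ⊓ S v < S u := inf_le_left.lt_of_ne fun e => hrv
      ((show r ∈ S u ⊓ S v by rw [e]; exact hru).2)
    have h3 : Nat.card ↥(S u ⊓ S v) < Nat.card (S u) := by
      by_contra hh
      exact h2.ne (eq_of_le_of_card_ge h2.le (not_lt.1 hh))
    have := hS _ hw
    have := hS _ hu
    omega
  · push Not at hex
    have h0 : S u = ⊥ := (eq_bot_iff_forall _).2 fun r hr => hf r fun m => by
      by_cases hm : m = 1
      · rw [hm, map_one]
      · exact hex r u m hu hm hr
    have := hS u hu
    rw [h0, card_bot] at this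
    omega

variable {G : Type u} [Group G] [Fintype G] {α : Type v} [MulAction G α] [Fintype α] {p : ℕ}
  [Fact p.Prime] {P : Sylow p G}

/-- A three-point stabilizer is elementary abelian. -/
theorem One.stab3_elementary (O : One α P) {a b e : α} (hab : a ≠ b) (hea : e ≠ a) (heb : e ≠ b) :
    (∀ r ∈ stab3 G a b e, ∀ s ∈ stab3 G a b e, r * s = s * r) ∧ ∀ r ∈ stab3 G a b e, r ^ 3 = 1 := by
  haveI := O.hyp.faith
  set R := stab3 G a b e with hR
  obtain ⟨hodd, -⟩ := O.rho_bound hab hea heb
  have key : ∀ x : α, ∀ r ∈ R, ∀ s ∈ R,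
      (r * s * r⁻¹ * s⁻¹) • x = x ∧ (r ^ 3) • x = x := by
    intro x r hr s hs
    by_cases hx : x = a ∨ x = b ∨ x = e
    · have hfix : ∀ g ∈ R, g • x = x := fun g hg => by
        obtain ⟨h1, h2, h3⟩ := mem_stab3.1 hg
        rcases hx with rfl | rfl | rfl
        · exact h1
        · exact h2
        · exact h3
      exact ⟨hfix _ (mul_mem (mul_mem (mul_mem hr hs) (inv_mem hr)) (inv_mem hs)), hfix _ (pow_mem hr 3)⟩
    · push Not at hx
      have h3 := O.orbit_three hab hea heb hx.1 hx.2.1 hx.2.2
      set K := MulAction.stabilizer R x with hK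
      have hidx : K.index = 3 := by
        rw [← h3, Nat.card_congr (MulAction.orbitEquivQuotientStabilizer R x)]
        rfl
      have hmin : (Nat.card R).minFac = 3 := by
        have h3d : 3 ∣ Nat.card R := hidx ▸ K.index_dvd_card
        have h1 := Nat.minFac_le_of_dvd (by norm_num) h3d
        have hR1 : Nat.card R ≠ 1 := fun e => by rw [e] at h3d; norm_num at h3d
        have h2 := Nat.minFac_prime hR1
        have hne : (Nat.card R).minFac ≠ 2 := fun e =>
          (Nat.not_even_iff_odd.2 hodd) (even_iff_two_dvd.2 (e ▸ Nat.minFac_dvd _))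
        have := h2.two_le
        omega
      haveI : K.Normal := Subgroup.normal_of_index_eq_minFac_card (by rw [hidx, hmin])
      haveI : Fact (Nat.Prime 3) := ⟨by norm_num⟩
      have hq : Nat.card (R ⧸ K) = 3 := hidx
      haveI : IsCyclic (R ⧸ K) := isCyclic_of_prime_card hq
      letI := IsCyclic.commGroup (α := R ⧸ K)
      have e1 : (⟨r, hr⟩ : R) * ⟨s, hs⟩ * (⟨r, hr⟩ : R)⁻¹ * (⟨s, hs⟩ : R)⁻¹ ∈ K := by
        rw [← QuotientGroup.eq_one_iff]
        simp only [QuotientGroup.mk_mul, QuotientGroup.mk_inv]
        rw [mul_comm (QuotientGroup.mk (⟨r, hr⟩ : R) : R ⧸ K), mul_inv_cancel_right, mul_inv_cancel]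
      have e2 : (⟨r, hr⟩ : R) ^ 3 ∈ K := by
        rw [← QuotientGroup.eq_one_iff, QuotientGroup.mk_pow, ← hq, pow_card_eq_one']
      exact ⟨e1, e2⟩
  exact ⟨fun r hr s hs => commutatorElement_eq_one_iff_mul_comm.1
    (FaithfulSMul.eq_of_smul_eq_smul (α := α) fun x => by
      rw [one_smul, commutatorElement_def]; exact (key x r hr s hs).1),
    fun r hr => FaithfulSMul.eq_of_smul_eq_smul (α := α) fun x => by
      rw [one_smul]; exact (key x r hr r hr).2⟩

omit [Fintype G] [Fintype α] in
theorem ne_of_fix {g : G} {a e : α} (hea : e ≠ a) (hg : g • a = a) : g • e ≠ a :=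
  fun h => hea (MulAction.injective g (h.trans hg.symm))

/-- The normal complement of a three-point stabilizer. -/
theorem One.exists_complement (O : One α P) {a b e : α} (hab : a ≠ b) (hea : e ≠ a) (heb : e ≠ b) :
    ∃ M : Subgroup (stab2 G a b), M.Normal ∧ Nat.card M = 3 * p - 2 ∧
      (∀ d : stab2 G a b, d ∈ M ↔ ¬ 3 ∣ orderOf (d : G)) ∧
      ∀ m ∈ M, ((m : stab2 G a b) : G) • e = e → m = 1 := by
  classical
  have hp5 := O.hyp.p5
  haveI := O.hyp.faith
  haveI : Fact (Nat.Prime 3) := ⟨by norm_num⟩
  set D := stab2 G a b with hD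
  set R := stab3 G a b e with hR
  have hRD : R ≤ D := inf_le_left
  obtain ⟨hcomm, hexp⟩ := O.stab3_elementary hab hea heb
  have hDc : Nat.card D = (3 * p - 2) * Nat.card R := by
    have h := (O.card_eq hab hea heb).1
    have h' : ((Nat.card D : ℕ) : ℤ) = (((3 * p - 2) * Nat.card R : ℕ) : ℤ) := by
      rw [Nat.cast_mul, Nat.cast_sub (by omega)]
      push_cast
      exact h
    exact_mod_cast h'
  have hndvd : ¬ 3 ∣ 3 * p - 2 := by omega
  set R' := R.subgroupOf D with hR'
  have hR'p : IsPGroup 3 R' := fun r => ⟨1, by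
    apply Subtype.ext; apply Subtype.ext
    simpa using hexp _ (Subgroup.mem_subgroupOf.1 r.2)⟩
  have hidx : R'.index = 3 * p - 2 := by
    have h1 := R'.index_mul_card
    rw [Nat.card_congr (Subgroup.subgroupOfEquivOfLe hRD).toEquiv, hDc] at h1
    exact Nat.eq_of_mul_eq_mul_right Nat.card_pos h1
  set Q : Sylow 3 D := hR'p.toSylow (by rw [hidx]; exact hndvd) with hQ
  have hQe : (Q : Subgroup D) = R' := rfl
  have hNC : normalizer ((Q : Subgroup D) : Set D) ≤ centralizer ((Q : Subgroup D) : Set D) := by
    rw [hQe]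
    intro n hn
    have hne : (n : G) • e = e := by
      have hfix : (n : G) • e ∈ fixSet R α := mem_fixSet.2 fun r hr => by
        have h1 : (⟨r, hRD hr⟩ : D) ∈ R' := Subgroup.mem_subgroupOf.2 hr
        have h2 := (Subgroup.mem_normalizer_iff''.1 hn _).1 h1
        rw [Subgroup.mem_subgroupOf] at h2
        have h3 := (mem_stab3.1 h2).2.2
        simp only [Subgroup.coe_mul, Subgroup.coe_inv, mul_smul] at h3
        exact inv_smul_eq_iff.1 h3
      have hT : ({a, b, e} : Finset α) = fixSet R α := Finset.eq_of_subset_of_card_le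
        (fun z hz => mem_fixSet.2 fun g hg => by
          obtain ⟨h1, h2, h3⟩ := mem_stab3.1 hg
          simp only [Finset.mem_insert, Finset.mem_singleton] at hz
          rcases hz with rfl | rfl | rfl
          · exact h1
          · exact h2
          · exact h3)
        (by rw [O.card_fixSet hab hea heb, Finset.card_eq_three.2 ⟨a, b, e, hab, hea.symm, heb.symm, rfl⟩])
      rw [← hT] at hfix
      simp only [Finset.mem_insert, Finset.mem_singleton] at hfix
      rcases hfix with h | h | h
      · exact absurd h (ne_of_fix hea n.2.1)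
      · exact absurd h (ne_of_fix heb n.2.2)
      · exact h
    refine mem_centralizer_iff.2 fun r hr => Subtype.ext ?_
    exact hcomm _ (Subgroup.mem_subgroupOf.1 hr) _ (mem_stab3.2 ⟨n.2.1, n.2.2, hne⟩)
  set M := (MonoidHom.transferSylow Q hNC).ker with hM
  have hM3 : ∀ d : D, d ∈ M ↔ ¬ 3 ∣ orderOf (d : G) := fun d => by
    rw [Subgroup.orderOf_coe]
    constructor
    · intro hd h
      refine MonoidHom.not_dvd_card_ker_transferSylow Q hNC (h.trans ?_)
      rw [← orderOf_mk d hd]
      exact orderOf_dvd_natCard _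
    · intro hd
      rw [hM, MonoidHom.mem_ker, ← orderOf_eq_one_iff]
      have h1 := orderOf_map_dvd (MonoidHom.transferSylow Q hNC) d
      have h2 : orderOf (MonoidHom.transferSylow Q hNC d) ∣ 3 := orderOf_dvd_of_pow_eq_one (by
        apply Subtype.ext; apply Subtype.ext
        simpa using hexp _ (Subgroup.mem_subgroupOf.1 (MonoidHom.transferSylow Q hNC d).2))
      rcases (Nat.dvd_prime (by norm_num)).1 h2 with h | h
      · exact h
      · exact absurd (h ▸ h1) hd
  refine ⟨M, MonoidHom.normal_ker _, ?_, hM3, fun m hm h => ?_⟩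
  · have h1 := (MonoidHom.ker_transferSylow_isComplement' Q hNC).card_mul_card
    rw [← hM, hQe, Nat.card_congr (Subgroup.subgroupOfEquivOfLe hRD).toEquiv, hDc] at h1
    exact Nat.eq_of_mul_eq_mul_right Nat.card_pos h1
  · have hmR : ((m : D) : G) ∈ R := mem_stab3.2 ⟨m.2.1, m.2.2, h⟩
    have h1 := orderOf_dvd_of_pow_eq_one (hexp _ hmR)
    rcases (Nat.dvd_prime (by norm_num)).1 h1 with h' | h'
    · exact Subtype.ext (orderOf_eq_one_iff.1 h')
    · exact absurd (by rw [h']) ((hM3 m).1 hm)

set_option maxHeartbeats 1000000 in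
theorem One.false (O : One α P) : False := by
  classical
  have hp5 := O.hyp.p5
  haveI := O.hyp.faith
  obtain ⟨a, b, hab⟩ : ∃ a b : α, a ≠ b :=
    Fintype.one_lt_card_iff.1 (by rw [O.hyp.card_fintype]; omega)
  obtain ⟨t, e, hto, hta, htb, hte, hea, heb, huniq⟩ := O.exists_swapper hab
  have htt := sq_one_of_orderOf hto
  set D := stab2 G a b with hD
  set R := stab3 G a b e with hR
  obtain ⟨hcomm, -⟩ := O.stab3_elementary hab hea heb
  obtain ⟨-, hbound⟩ := O.rho_bound hab hea heb
  obtain ⟨M, hMn, hMc, hM3, hMR⟩ := O.exists_complement hab hea heb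
  haveI := hMn
  have hRD : R ≤ D := inf_le_left
  have huniqM : ∀ m m' : M, ((m : D) : G) • e = ((m' : D) : G) • e → m = m' := fun m m' h => by
    have h1 := hMR _ (mul_mem (inv_mem m'.2) m.2) (by
      rw [Subgroup.coe_mul, Subgroup.coe_inv, mul_smul, h, inv_smul_smul])
    exact (inv_mul_eq_one.1 (Subtype.ext h1 : m'⁻¹ * m = 1)).symm
  -- conjugation by the swapper
  have hswD : ∀ d : D, t * (d : G) * t ∈ D := fun d => by
    constructor
    · show (t * (d : G) * t) • a = a
      rw [mul_smul, mul_smul, hta, show (d : G) • b = b from d.2.2, htb]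
    · show (t * (d : G) * t) • b = b
      rw [mul_smul, mul_smul, htb, show (d : G) • a = a from d.2.1, hta]
  have hswM : ∀ m : M, (⟨t * ((m : D) : G) * t, hswD m⟩ : D) ∈ M := fun m => by
    refine (hM3 _).2 ?_
    show ¬ 3 ∣ orderOf (t * ((m : D) : G) * t)
    rw [show t * ((m : D) : G) * t = t * ((m : D) : G) * t⁻¹ by rw [inv_eq_of_mul_eq_one_right htt],
      BlockCharsA.RegularPart.orderOf_conj']
    exact (hM3 _).1 m.2
  let φ : M →* M := MonoidHom.mk' (fun m => ⟨_, hswM m⟩) fun m m' => by
    ext
    simp only [Subgroup.coe_mul]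
    calc t * (((m : D) : G) * ((m' : D) : G)) * t
        = t * ((m : D) : G) * (t * t) * ((m' : D) : G) * t := by rw [htt]; group
      _ = _ := by group
  have hinvφ : Function.Involutive φ := fun m => by
    ext
    show t * (t * ((m : D) : G) * t) * t = _
    calc t * (t * ((m : D) : G) * t) * t = (t * t) * ((m : D) : G) * (t * t) := by group
      _ = _ := by rw [htt]; group
  have hfpf : MonoidHom.FixedPointFree φ := fun m hm => by
    have h : t * ((m : D) : G) * t = ((m : D) : G) := congrArg (fun x : M => ((x : D) : G)) hm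
    have h1 : t • (((m : D) : G) • e) = ((m : D) : G) • e := by
      conv_rhs => rw [← h, mul_smul, mul_smul, hte]
    exact Subtype.ext (hMR _ m.2 (huniq _ h1))
  letI : CommGroup M := { (inferInstance : Group M) with
    mul_comm := fun u v => hfpf.commute_all_of_involutive hinvφ u v }
  letI : CommGroup R := { (inferInstance : Group R) with
    mul_comm := fun r s => Subtype.ext (hcomm _ r.2 _ s.2) }
  let c : R →* MulAut M := MonoidHom.mk' (fun r => MulAut.conjNormal (Subgroup.inclusion hRD r))
    fun r s => by rw [map_mul, map_mul]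
  have hval : ∀ (r : R) (m : M), ((c r m : D) : G) • e = (r : G) • (((m : D) : G) • e) := fun r m => by
    show ((MulAut.conjNormal (Subgroup.inclusion hRD r) m : D) : G) • e = _
    rw [MulAut.conjNormal_apply]
    simp only [Subgroup.coe_mul, Subgroup.coe_inv, Subgroup.coe_inclusion, mul_smul]
    rw [show (r : G)⁻¹ • e = e from (mem_stab3.1 (inv_mem r.2)).2.2]
  have hstab : ∀ (r : R) (m : M), c r m = m ↔ (r : G) • (((m : D) : G) • e) = ((m : D) : G) • e :=
    fun r m => ⟨fun h => by rw [← hval, h], fun h => huniqM _ _ ((hval r m).trans h)⟩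
  have hidx : ∀ m : M, m ≠ 1 → 3 * Nat.card {r : R // c r m = m} = Nat.card R := fun m hm => by
    have h1 := O.orbit_three hab hea heb (x := ((m : D) : G) • e) (ne_of_fix hea (m : D).2.1)
      (ne_of_fix heb (m : D).2.2) (fun h => hm (Subtype.ext (hMR _ m.2 h)))
    rw [Nat.card_congr (MulAction.orbitEquivQuotientStabilizer R (((m : D) : G) • e))] at h1
    have h2 := Subgroup.index_mul_card (MulAction.stabilizer R (((m : D) : G) • e))
    rw [show (MulAction.stabilizer R (((m : D) : G) • e)).index = 3 from h1] at h2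
    rw [← h2]
    congr 1
    exact Nat.card_congr (Equiv.subtypeEquivRight fun r => hstab r m)
  have hf : ∀ r : R, (∀ m, c r m = m) → r = 1 := fun r hr => by
    apply Subtype.ext
    refine FaithfulSMul.eq_of_smul_eq_smul (α := α) fun x => ?_
    rw [Subgroup.coe_one, one_smul]
    obtain ⟨h1, h2, -⟩ := mem_stab3.1 r.2
    by_cases hxa : x = a
    · rw [hxa, h1]
    by_cases hxb : x = b
    · rw [hxb, h2]
    haveI : Fintype M := Fintype.ofFinite _
    set U := (Finset.univ : Finset α) \ {a, b} with hU
    have hUc : U.card = 3 * p - 2 := by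
      rw [hU, Finset.card_sdiff_of_subset (Finset.subset_univ _), Finset.card_univ,
        O.hyp.card_fintype, Finset.card_pair hab]
    have himg : (Finset.univ.image fun m : M => ((m : D) : G) • e) = U := by
      refine Finset.eq_of_subset_of_card_le (fun z hz => ?_) ?_
      · obtain ⟨m, -, rfl⟩ := Finset.mem_image.1 hz
        simp only [hU, Finset.mem_sdiff, Finset.mem_univ, true_and, Finset.mem_insert,
          Finset.mem_singleton, not_or]
        exact ⟨ne_of_fix hea (m : D).2.1, ne_of_fix heb (m : D).2.2⟩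
      · rw [Finset.card_image_of_injective _ fun m m' => huniqM m m', Finset.card_univ,
          ← Nat.card_eq_fintype_card, hMc, hUc]
    have hxU : x ∈ U := by simp [hU, hxa, hxb]
    rw [← himg] at hxU
    obtain ⟨m, -, rfl⟩ := Finset.mem_image.1 hxU
    exact (hstab r m).1 (hr m)
  have hne : ∃ u : M, u ≠ 1 := by
    by_contra hh
    push Not at hh
    haveI : Subsingleton M := ⟨fun x y => (hh x).trans (hh y).symm⟩
    have := Nat.card_of_subsingleton (1 : M)
    omega
  have h3 : Nat.card (stab3 G a b e) ≤ 3 := card_le_three c hidx hf hne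
  omega

end Cfsg.Agent.DegreeThreeP
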