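import Cfsg.Agent.Lib.DegreeThreeP.Frame
import Cfsg.Agent.Lib.DegreeThreeP.OneFinal
import Cfsg.Agent.Lib.CharTheory.DihedralPrincipal.Main
import Cfsg.Agent.S4483

/-!
# Degree `3 p`: the doubly transitive case
-/

set_option autoImplicit false
set_option linter.style.haveILetI false
set_option linter.unusedSectionVars false

namespace Cfsg.Agent.DegreeThreeP

open Cfsg.Agent.Characters Cfsg.Agent.Blocks Subgroup Cfsg.Agent.PrimeBlock
open Cfsg.Agent.CharTheory.DihedralPrincipal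
open scoped ComplexConjugate
open scoped _root_.Classical

universe u v

variable {G : Type u} [Group G] [Finite G] {α : Type v} [MulAction G α] [Finite α] {p : ℕ}
  [Fact p.Prime] {P : Sylow p G}

/-- Every `p`-singular element is conjugate to its inverse. -/
theorem Hyp.isConj_inv (H : Hyp α P) (S : Blk P) {g : G} (hg : p ∣ orderOf g) : IsConj g g⁻¹ := by
  obtain ⟨-, x, hx, hx1, hxg⟩ := Brauer.singular S.D H.card_centralizer hg
  obtain ⟨z, hz⟩ := H.exists_involution
  obtain ⟨c, hc⟩ := H.exists_inverts S hz hx hx1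
  obtain ⟨a, ha⟩ := isConj_iff.1 hxg
  exact hxg.symm.trans ((isConj_iff.2 ⟨_, hc⟩ : IsConj x x⁻¹).trans
    (isConj_iff.2 ⟨a, by rw [← ha]; group⟩))

/-- A character is real if it is real on the `p`-regular elements. -/
theorem Hyp.im_eq_zero (H : Hyp α P) (S : Blk P) (χ : Cfsg.IrrCharacter G)
    (h : ∀ g : G, ¬ p ∣ orderOf g → ((χ : G → ℂ) g).im = 0) (g : G) : ((χ : G → ℂ) g).im = 0 := by
  by_cases hg : p ∣ orderOf g
  · rw [← Complex.conj_eq_iff_im, ← char_inv (irr_isCharacter χ)]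
    exact (Brauer.classFun_conj (irr_isClassFunction χ) (H.isConj_inv S hg)).symm
  · exact h g hg

theorem Hyp.not_dvd_four (H : Hyp α P) {g : G} (hg : orderOf g ∣ 4) : ¬ p ∣ orderOf g := fun h => by
  have h1 := Nat.le_of_dvd (by norm_num) (h.trans hg)
  have := H.p5
  omega

/-- The two-part of `p - 1`. -/
theorem Hyp.two_le_nu (H : Hyp α P) {z : G} (hz : orderOf z = 2) (h3 : fx α z = 3) :
    p % 4 = 1 ∧ 2 ≤ (p - 1).factorization 2 := by
  have h := (H.four_dvd_moved hz).2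
  rw [h3] at h
  have := H.p5
  refine ⟨by omega, (Nat.prime_two.pow_dvd_iff_le_factorization (by omega)).1 ?_⟩
  norm_num
  omega

variable {Q : Sylow 2 G} {a b c : α} {σ τ : G}

theorem Frame.τc (F : Frame α Q a b c σ τ) : τ • c = b := by
  rw [← F.τb, ← mul_smul, F.dih.τ_sq, one_smul]

theorem Frame.σc (F : Frame α Q a b c σ τ) : σ • c = b := by
  rw [← F.τb, ← mul_smul, F.στb]

theorem Frame.σb (F : Frame α Q a b c σ τ) : σ • b = c :=
  (F.pre.perm σ F.dih.σ_mem).resolve_left fun e =>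
    F.pre.hbc (MulAction.injective σ (e.trans F.σc.symm))

theorem Frame.fx_σ (F : Frame α Q a b c σ τ) : fx α σ = 1 := by
  rw [fx, Nat.card_eq_one_iff_unique]
  refine ⟨⟨fun x y => Subtype.ext ?_⟩, ⟨⟨a, F.pre.fixa σ F.dih.σ_mem⟩⟩⟩
  have key : ∀ x : α, σ • x = x → x = a := fun x hx => by
    by_contra hxa
    have hxb : x ≠ b := fun e => F.pre.hbc (by rw [← F.σb, ← e, hx])
    have hxc : x ≠ c := fun e => F.pre.hbc (by rw [← F.σc, ← e, hx])
    exact F.dih.J_ne_one (F.pre.free _ (pow_mem F.dih.σ_mem 2) F.Jb x hxa hxb hxc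
      (by rw [pow_two, mul_smul, hx, hx]))
  rw [key x x.2, key y y.2]

theorem Frame.order_σ (F : Frame α Q a b c σ τ) : orderOf σ = 4 := F.dih.order_σ

theorem Hyp.not_large_three (H : Hyp α P) (S : Blk P) (hs : S.D.sgn S.χ = -1) (hε : S.D.ε = -1)
    (hf : deg S.χ + 1 = 3 * p) (hπ : ∀ g : G, (fx α g : ℂ) = 1 + (S.χ : G → ℂ) g)
    (h3 : ∀ z : G, orderOf z = 2 → fx α z = 3) : False := by
  haveI := Fintype.ofFinite G
  haveI := Fintype.ofFinite (Cfsg.IrrCharacter G)
  have hp0 : p.Prime := Fact.out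
  have hp5 := H.p5
  obtain ⟨z, hz⟩ := H.exists_involution
  obtain ⟨hp4, hν2⟩ := H.two_le_nu hz (h3 z hz)
  have hu : (S.χ : G → ℂ) z = ((2 : ℤ) : ℂ) := by
    have := hπ z
    rw [h3 z hz] at this
    push_cast at this ⊢
    linear_combination -this
  have hF := H.formula S hz hu
  rw [hs] at hF
  set c0 := Nat.card (centralizer ({z} : Set G)) with hc0
  have hnat : Nat.card G * (3 * (p - 1)) ^ 2 = c0 ^ 2 * (p * ((3 * p - 1) * (3 * p - 2))) := by
    have : ((Nat.card G * (3 * (p - 1)) ^ 2 : ℕ) : ℤ) =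
        ((c0 ^ 2 * (p * ((3 * p - 1) * (3 * p - 2))) : ℕ) : ℤ) := by
      have e1 : ((3 * (p - 1) : ℕ) : ℤ) = (deg S.χ : ℤ) - 2 := by omega
      have e2 : ((3 * p - 1 : ℕ) : ℤ) = (deg S.χ : ℤ) := by omega
      have e3 : ((3 * p - 2 : ℕ) : ℤ) = (deg S.χ : ℤ) + -1 := by omega
      simp only [Nat.cast_mul, Nat.cast_pow] at e1 ⊢
      rw [e1, e2, e3, hF]
      ring
    exact_mod_cast this
  have hgc := H.factorization_centralizer S hz
  rw [← hc0] at hgc
  have h2p := two_part Nat.card_pos.ne' Nat.card_pos.ne'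
    (pow_ne_zero 2 (mul_ne_zero (by norm_num) (by omega)))
    (mul_ne_zero hp0.ne_zero (mul_ne_zero (by omega) (by omega))) hgc hnat
  have hv1 : (3 * p - 1).factorization 2 = 1 := by
    rw [show 3 * p - 1 = 2 * (6 * (p / 4) + 1) by omega, Nat.factorization_mul two_ne_zero (by omega),
      Finsupp.add_apply, Nat.prime_two.factorization_self,
      Nat.factorization_eq_zero_of_not_dvd (show ¬ 2 ∣ 6 * (p / 4) + 1 by omega)]
  rw [Nat.factorization_pow, Finsupp.smul_apply, Nat.factorization_mul (by norm_num) (by omega),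
    Finsupp.add_apply, Nat.factorization_mul hp0.ne_zero (mul_ne_zero (by omega) (by omega)),
    Finsupp.add_apply, Nat.factorization_mul (by omega) (by omega), Finsupp.add_apply, hv1,
    Nat.factorization_eq_zero_of_not_dvd (show ¬ 2 ∣ 3 by norm_num),
    Nat.factorization_eq_zero_of_not_dvd (show ¬ 2 ∣ p by omega),
    Nat.factorization_eq_zero_of_not_dvd (show ¬ 2 ∣ 3 * p - 2 by omega), smul_eq_mul] at h2p
  have hle := (H.exists_pre S h3 (rfl : (p - 1).factorization 2 = _)).1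
  obtain ⟨Q, a, b, c, σ, τ, F⟩ := H.exists_frame S h3 (by omega) (by omega)
  obtain ⟨M, hM⟩ := BlockCharsA.DefectZeroVanish.exists_modular Nat.prime_two
  obtain ⟨c1, c2, c3, d1, d2, d3, X, T⟩ := exists_principal F.dih hM
    (Complex.isPrimitiveRoot_exp (2 * 2) (by norm_num))
  have hval : ∀ θ ∈ S.D.Y, ∀ g : G, ¬ p ∣ orderOf g → (θ : G → ℂ) g = (fx α g : ℂ) - 2 :=
    fun θ hθ g hg => by
      rw [S.Y_regular hθ hg, hε, hs]
      push_cast
      linear_combination -(hπ g)
  have hdeg : ∀ θ ∈ S.D.Y, deg θ + 2 = 3 * p := fun θ hθ => by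
    have h1 := hval θ hθ 1 (by rw [orderOf_one]; exact hp0.not_dvd_one)
    rw [← deg_cast, H.fx_one] at h1
    have : ((deg θ + 2 : ℕ) : ℂ) = ((3 * p : ℕ) : ℂ) := by push_cast at h1 ⊢; linear_combination h1
    exact_mod_cast this
  have hJ : (fx α (σ ^ 2) : ℂ) = 3 := by rw [h3 _ F.dih.orderOf_J]; norm_num
  have hY : ∀ θ ∈ S.D.Y, (θ = c2 ∨ θ = c3) ∧ (θ : G → ℂ) σ = -1 := fun θ hθ => by
    have hm : θ ∈ Cfsg.principalBlock M G := (Cfsg.Agent.S4483.result (G := G) M hM).1 θ
      (fun g => H.im_eq_zero S θ (fun g hg => by rw [hval θ hθ g hg]; simp) g)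
      (by show Odd (deg θ); have := hdeg θ hθ; rw [Nat.odd_iff]; omega)
    have v1 : (θ : G → ℂ) σ = -1 := by
      rw [hval θ hθ σ (H.not_dvd_four (dvd_of_eq F.order_σ)), F.fx_σ]; norm_num
    have v2 : (θ : G → ℂ) (σ ^ 2) = 1 := by
      rw [hval θ hθ _ (H.not_dvd_four (by rw [F.dih.orderOf_J]; norm_num)), hJ]; norm_num
    refine ⟨?_, v1⟩
    rcases (T.mem θ).1 hm with e | e | e | e | ⟨j, hj0, hj2, e⟩
    · exact absurd e (S.Y_ne hθ).1
    · exfalso
      have h1 := T.val1 1 one_pos (by norm_num)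
      have h2 := T.val1 2 two_pos (by norm_num)
      rw [pow_one, ← e, v1] at h1
      rw [← e, v2, ← h1] at h2
      norm_num at h2
    · exact Or.inl e
    · exact Or.inr e
    · exfalso
      obtain rfl : j = 1 := by omega
      have h2 := T.valX 1 one_pos one_lt_two 2 two_pos (by norm_num)
      rw [gv_half (Complex.isPrimitiveRoot_exp (2 * 2) (by norm_num)) two_pos 1, ← e, v2] at h2
      have h3 : ((1 : ℤ) : ℂ) = ((d1 * (2 * -1) : ℤ) : ℂ) := by
        push_cast; linear_combination h2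
      have := Int.cast_inj.1 h3
      omega
  have hsub : S.D.Y ⊆ {c2, c3} := fun θ hθ => by
    simpa using (hY θ hθ).1
  have hYe : S.D.Y = {c2, c3} := Finset.eq_of_subset_of_card_le hsub (by
    have := S.Y_card
    have := (Finset.card_le_two : ({c2, c3} : Finset (Cfsg.IrrCharacter G)).card ≤ 2)
    omega)
  have hp : p = 5 := by
    have := S.Y_card
    rw [hYe, Finset.card_pair T.ne23] at this
    omega
  have hm2 : c2 ∈ S.D.Y := by rw [hYe]; simp
  have hm3 : c3 ∈ S.D.Y := by rw [hYe]; simp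
  have hd2 : (d2 : ℂ) = -1 := by
    rw [← (hY c2 hm2).2, ← pow_one σ, T.val2 1 one_pos (by norm_num)]; norm_num
  have hd3 : (d3 : ℂ) = -1 := by
    rw [← (hY c3 hm3).2, ← pow_one σ, T.val3 1 one_pos (by norm_num)]; norm_num
  have hreg := (T.reg 1 (by simp)).1
  rw [hd2, hd3, ← deg_cast, ← deg_cast, ← deg_cast] at hreg
  have h25 : deg c1 = 25 := by
    have e2 := hdeg c2 hm2
    have e3 := hdeg c3 hm3
    have : ((d1 * deg c1 : ℤ) : ℂ) = ((25 : ℤ) : ℂ) := by
      have f2 : (deg c2 : ℂ) = 13 := by rw [show deg c2 = 13 by omega]; norm_num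
      have f3 : (deg c3 : ℂ) = 13 := by rw [show deg c3 = 13 by omega]; norm_num
      rw [f2, f3] at hreg
      push_cast
      linear_combination hreg
    have h' : d1 * (deg c1 : ℤ) = 25 := Int.cast_inj.1 this
    rcases mul_self_eq_one_iff.1 T.sq1 with e | e <;> rw [e] at h' <;> omega
  refine H.not_sq_dvd ?_
  have := char_degree_dvd_card c1
  rw [show Cfsg.charDegree (c1 : G → ℂ) = deg c1 from rfl, h25] at this
  rw [hp]
  exact this

theorem Hyp.not_large (H : Hyp α P) (S : Blk P) (hs : S.D.sgn S.χ = -1) (hε : S.D.ε = -1)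
    (hf : deg S.χ + 1 = 3 * p) (hπ : ∀ g : G, (fx α g : ℂ) = 1 + (S.χ : G → ℂ) g) : False := by
  haveI := Fintype.ofFinite G
  haveI := Fintype.ofFinite α
  by_cases h : ∀ z : G, orderOf z = 2 → fx α z = 1
  · exact One.false ({ toTwo := H.two_of_perm S hπ, one := h, blk := ⟨S⟩ } : One α P)
  · push Not at h
    obtain ⟨z, hz, hne⟩ := h
    exact H.not_large_three S hs hε hf hπ fun w hw => by
      rw [H.fx_eq S hz hw, (H.fx_involution S hz).resolve_left hne]

end Cfsg.Agent.DegreeThreeP
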