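import Mathlib.GroupTheory.Perm.List
import Mathlib.GroupTheory.GroupAction.Primitive
import Cfsg.Agent.S0713

/-!
# A primitive group containing a full Sylow subgroup of the symmetric group
-/

set_option autoImplicit false
set_option linter.style.haveILetI false
set_option linter.unusedSectionVars false

namespace Cfsg.Agent.DegreeThreeP

open Subgroup Equiv

universe u v

theorem factorization_lt_of_primitive {G : Type u} [Group G] [Finite G] {α : Type v}
    [MulAction G α] [FaithfulSMul G α] [MulAction.IsPreprimitive G α] [Finite α] {n q : ℕ}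
    (hq : q.Prime) (hn : Nat.card α = n) (hn5 : 5 ≤ n) (hqn : q + 3 ≤ n)
    (hsmall : 2 * Nat.card G < n.factorial) :
    (Nat.card G).factorization q < n.factorial.factorization q := by
  classical
  by_contra hle
  push Not at hle
  haveI := Fintype.ofFinite α
  haveI := Fact.mk hq
  have hnf : Fintype.card α = n := by rw [← Nat.card_eq_fintype_card, hn]
  set f := MulAction.toPermHom G α with hf
  have hinj : Function.Injective f := fun g h e =>
    FaithfulSMul.eq_of_smul_eq_smul (α := α) fun d => DFunLike.congr_fun e d
  set R := f.range with hR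
  have hRc : Nat.card R = Nat.card G := (Nat.card_congr (MonoidHom.ofInjective hinj).toEquiv).symm
  have hprim : MulAction.IsPreprimitive R α :=
    MulAction.IsPreprimitive.of_surjective
      (f := ({ toFun := id, map_smul' := fun g a => rfl } : α →ₑ[f.rangeRestrict] α))
      Function.surjective_id
  -- a cycle of length `q`
  obtain ⟨s, -, hs⟩ := Finset.exists_subset_card_eq (s := (Finset.univ : Finset α)) (n := q)
    (by rw [Finset.card_univ, hnf]; omega)
  set γ : Perm α := s.toList.formPerm with hγ
  have hlen : s.toList.length = q := by rw [Finset.length_toList, hs]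
  have hcyc : γ.IsCycle := List.isCycle_formPerm (Finset.nodup_toList s) (by
    rw [hlen]; exact hq.two_le)
  have hsupp : γ.support.card = q := by
    rw [hγ, List.support_formPerm_of_nodup _ (Finset.nodup_toList s) (fun a ha => by
      have := congrArg List.length ha
      rw [hlen] at this
      simp at this
      exact hq.ne_one this), Finset.toList_toFinset, hs]
  -- the full Sylow subgroup
  obtain ⟨Q⟩ : Nonempty (Sylow q G) := inferInstance
  obtain ⟨T, hT⟩ := (Q.isPGroup'.map f).exists_le_sylow
  have hTQ : (Q : Subgroup G).map f = (T : Subgroup (Perm α)) := by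
    refine eq_of_le_of_card_ge hT ?_
    rw [card_map_of_injective hinj, Q.card_eq_multiplicity, T.card_eq_multiplicity, Nat.card_perm, hn]
    exact Nat.pow_le_pow_right hq.pos hle
  obtain ⟨U, hU⟩ := (IsPGroup.of_card (n := 1) (by
      rw [Nat.card_zpowers, hcyc.orderOf, hsupp, pow_one]) :
    IsPGroup q (zpowers γ)).exists_le_sylow
  obtain ⟨c, hc⟩ := MulAction.exists_smul_eq (Perm α) U T
  have hmem : c * γ * c⁻¹ ∈ R := by
    have h1 : c * γ * c⁻¹ ∈ (T : Subgroup (Perm α)) := by
      rw [← hc, Sylow.coe_subgroup_smul]
      exact ⟨γ, hU (mem_zpowers γ), rfl⟩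
    rw [← hTQ] at h1
    obtain ⟨g, -, hg⟩ := h1
    exact ⟨g, hg⟩
  have hA := Cfsg.Agent.S0713.result R hprim hq (by omega) (by omega) (hcyc.conj) (g := c * γ * c⁻¹)
    (by rw [Perm.card_support_conj, hsupp]) hmem
  have h2 := Nat.le_of_dvd Nat.card_pos (card_dvd_of_le hA)
  haveI : Nontrivial α := Fintype.one_lt_card_iff_nontrivial.1 (by omega)
  rw [hRc] at h2
  have h3 : 2 * Nat.card (alternatingGroup α) = n.factorial := by
    rw [Nat.card_eq_fintype_card, two_mul_card_alternatingGroup, Fintype.card_perm, hnf]
  omega

end Cfsg.Agent.DegreeThreeP
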