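import Cfsg.Agent.Lib.DegreeThreeP.MiddlePairs
import Cfsg.Agent.Lib.DegreeThreeP.CycleBound

/-!
# Degree `3 p`, rank three: only `p = 5` and the order `360`
-/

set_option autoImplicit false
set_option linter.style.haveILetI false
set_option linter.unusedSectionVars false

namespace Cfsg.Agent.DegreeThreeP

open Cfsg.Agent.Characters Cfsg.Agent.Blocks Subgroup Cfsg.Agent.PrimeBlock
open Cfsg.Agent.PrimeBlock.DoubleDegree
open scoped _root_.Classical

universe u v

theorem middle_arith {p g o v1 v2 R : ℕ} (hp : p % 8 = 5) (ho : 0 < o) (hv1 : 0 < v1) (hv2 : 0 < v2)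
    (hg : g * (2 * (p - 1)) = p * (8 * o) ^ 2 * (2 * p - 1))
    (h1 : (p - 1) * (v1 * v2) ^ 2 = o * (v1 + v2) ^ 2) (h2 : (p - 1) * (v1 * v2) ≤ 4 * o)
    (hR : o ^ 3 ≤ R * v2 ^ 2) (hX : 24 * p * R ≤ g) : p = 5 ∧ g = 360 * v2 ^ 4 := by
  obtain ⟨q, rfl⟩ : ∃ q, p = q + 1 := ⟨p - 1, by omega⟩
  simp only [Nat.add_sub_cancel] at hg h1 h2
  rw [show 2 * (q + 1) - 1 = 2 * q + 1 by omega] at hg
  have h3 : o * (v1 + v2) ^ 2 ≤ o * (4 * (v1 * v2)) := by
    rw [← h1, show o * (4 * (v1 * v2)) = 4 * o * (v1 * v2) by ring,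
      show q * (v1 * v2) ^ 2 = q * (v1 * v2) * (v1 * v2) by ring]
    exact Nat.mul_le_mul_right _ h2
  have h4 := Nat.le_of_mul_le_mul_left h3 ho
  have hv : v1 = v2 := by
    have h5 : ((v1 : ℤ) + v2) ^ 2 ≤ 4 * (v1 * v2) := by exact_mod_cast h4
    have h6 : ((v1 : ℤ) - v2) ^ 2 = 0 := le_antisymm (by nlinarith) (sq_nonneg _)
    have h7 := (pow_eq_zero_iff two_ne_zero).1 h6
    omega
  subst hv
  have hov : q * v1 ^ 2 = 4 * o := by
    refine Nat.eq_of_mul_eq_mul_left (show 0 < v1 ^ 2 by positivity) ?_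
    linear_combination h1
  have e1 : 3 * R * q ≤ 4 * o ^ 2 * (2 * q + 1) := by
    refine Nat.le_of_mul_le_mul_left ?_ (show 0 < 16 * (q + 1) by omega)
    calc 16 * (q + 1) * (3 * R * q) = 24 * (q + 1) * R * (2 * q) := by ring
      _ ≤ g * (2 * q) := Nat.mul_le_mul_right _ hX
      _ = _ := by rw [hg]; ring
  have e2 : 3 * o * q ≤ 4 * v1 ^ 2 * (2 * q + 1) := by
    refine Nat.le_of_mul_le_mul_left ?_ (show 0 < o ^ 2 by positivity)
    calc o ^ 2 * (3 * o * q) = 3 * q * o ^ 3 := by ring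
      _ ≤ 3 * q * (R * v1 ^ 2) := Nat.mul_le_mul_left _ hR
      _ = 3 * R * q * v1 ^ 2 := by ring
      _ ≤ 4 * o ^ 2 * (2 * q + 1) * v1 ^ 2 := Nat.mul_le_mul_right _ e1
      _ = _ := by ring
  have e3 : 3 * q ^ 2 ≤ 16 * (2 * q + 1) := by
    refine Nat.le_of_mul_le_mul_left ?_ (show 0 < v1 ^ 2 by positivity)
    calc v1 ^ 2 * (3 * q ^ 2) = 3 * q * (q * v1 ^ 2) := by ring
      _ = 4 * (3 * o * q) := by rw [hov]; ring
      _ ≤ 4 * (4 * v1 ^ 2 * (2 * q + 1)) := Nat.mul_le_mul_left _ e2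
      _ = _ := by ring
  have hq : q = 4 := by
    by_contra hne
    have hq12 : 12 ≤ q := by omega
    nlinarith
  subst hq
  refine ⟨rfl, ?_⟩
  have hov' : o = v1 ^ 2 := by omega
  subst hov'
  refine Nat.eq_of_mul_eq_mul_right (show 0 < 2 * 4 by norm_num) ?_
  rw [hg]; ring

variable {G : Type u} [Group G] [Fintype G] {α : Type v} [MulAction G α] [Fintype α] {p : ℕ}
  [Fact p.Prime] {P : Sylow p G}

theorem Hyp.middle (H : Hyp α P) (S : Blk P) (hprim : MulAction.IsPreprimitive G α)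
    {ψ : Cfsg.IrrCharacter G} (M : Mid α S ψ) : p = 5 ∧ Nat.card G = 360 := by
  haveI := Fact.mk Nat.prime_two
  have hp0 : p.Prime := Fact.out
  have hp5 := H.p5
  have h3 : ∀ z : G, orderOf z = 2 → fx α z = 3 := by
    by_cases h : ∀ z : G, orderOf z = 2 → fx α z = 1
    · exact (M.not_one H h).elim
    · push Not at h
      obtain ⟨z, hz, hne⟩ := h
      exact fun w hw => by rw [H.fx_eq S hz hw, (H.fx_involution S hz).resolve_left hne]
  obtain ⟨hvg, hν⟩ := M.sylow_eight H h3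
  obtain ⟨Q, a, b, c, σ, τ, F⟩ := H.exists_frame S h3 hvg hν
  have C : Ctx α S ψ Q a b c σ τ := ⟨H, M, h3, F⟩
  obtain ⟨R, hRX, hR⟩ := C.exists_bound
  obtain ⟨hq1, hq2⟩ := C.pair_counts
  have hform := M.formula H h3 C.hJ
  rw [C.card_centralizer_J] at hform
  set o := (oddC (σ ^ 2) (σ ^ 2)).card
  set v1 := (oddC (σ ^ 2) τ).card with hv1
  set v2 := (oddC (σ ^ 2) (σ * τ)).card with hv2
  have hne : ∀ w : G, 1 ≤ (oddC (σ ^ 2) w).card := fun w =>
    Finset.card_pos.2 ⟨1, mem_oddC.2 ⟨Commute.one_left _, Commute.one_left _, by simp⟩⟩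
  have hX : 24 * p * Nat.card R ≤ Nat.card G := by
    have h := H.kk_mul a b
    have hle : Nat.card (stab3 G a b c) ≤ Nat.card (stab2 G a b) := card_le_of_le inf_le_left
    have hk : 2 ≤ kk (orb G a b) a := by
      rw [kk, ← Finset.card_pair F.pre.hbc]
      refine Finset.card_le_card fun y hy => Finset.mem_filter.2 ⟨Finset.mem_univ _, ?_⟩
      rcases Finset.mem_insert.1 hy with rfl | hy
      · rfl
      · rw [Finset.mem_singleton.1 hy, ← F.σb]
        conv_lhs => arg 2; rw [← F.pre.fixa σ F.dih.σ_mem]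
        exact orb_smul σ a b
    rw [hRX] at hle
    calc 24 * p * Nat.card R = 3 * p * (2 * (4 * Nat.card R)) := by ring
      _ ≤ 3 * p * (kk (orb G a b) a * Nat.card (stab2 G a b)) :=
        Nat.mul_le_mul_left _ (Nat.mul_le_mul hk hle)
      _ = Nat.card G := h
  have hp8 : p % 8 = 5 := by
    have h1 : 2 ^ 2 ∣ p - 1 := by have h := Nat.ordProj_dvd (p - 1) 2; rwa [hν] at h
    have h2 : ¬ 2 ^ 3 ∣ p - 1 := fun h => by
      rw [Nat.prime_two.pow_dvd_iff_le_factorization (by omega), hν] at h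
      omega
    omega
  obtain ⟨hp, hg⟩ := middle_arith (o := o) (v1 := v1) (v2 := v2) hp8 (hne _) (hne _) (hne _) hform hq1 hq2 hR hX
  refine ⟨hp, ?_⟩
  have hodd : ¬ 2 ∣ v2 := fun ⟨k, hk⟩ => by
    have hd : 2 ^ 4 ∣ Nat.card G := ⟨360 * k ^ 4, by rw [hg, hk]; ring⟩
    rw [Nat.prime_two.pow_dvd_iff_le_factorization Nat.card_pos.ne', hvg] at hd
    omega
  have hdvd : Nat.card G ∣ Nat.factorial 15 := by
    haveI := H.faith
    have hinj : Function.Injective (MulAction.toPermHom G α) := fun g h e =>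
      FaithfulSMul.eq_of_smul_eq_smul (α := α) fun c => DFunLike.congr_fun e c
    have := Subgroup.card_dvd_of_injective _ hinj
    rwa [Nat.card_perm, H.hα, hp] at this
  rw [hg, show Nat.factorial 15 = 360 * 3632428800 by norm_num [Nat.factorial]] at hdvd
  have hd4 := Nat.dvd_of_mul_dvd_mul_left (by norm_num) hdvd
  have hlt : v2 < 246 := by
    by_contra hge
    push Not at hge
    have := (Nat.pow_le_pow_left hge 4).trans (Nat.le_of_dvd (by norm_num) hd4)
    norm_num at this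
  have hdec : ∀ n < 246, n ^ 4 ∣ 3632428800 → ¬ 2 ∣ n → n = 1 ∨ n = 3 := by decide +kernel
  rcases hdec v2 hlt hd4 hodd with e | e
  · rw [hg, e]; norm_num
  · exfalso
    haveI := H.faith
    haveI := hprim
    have hg' : Nat.card G = 29160 := by rw [hg, e]; norm_num
    have h1 := factorization_lt_of_primitive (G := G) (α := α) (n := 15) (q := 3) (by norm_num)
      (by rw [H.hα, hp]) (by norm_num) (by norm_num) (by rw [hg']; norm_num [Nat.factorial])
    rw [hg', show 29160 = 40 * 3 ^ 6 from rfl,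
      show Nat.factorial 15 = 1793792000 * 3 ^ 6 by norm_num [Nat.factorial],
      Nat.factorization_mul (by norm_num) (by norm_num), Nat.factorization_mul (by norm_num) (by norm_num),
      Finsupp.add_apply, Finsupp.add_apply,
      Nat.factorization_eq_zero_of_not_dvd (show ¬ 3 ∣ 40 by norm_num),
      Nat.factorization_eq_zero_of_not_dvd (show ¬ 3 ∣ 1793792000 by norm_num)] at h1
    omega

end Cfsg.Agent.DegreeThreeP
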