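import Cfsg.Agent.Lib.DegreeThreeP.CaseSmall

/-!
# Degree `15`: exceptional characters of degree `7`
-/

set_option autoImplicit false
set_option linter.style.haveILetI false
set_option linter.unusedSectionVars false

namespace Cfsg.Agent.DegreeThreeP

open Cfsg.Agent.Characters Cfsg.Agent.Blocks Subgroup Cfsg.Agent.PrimeBlock

universe u v

variable {G : Type u} [Group G] [Finite G] {α : Type v} [MulAction G α] [Finite α] {p : ℕ}
  [Fact p.Prime] {P : Sylow p G}

theorem Hyp.not_seven (H : Hyp α P) (S : Blk P) (hp : p = 5) (hs : S.D.sgn S.χ = 1)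
    (hε : S.D.ε = 1) (hf : deg S.χ = 6)
    (hπ : ∀ g : G, (fx α g : ℂ) = 1 + ∑ θ ∈ S.D.Y, (θ : G → ℂ) g) : False := by
  classical
  haveI := Fintype.ofFinite G
  obtain ⟨z, hz⟩ := H.exists_involution
  have hzp := H.not_dvd_two hz
  obtain ⟨u, hu⟩ := ZStar.KleinFour.exists_int_value (irr_isCharacter S.χ) (sq_one_of_orderOf hz)
  have hcard : S.D.Y.card = 2 := by
    have := S.Y_card
    omega
  have hval : (fx α z : ℤ) = 3 + 2 * u := by
    have h := hπ z
    rw [Finset.sum_congr rfl fun θ hθ => S.Y_regular hθ hzp, Finset.sum_const, hcard, hε, hs, hu,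
      nsmul_eq_mul] at h
    push_cast at h
    have h' : ((fx α z : ℤ) : ℂ) = ((3 + 2 * u : ℤ) : ℂ) := by
      push_cast
      linear_combination h
    exact_mod_cast h'
  have hF := H.formula S hz hu
  rw [hs, hf, hp] at hF
  set c := Nat.card (centralizer ({z} : Set G)) with hc
  have hgc := H.factorization_centralizer S hz
  rw [← hc] at hgc
  have hg0 : Nat.card G ≠ 0 := Nat.card_pos.ne'
  have hc0 : c ≠ 0 := Nat.card_pos.ne'
  have hv4 : 2 ≤ (Nat.card G).factorization 2 :=
    (Nat.prime_two.pow_dvd_iff_le_factorization hg0).1 ((show 2 ^ 2 = 4 from rfl).symm ▸ H.four_dvd)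
  have f2 : (2 : ℕ).factorization 2 = 1 := Nat.prime_two.factorization_self
  have f36 : (36 : ℕ).factorization 2 = 2 := by
    rw [show 36 = 2 * 2 * 9 from rfl, Nat.factorization_mul (by norm_num) (by norm_num),
      Nat.factorization_mul (by norm_num) (by norm_num), Finsupp.add_apply, Finsupp.add_apply, f2,
      Nat.factorization_eq_zero_of_not_dvd (show ¬ 2 ∣ 9 by norm_num)]
  have f210 : (210 : ℕ).factorization 2 = 1 := by
    rw [show 210 = 2 * 105 from rfl, Nat.factorization_mul (by norm_num) (by norm_num),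
      Finsupp.add_apply, f2, Nat.factorization_eq_zero_of_not_dvd (show ¬ 2 ∣ 105 by norm_num)]
  have hnat : ∀ {A : ℕ}, ((6 : ℤ) - u) ^ 2 = A → Nat.card G * A = c ^ 2 * 210 := fun {A} hA => by
    rw [Nat.cast_ofNat, hA] at hF
    have : ((Nat.card G * A : ℕ) : ℤ) = ((c ^ 2 * 210 : ℕ) : ℤ) := by
      push_cast
      rw [hF]
      ring
    exact_mod_cast this
  rcases H.fx_involution S hz with e | e <;> rw [e] at hval <;> push_cast at hval
  · obtain rfl : u = -1 := by omega
    have h := two_part hg0 hc0 (by norm_num) (by norm_num) hgc (hnat (A := 49) (by norm_num))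
    rw [f210, Nat.factorization_eq_zero_of_not_dvd (show ¬ 2 ∣ 49 by norm_num)] at h
    omega
  · obtain rfl : u = 0 := by omega
    have h := two_part hg0 hc0 (by norm_num) (by norm_num) hgc (hnat (A := 36) (by norm_num))
    rw [f210, f36] at h
    omega

end Cfsg.Agent.DegreeThreeP
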