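import Cfsg.Agent.Lib.DegreeThreeP.Setup
import Cfsg.Agent.Lib.PrimeBlock.PrimeDegree.Main

/-!
# Degree `3 p`: the imprimitive groups
-/

set_option autoImplicit false
set_option linter.style.haveILetI false
set_option linter.unusedSectionVars false

namespace Cfsg.Agent.DegreeThreeP

open Subgroup

universe u v

variable {G : Type u} [Group G] [Finite G] {α : Type v} [MulAction G α] [Finite α] {p : ℕ}
  [Fact p.Prime] {P : Sylow p G}

theorem Hyp.not_normal (H : Hyp α P) : ¬ (P : Subgroup G).Normal := by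
  intro hn
  haveI := H.simple
  have hp : p.Prime := Fact.out
  rcases hn.eq_bot_or_eq_top with e | e
  · have := H.card_P
    rw [e, card_bot] at this
    exact hp.ne_one this.symm
  · have h := H.card_P
    rw [e, card_top] at h
    haveI : IsCyclic G := isCyclic_of_prime_card h
    exact H.not_comm ⟨⟨fun a b => IsCyclic.commGroup.mul_comm a b⟩⟩

theorem Hyp.imprimitive (H : Hyp α P) (hn : ¬ MulAction.IsPreprimitive G α) :
    ∃ (F : Type) (_ : Field F) (_ : Fintype F) (m : ℕ), Fintype.card F = 2 ^ m ∧ p = 2 ^ m + 1 ∧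
      Nonempty (G ≃* Matrix.ProjectiveSpecialLinearGroup (Fin 2) F) := by
  classical
  haveI := H.pretrans
  haveI := H.faith
  haveI := H.simple
  have hp : p.Prime := Fact.out
  have hp3 := H.p3
  obtain ⟨a⟩ := H.nonempty
  haveI : Nontrivial α := Finite.one_lt_card_iff_nontrivial.1 (by rw [H.hα]; omega)
  have hnc : ¬ IsCoatom (MulAction.stabilizer G a) := fun h =>
    hn ((MulAction.isCoatom_stabilizer_iff_preprimitive G a).1 h)
  have hidx : (MulAction.stabilizer G a).index = 3 * p :=
    (MulAction.index_stabilizer_of_transitive G a).trans H.hα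
  have hne : MulAction.stabilizer G a ≠ ⊤ := fun e => by
    rw [e, index_top] at hidx; omega
  obtain ⟨K, hlt, hK⟩ : ∃ K, MulAction.stabilizer G a < K ∧ K ≠ ⊤ := by
    by_contra hh
    push Not at hh
    exact hnc ⟨hne, fun K hK => hh K hK⟩
  have hdvd : K.index ∣ 3 * p := hidx ▸ index_dvd_of_le hlt.le
  have hK1 : K.index ≠ 1 := fun e => hK (index_eq_one.1 e)
  have hK3p : K.index ≠ 3 * p := fun e => by
    refine hlt.ne (eq_of_le_of_card_ge hlt.le (le_of_eq ?_))
    have h1 := index_mul_card K
    rw [← index_mul_card (MulAction.stabilizer G a), e, hidx] at h1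
    exact Nat.eq_of_mul_eq_mul_left (Nat.mul_pos (by norm_num) hp.pos) h1
  have hcore : K.normalCore = ⊥ := (normalCore_normal K).eq_bot_or_eq_top.resolve_right
    fun e => hK (top_le_iff.1 (e ▸ normalCore_le K))
  have hinj : Function.Injective (MulAction.toPermHom G (G ⧸ K)) := by
    rw [← MonoidHom.ker_eq_bot_iff, ← normalCore_eq_ker]
    exact hcore
  haveI : FaithfulSMul G (G ⧸ K) := ⟨fun {g h} e => hinj (Equiv.ext e)⟩
  have h3 : K.index = p := by
    obtain ⟨i, j, hi, hj, hij⟩ := exists_dvd_and_dvd_of_dvd_mul hdvd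
    rcases (Nat.dvd_prime Nat.prime_three).1 hi with rfl | rfl <;>
      rcases (Nat.dvd_prime hp).1 hj with rfl | rfl
    · exact absurd (hij.trans (one_mul 1)) hK1
    · rw [hij, one_mul]
    · exfalso
      have h1 := card_dvd_of_injective _ hinj
      rw [Nat.card_perm, show Nat.card (G ⧸ K) = 3 from hij.trans (mul_one 3)] at h1
      have h4 := H.four_dvd.trans h1
      norm_num [Nat.factorial] at h4
    · exact absurd hij hK3p
  rcases PrimeBlock.PrimeDegree.normal_or_sl_two (α := G ⧸ K) (by omega) h3 P H.hN with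
    h | ⟨m, F, iF, iFt, hpm, hF, ⟨ψ⟩⟩
  · exact absurd h H.not_normal
  · have hm : m ≠ 0 := by
      rintro rfl
      rw [pow_zero] at hpm
      omega
    obtain ⟨e₁⟩ := PrimeBlock.Brauer.sl_equiv_psl F hm hF
    exact ⟨F, iF, iFt, m, hF, hpm, ⟨ψ.trans e₁.symm⟩⟩

end Cfsg.Agent.DegreeThreeP
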