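import Mathlib.GroupTheory.GroupAction.Primitive
import Cfsg.Agent.Lib.Classical.GL2

/-!
# `SL₂(q)`, `q` even, is not primitive on `3 (q + 1)` points
-/

set_option autoImplicit false
set_option linter.style.haveILetI false
set_option linter.unusedSectionVars false

namespace Cfsg.Agent.DegreeThreeP

open Subgroup Matrix Cfsg.Agent.Classical
open scoped MatrixGroups

universe u v

variable {F : Type} [Field F]

/-- The upper triangular matrices of determinant one. -/
def borel (F : Type) [Field F] : Subgroup SL(2, F) where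
  carrier := {g | (g : Matrix (Fin 2) (Fin 2) F) 1 0 = 0}
  mul_mem' {g h} hg hh := by
    simp only [Set.mem_setOf_eq] at hg hh ⊢
    simp [Matrix.SpecialLinearGroup.coe_mul, Matrix.mul_apply, Fin.sum_univ_two, hg, hh]
  one_mem' := by simp
  inv_mem' {g} hg := by
    simp only [Set.mem_setOf_eq] at hg ⊢
    rw [Matrix.SpecialLinearGroup.coe_inv, Matrix.adjugate_fin_two]
    simp [hg]

theorem borel_ne_top : borel F ≠ ⊤ := fun e => by
  have h : GL2.lowSL (1 : F) ∈ borel F := e ▸ mem_top _
  change (GL2.lowSL (1 : F) : Matrix (Fin 2) (Fin 2) F) 1 0 = 0 at h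
  simp [GL2.coe_lowSL] at h

theorem card_borel_ge [Fintype F] :
    (Fintype.card F - 1) * Fintype.card F ≤ Nat.card (borel F) := by
  classical
  let f : Fˣ × F → borel F := fun w =>
    ⟨⟨!![(w.1 : F), w.2; 0, ((w.1⁻¹ : Fˣ) : F)], by simp [Matrix.det_fin_two]⟩, by
      show (_ : Matrix (Fin 2) (Fin 2) F) 1 0 = 0
      simp⟩
  have hf : Function.Injective f := by
    rintro ⟨t, b⟩ ⟨t', b'⟩ h
    have h1 := congrArg (fun x : borel F => ((x : SL(2, F)) : Matrix (Fin 2) (Fin 2) F)) h
    have e1 := congrFun (congrFun h1 0) 0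
    have e2 := congrFun (congrFun h1 0) 1
    simp [f] at e1 e2
    exact Prod.ext (Units.ext e1) e2
  have := Nat.card_le_card_of_injective f hf
  rwa [Nat.card_prod, Nat.card_units, Nat.card_eq_fintype_card] at this

/-- A subgroup containing the unitriangular group and of order less than `q²` is triangular. -/
theorem le_borel [Fintype F] {H : Subgroup SL(2, F)} (hU : GL2.U F ≤ H)
    (hH : Nat.card H < Fintype.card F * Fintype.card F) : H ≤ borel F := by
  intro g hg
  by_contra hc
  change ¬ (g : Matrix (Fin 2) (Fin 2) F) 1 0 = 0 at hc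
  let f : F × F → H := fun w => ⟨GL2.uniSL w.1 * g * GL2.uniSL w.2,
    mul_mem (mul_mem (hU ⟨Multiplicative.ofAdd w.1, rfl⟩) hg) (hU ⟨Multiplicative.ofAdd w.2, rfl⟩)⟩
  have hf : Function.Injective f := by
    rintro ⟨x, y⟩ ⟨x', y'⟩ h
    have h1 := congrArg (fun x : H => ((x : SL(2, F)) : Matrix (Fin 2) (Fin 2) F)) h
    have e1 := congrFun (congrFun h1 0) 0
    have e2 := congrFun (congrFun h1 1) 1
    simp [f, Matrix.SpecialLinearGroup.coe_mul, GL2.coe_uniSL, Matrix.mul_apply, Fin.sum_univ_two, Matrix.vecMul, dotProduct] at e1 e2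
    exact Prod.ext (e1.resolve_right hc) (e2.resolve_right hc)
  have := Nat.card_le_card_of_injective f hf
  rw [Nat.card_prod, Nat.card_eq_fintype_card] at this
  omega

theorem sl_two_not_primitive {G : Type u} [Group G] [Finite G] {α : Type v} [MulAction G α]
    [Finite α] [MulAction.IsPretransitive G α] [Fintype F] {a : ℕ} (hF : Fintype.card F = 2 ^ a)
    (ha : 2 ≤ a) (ψ : G ≃* SL(2, F)) (hα : Nat.card α = 3 * (2 ^ a + 1)) :
    ¬ MulAction.IsPreprimitive G α := by
  classical
  intro hprim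
  haveI := Fact.mk Nat.prime_two
  haveI : CharP F 2 := charP_of_card_eq_prime_pow hF
  set q := Fintype.card F with hq
  have hq4 : 4 ≤ q := by
    rw [hF, show (4 : ℕ) = 2 ^ 2 from rfl]
    exact Nat.pow_le_pow_right two_pos ha
  obtain ⟨x⟩ : Nonempty α := (Nat.card_pos_iff.1 (by rw [hα]; positivity)).1
  haveI : Nontrivial α := Finite.one_lt_card_iff_nontrivial.1 (by
    rw [hα]; have := Nat.one_le_two_pow (n := a); omega)
  have hmax : IsCoatom ((MulAction.stabilizer G x).map (ψ : G →* SL(2, F))) :=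
    (OrderIso.isCoatom_iff ψ.mapSubgroup _).2
      ((MulAction.isCoatom_stabilizer_iff_preprimitive G x).2 hprim)
  set H := (MulAction.stabilizer G x).map (ψ : G →* SL(2, F)) with hH
  have hcard : 3 * Nat.card H = q * (q - 1) := by
    have h1 := index_mul_card (MulAction.stabilizer G x)
    rw [MulAction.index_stabilizer_of_transitive, hα, Nat.card_congr ψ.toEquiv,
      GL2.natCard_SL_two, ← hF] at h1
    rw [hH, Subgroup.card_map_of_injective ψ.injective]
    obtain ⟨t, ht⟩ : ∃ t, q = t + 1 := ⟨q - 1, by omega⟩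
    rw [← hq, ht, Nat.add_sub_cancel] at h1
    rw [ht, Nat.add_sub_cancel]
    refine Nat.eq_of_mul_eq_mul_left (show 0 < t + 2 by omega) ?_
    calc (t + 2) * (3 * Nat.card _) = 3 * (t + 1 + 1) * Nat.card (MulAction.stabilizer G x) := by ring
      _ = (t + 1) * (t * (t + 1 + 1)) := h1
      _ = _ := by ring
  have hqH : q ∣ Nat.card H := by
    have h1 : q ∣ 3 * Nat.card H := ⟨q - 1, hcard⟩
    refine (Nat.Coprime.dvd_of_dvd_mul_left ?_ h1)
    rw [hF]
    exact Nat.Coprime.pow_left a (by norm_num)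
  obtain ⟨K, hKH, hKc⟩ : ∃ K : Subgroup SL(2, F), K ≤ H ∧ Nat.card K = q := by
    obtain ⟨K, hK⟩ := Sylow.exists_subgroup_card_pow_prime (G := H) 2 (n := a) (hF ▸ hqH)
    exact ⟨K.map H.subtype, map_subtype_le K, by
      rw [card_map_of_injective H.subtype_injective, hK, hF]⟩
  obtain ⟨Q, hQ⟩ := (IsPGroup.of_card (p := 2) (n := a) (by rw [hKc, hF]) : IsPGroup 2 K).exists_le_sylow
  set S : Sylow 2 SL(2, F) := GL2.sylowSL 2 with hS
  obtain ⟨c, hc⟩ := MulAction.exists_smul_eq SL(2, F) Q S
  have hSU : (S : Subgroup SL(2, F)) = GL2.U F := rfl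
  have hQc : Nat.card (Q : Subgroup SL(2, F)) = q := by
    rw [Q.card_eq_multiplicity, ← S.card_eq_multiplicity, hSU, GL2.natCard_U,
      Nat.card_eq_fintype_card]
  have hKQ : K = (Q : Subgroup SL(2, F)) := eq_of_le_of_card_ge hQ (by rw [hKc, hQc])
  set H' := H.map (MulAut.conj c).toMonoidHom with hH'
  have hUH : GL2.U F ≤ H' := by
    rw [← hSU, ← hc, Sylow.coe_subgroup_smul, hH', ← hKQ]
    rintro _ ⟨k, hk, rfl⟩
    exact ⟨k, hKH hk, rfl⟩
  have hH'c : Nat.card H' = Nat.card H := card_map_of_injective (MulAut.conj c).injective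
  have hlt : Nat.card H' < q * q := by
    have : q * (q - 1) < q * q := Nat.mul_lt_mul_of_pos_left (by omega) (by omega)
    omega
  have hmax' : IsCoatom H' := (OrderIso.isCoatom_iff (MulAut.conj c).mapSubgroup _).2 hmax
  refine borel_ne_top (F := F) (hmax'.2 _ ((le_borel hUH hlt).lt_of_ne fun e => ?_))
  have h1 := card_borel_ge (F := F)
  rw [← e, mul_comm, ← hq] at h1
  have h2 : 0 < q * (q - 1) := Nat.mul_pos (by omega) (by omega)
  omega

end Cfsg.Agent.DegreeThreeP
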