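import Cfsg.Agent.Lib.DegreeThreeP.Involution
import Cfsg.Agent.Lib.DegreeThreeP.Imprimitive
import Cfsg.Agent.Lib.DegreeThreeP.SLTwo
import Cfsg.Agent.Lib.DegreeThreeP.CycleBound
import Cfsg.Agent.BlocksChars.CofactorFourThree.Klein
import Cfsg.Agent.S4705

/-!
# Degree `3 p`: the characters of degree `p - 1` and `p - 2`
-/

set_option autoImplicit false
set_option linter.style.haveILetI false
set_option linter.unusedSectionVars false

namespace Cfsg.Agent.DegreeThreeP

open Cfsg.Agent.Characters Cfsg.Agent.Blocks Subgroup Cfsg.Agent.PrimeBlock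

universe u v

variable {G : Type u} [Group G] [Finite G] {α : Type v} [MulAction G α] [Finite α] {p : ℕ}
  [Fact p.Prime] {P : Sylow p G}

/-- The `2`-part of the order formula. -/
theorem two_part {g c A B : ℕ} (hg : g ≠ 0) (hc : c ≠ 0) (hA : A ≠ 0) (hB : B ≠ 0)
    (hgc : c.factorization 2 = g.factorization 2) (h : g * A = c ^ 2 * B) :
    A.factorization 2 = g.factorization 2 + B.factorization 2 := by
  have h1 := congrArg (fun n : ℕ => n.factorization 2) h
  simp only [Nat.factorization_mul hg hA, Nat.factorization_mul (pow_ne_zero 2 hc) hB,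
    Finsupp.add_apply, Nat.factorization_pow, Finsupp.smul_apply, smul_eq_mul, hgc] at h1
  omega

theorem small_arith {g r o : ℕ} (hg : g = 60 * o ^ 2) (hr : g = 10 * (1 + r * 5))
    (ho : Odd o) (hd : g ∣ Nat.factorial 15) : o = 1 ∨ o = 9 ∨ o = 21 := by
  have hd2 : o ^ 2 ∣ 3 ^ 5 * 5 ^ 2 * 7 ^ 2 * 11 * 13 * 2 ^ 9 := by
    refine Nat.dvd_of_mul_dvd_mul_left (show 0 < 60 by norm_num) ?_
    rw [← hg]
    exact hd.trans (dvd_of_eq (by norm_num [Nat.factorial]))
  have h2 : o ^ 2 ∣ 3 ^ 5 * 5 ^ 2 * 7 ^ 2 * 11 * 13 :=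
    Nat.Coprime.dvd_of_dvd_mul_right (Nat.Coprime.pow _ _ (Nat.coprime_two_right.2 ho)) hd2
  have h945 : o ∣ 945 := by
    refine (Nat.pow_dvd_pow_iff two_ne_zero).1 ?_
    have h11 : ¬ 11 ∣ o := fun h => by
      have h3 := (pow_dvd_pow_of_dvd h 2).trans h2
      norm_num at h3
    have h13 : ¬ 13 ∣ o := fun h => by
      have h3 := (pow_dvd_pow_of_dvd h 2).trans h2
      norm_num at h3
    have hc : Nat.Coprime (o ^ 2) (11 * 13) := Nat.Coprime.pow_left 2 (Nat.Coprime.mul_right
      ((Nat.Prime.coprime_iff_not_dvd (by norm_num)).2 h11).symm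
      ((Nat.Prime.coprime_iff_not_dvd (by norm_num)).2 h13).symm)
    exact (hc.dvd_of_dvd_mul_right (show o ^ 2 ∣ 3 ^ 5 * 5 ^ 2 * 7 ^ 2 * (11 * 13) from
      h2.trans (dvd_of_eq (by norm_num)))).trans ⟨3, by norm_num⟩
  have hb : ∀ n, ¬ n ^ 2 ∣ 3 ^ 5 * 5 ^ 2 * 7 ^ 2 * 11 * 13 → ¬ n ∣ o := fun n hn h =>
    hn ((pow_dvd_pow_of_dvd h 2).trans h2)
  have h27 := hb 27 (by norm_num)
  have hmem : o ∈ Nat.divisors 945 := Nat.mem_divisors.2 ⟨h945, by norm_num⟩
  rw [show Nat.divisors 945 =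
    {1, 3, 5, 7, 9, 15, 21, 27, 35, 45, 63, 105, 135, 189, 315, 945} by decide +kernel] at hmem
  simp only [Finset.mem_insert, Finset.mem_singleton] at hmem
  rcases hmem with rfl | rfl | rfl | rfl | rfl | rfl | rfl | rfl | rfl | rfl | rfl | rfl |
    rfl | rfl | rfl | rfl <;> first | omega | (norm_num at hr hg h27; omega)

theorem Hyp.small_five (H : Hyp α P) (S : Blk P) (hprim : MulAction.IsPreprimitive G α)
    (hs : S.D.sgn S.χ = -1) (hε : S.D.ε = -1) (hp : p = 5) (hf : deg S.χ = 4) :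
    Nat.card G = 60 := by
  classical
  haveI := H.simple
  haveI := H.faith
  haveI := H.pretrans
  haveI := Fintype.ofFinite G
  have hp0 : p.Prime := Fact.out
  obtain ⟨z, hz⟩ := H.exists_involution
  have hzp := H.not_dvd_two hz
  have hz2 := sq_one_of_orderOf hz
  obtain ⟨u, hu⟩ := ZStar.KleinFour.exists_int_value (irr_isCharacter S.χ) hz2
  obtain ⟨θ, hθ⟩ := S.D.Y_nonempty
  have hθ1 : (θ : G → ℂ) 1 = 3 := by
    rw [H.deg_Y_one S hθ, hε, hs, hf]; push_cast; norm_num
  have hθz : (θ : G → ℂ) z = ((u - 1 : ℤ) : ℂ) := by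
    rw [S.Y_regular hθ hzp, hε, hs, hu]; push_cast; ring
  have hb1 : (u - 1).natAbs ≤ 3 := by
    have h := char_norm_le (irr_isCharacter θ) z
    rw [hθ1, hθz, Complex.norm_intCast] at h
    norm_num at h
    have h' : |u - 1| ≤ 3 := by exact_mod_cast h
    rw [abs_le] at h'
    omega
  have heven : 2 ∣ (4 : ℤ) + u := by
    obtain ⟨m, hm⟩ := sum_powers (irr_isCharacter S.χ) two_ne_zero (x := z)
      (by rw [← hz, pow_orderOf_eq_one])
    rw [Finset.sum_range_succ, Finset.sum_range_one, pow_zero, pow_one, ← deg_cast, hf, hu] at hm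
    exact ⟨m, by exact_mod_cast hm⟩
  have hu4 : u ≠ 4 := fun e => by
    have h1 := H.faithful_χ S z (by rw [hu, e, ← deg_cast, hf]; norm_num)
    rw [h1, orderOf_one] at hz
    omega
  have hF := H.formula S hz hu
  rw [hs, hf, hp] at hF
  set c := Nat.card (centralizer ({z} : Set G)) with hc
  have hgc := H.factorization_centralizer S hz
  rw [← hc] at hgc
  have hg0 : Nat.card G ≠ 0 := Nat.card_pos.ne'
  have hc0 : c ≠ 0 := Nat.card_pos.ne'
  have h4 := H.four_dvd
  have hv4 : 2 ≤ (Nat.card G).factorization 2 :=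
    (Nat.prime_two.pow_dvd_iff_le_factorization hg0).1 ((show 2 ^ 2 = 4 from rfl).symm ▸ h4)
  have f16 : (16 : ℕ).factorization 2 = 4 := by
    rw [show 16 = 2 ^ 4 from rfl, Nat.prime_two.factorization_pow, Finsupp.single_eq_same]
  have f4 : (4 : ℕ).factorization 2 = 2 := by
    rw [show 4 = 2 ^ 2 from rfl, Nat.prime_two.factorization_pow, Finsupp.single_eq_same]
  have f15 : (15 : ℕ).factorization 2 = 0 := Nat.factorization_eq_zero_of_not_dvd (by norm_num)
  have hnat : ∀ {A : ℕ}, ((4 : ℤ) - u) ^ 2 = A → Nat.card G * A = c ^ 2 * 60 := fun {A} hA => by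
    rw [Nat.cast_ofNat, hA] at hF
    have : ((Nat.card G * A : ℕ) : ℤ) = ((c ^ 2 * 60 : ℕ) : ℤ) := by
      push_cast
      rw [hF]
      ring
    exact_mod_cast this
  rcases (show u = -2 ∨ u = 0 ∨ u = 2 by omega) with rfl | rfl | rfl
  · exfalso
    have h := hnat (A := 36) (by norm_num)
    have h' := two_part hg0 hc0 (by norm_num) (by norm_num) hgc h
    rw [show 36 = 4 * 9 from rfl, show 60 = 4 * 15 from rfl, Nat.factorization_mul (by norm_num) (by norm_num),
      Nat.factorization_mul (by norm_num) (by norm_num), Finsupp.add_apply, Finsupp.add_apply, f4, f15,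
      Nat.factorization_eq_zero_of_not_dvd (show ¬ 2 ∣ 9 by norm_num)] at h'
    omega
  swap
  · exfalso
    have h := hnat (A := 4) (by norm_num)
    have h' := two_part hg0 hc0 (by norm_num) (by norm_num) hgc h
    rw [show 60 = 4 * 15 from rfl,
      Nat.factorization_mul (by norm_num) (by norm_num), Finsupp.add_apply, f4, f15] at h'
    omega
  have h := hnat (A := 16) (by norm_num)
  have hv : (Nat.card G).factorization 2 = 2 := by
    have h' := two_part hg0 hc0 (by norm_num) (by norm_num) hgc h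
    rw [show 60 = 4 * 15 from rfl,
      Nat.factorization_mul (by norm_num) (by norm_num), Finsupp.add_apply, f16, f4, f15] at h'
    omega
  obtain ⟨o, ho⟩ : 4 ∣ c := by
    refine (dvd_of_eq (show (4 : ℕ) = 2 ^ c.factorization 2 by rw [hgc, hv]; norm_num)).trans
      (Nat.ordProj_dvd c 2)
  have ho0 : o ≠ 0 := fun e => hc0 (by rw [ho, e])
  have hodd : Odd o := by
    rw [Nat.odd_iff]
    by_contra h2
    have h8 : 2 ^ 3 ∣ c := by rw [ho]; norm_num; omega
    rw [Nat.prime_two.pow_dvd_iff_le_factorization hc0, hgc, hv] at h8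
    omega
  have hg : Nat.card G = 60 * o ^ 2 := by
    rw [ho] at h
    linarith
  obtain ⟨r, hr⟩ := H.card_sylow_mul
  rw [hp] at hr
  have hd : Nat.card G ∣ Nat.factorial 15 := by
    have hinj : Function.Injective (MulAction.toPermHom G α) := fun g h e =>
      FaithfulSMul.eq_of_smul_eq_smul (α := α) fun c => DFunLike.congr_fun e c
    have := Subgroup.card_dvd_of_injective _ hinj
    rwa [Nat.card_perm, H.hα, hp] at this
  rcases small_arith hg (by rw [hr]) hodd hd with rfl | rfl | rfl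
  · rw [hg]; norm_num
  · exact BlocksChars.CofactorFourThree.four_case (fun h => H.not_comm ⟨⟨h⟩⟩) (p := 3) (q := 5)
      (a := 5) (b := 1) (by norm_num) (by norm_num) (by norm_num) (by norm_num) (by rw [hg]; norm_num)
  · exfalso
    haveI := hprim
    have h1 := factorization_lt_of_primitive (G := G) (α := α) (n := 15) (q := 7) (by norm_num)
      (by rw [H.hα, hp]) (by norm_num) (by norm_num) (by rw [hg]; norm_num [Nat.factorial])
    rw [hg, show 60 * 21 ^ 2 = 540 * 7 ^ 2 from rfl,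
      show Nat.factorial 15 = 26687232000 * 7 ^ 2 by norm_num [Nat.factorial],
      Nat.factorization_mul (by norm_num) (by norm_num), Nat.factorization_mul (by norm_num) (by norm_num),
      Finsupp.add_apply, Finsupp.add_apply,
      Nat.factorization_eq_zero_of_not_dvd (show ¬ 7 ∣ 540 by norm_num),
      Nat.factorization_eq_zero_of_not_dvd (show ¬ 7 ∣ 26687232000 by norm_num)] at h1
    omega

theorem Hyp.not_small (H : Hyp α P) (S : Blk P) (hprim : MulAction.IsPreprimitive G α)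
    (hs : S.D.sgn S.χ = -1) (hf : deg S.χ + 1 = p) : False := by
  classical
  haveI := H.simple
  haveI := H.pretrans
  have hp0 : p.Prime := Fact.out
  have hp5 := H.p5
  obtain ⟨θ, hθ⟩ := S.D.Y_nonempty
  have hrel : S.D.ε * (deg θ : ℤ) = 1 - (deg S.χ : ℤ) := by
    classical
    rw [S.D.rel_one hθ, ← Finset.add_sum_erase _ _ S.ht, S.hts, deg_trivIrr, S.erase_eq,
      Finset.sum_singleton, hs]
    push_cast
    ring
  have hdθ : 0 < deg θ := charDegree_pos θ
  have hε : S.D.ε = -1 := by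
    rcases S.D.ε_eq with e | e
    · rw [e] at hrel; omega
    · exact e
  rw [hε] at hrel
  obtain ⟨a, F, iF, iFt, hpa, hF, ⟨ψ⟩⟩ : ∃ (a : ℕ) (F : Type) (_ : Field F) (_ : Fintype F),
      p = 2 ^ a + 1 ∧ Fintype.card F = 2 ^ a ∧ Nonempty (G ≃* Matrix.SpecialLinearGroup (Fin 2) F) := by
    rcases Nat.eq_or_lt_of_le hp5 with e | hlt
    · obtain ⟨F, iF, iFt, hF, hiso⟩ := PrimeDegree.sl_four_of_card (G := G)
        (H.small_five S hprim hs hε e.symm (by omega))
      exact ⟨2, F, iF, iFt, by rw [← e]; norm_num, hF, hiso⟩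
    · have hnn := H.not_normal
      have hfaith : ∀ g : G, (θ : G → ℂ) g = (θ : G → ℂ) 1 → g = 1 :=
        (BlocksChars.PrimeDegrees.simple_irr (fun h => H.not_comm ⟨⟨h⟩⟩) (S.Y_ne hθ).1).1
      obtain ⟨a, F, iF, iFt, hpa, hF, ⟨ψ⟩⟩ := Cfsg.Agent.S4705.result p hlt P H.card_P hnn
        (θ : G → ℂ) θ.2 hfaith (by show deg θ = p - 2; omega)
      refine ⟨a, F, iF, iFt, hpa, hF, ⟨ψ.trans ?_⟩⟩
      have hz : Subgroup.center G = ⊥ := by
        rcases (inferInstance : (Subgroup.center G).Normal).eq_bot_or_eq_top with e | e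
        · exact e
        · exact absurd ⟨⟨fun x y => (Subgroup.mem_center_iff.1 (e ▸ Subgroup.mem_top x) y).symm⟩⟩ H.not_comm
      haveI : Unique (Subgroup.center G) := ⟨⟨1⟩, fun x => Subtype.ext (Subgroup.mem_bot.1 (hz ▸ x.2))⟩
      exact MulEquiv.prodUnique
  have ha : 2 ≤ a := by
    by_contra hlt
    interval_cases a <;> omega
  exact sl_two_not_primitive hF ha ψ (by rw [H.hα, hpa]) hprim

end Cfsg.Agent.DegreeThreeP
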