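import Cfsg.Agent.Lib.DegreeThreeP.Setup
import Cfsg.Agent.Lib.PrimeBlock.PrimeDegree.Char
import Cfsg.Agent.Lib.Perm.Subdegrees

/-!
# Degree `3 p`: the principal block at `p` and the permutation character
-/

set_option autoImplicit false
set_option linter.style.haveILetI false
set_option linter.unusedSectionVars false

namespace Cfsg.Agent.DegreeThreeP

open Cfsg.Agent.Characters Cfsg.Agent.Blocks Subgroup
open Cfsg.Agent.Perm.PermModule Cfsg.Agent.PrimeBlock
open scoped ComplexConjugate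

universe u v

variable {G : Type u} [Group G] [Finite G] {α : Type v} [MulAction G α] [Finite α] {p : ℕ}
  [Fact p.Prime] {P : Sylow p G}

theorem permChar_eq_fx (g : G) : permChar G α g = (fx α g : ℂ) := rfl

/-- The principal block at `p`. -/
structure Blk (P : Sylow p G) where
  D : PBlock P
  ht : trivIrr G ∈ D.X
  hts : D.sgn (trivIrr G) = 1
  χ : Cfsg.IrrCharacter G
  hX : ∀ ψ, ψ ∈ D.X ∧ ψ ≠ trivIrr G ↔ ψ = χ
  he : D.e = 2

theorem Blk.χ_mem (S : Blk P) : S.χ ∈ S.D.X := ((S.hX S.χ).2 rfl).1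

theorem Blk.χ_ne (S : Blk P) : S.χ ≠ trivIrr G := ((S.hX S.χ).2 rfl).2

theorem Blk.erase_eq [DecidableEq (Cfsg.IrrCharacter G)] (S : Blk P) :
    S.D.X.erase (trivIrr G) = {S.χ} := by
  ext ψ
  rw [Finset.mem_erase, Finset.mem_singleton, and_comm, S.hX]

theorem Blk.Y_card (S : Blk P) : 2 * S.D.Y.card + 1 = p := by
  obtain ⟨k, hk⟩ := (Fact.out : p.Prime).odd_of_ne_two S.D.odd
  rw [S.D.card_Y, S.he, hk, show (2 * k + 1 - 1) / 2 = k by omega]

theorem Blk.Y_ne (S : Blk P) {θ : Cfsg.IrrCharacter G} (hθ : θ ∈ S.D.Y) :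
    θ ≠ trivIrr G ∧ θ ≠ S.χ :=
  ⟨fun e => Finset.disjoint_left.1 S.D.disj S.ht (e ▸ hθ),
    fun e => Finset.disjoint_left.1 S.D.disj S.χ_mem (e ▸ hθ)⟩

/-- The exceptional characters on the regular elements. -/
theorem Blk.Y_regular (S : Blk P) {θ : Cfsg.IrrCharacter G} (hθ : θ ∈ S.D.Y) {g : G}
    (hg : ¬ p ∣ orderOf g) :
    (θ : G → ℂ) g = (S.D.ε : ℂ) * (1 + (S.D.sgn S.χ : ℂ) * (S.χ : G → ℂ) g) := by
  classical
  have h := S.D.rel θ hθ g hg
  rw [← Finset.add_sum_erase _ _ S.ht, S.hts, S.erase_eq, Finset.sum_singleton] at h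
  simp only [trivIrr_coe, Int.cast_one, mul_one] at h
  have hε : (S.D.ε : ℂ) * S.D.ε = 1 := by
    rcases S.D.ε_eq with e | e <;> simp [e]
  linear_combination (S.D.ε : ℂ) * h - (θ : G → ℂ) g * hε

theorem exists_blk (H : Hyp α P) : Nonempty (Blk P) := by
  classical
  haveI := H.simple
  have hC := H.card_centralizer
  have hp0 : p.Prime := Fact.out
  obtain ⟨D, ht, hts⟩ := exists_pblock' H.not_comm (by have := H.p3; omega : p ≠ 2) P H.card_P
  have he : D.e = 2 := by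
    have := Brauer.card_normalizer D hC
    rw [H.hN, mul_comm] at this
    exact (Nat.eq_of_mul_eq_mul_left hp0.pos this).symm
  obtain ⟨c, hc⟩ := Finset.card_eq_one.1 (show (D.X.erase (trivIrr G)).card = 1 by
    rw [Finset.card_erase_of_mem ht, D.card_X, he])
  exact ⟨⟨D, ht, hts, c, fun ψ => by rw [and_comm, ← Finset.mem_erase, hc, Finset.mem_singleton],
    he⟩⟩

/-- The four possibilities. -/
inductive Shape (α : Type v) [MulAction G α] (S : Blk P) : Prop
  | small (hs : S.D.sgn S.χ = -1) (hf : deg S.χ + 1 = p)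
  | seven (hp : p = 5) (hs : S.D.sgn S.χ = 1) (hε : S.D.ε = 1) (hf : deg S.χ = 6)
      (hπ : ∀ g : G, (fx α g : ℂ) = 1 + ∑ θ ∈ S.D.Y, (θ : G → ℂ) g)
  | middle (hs : S.D.sgn S.χ = -1) (hε : S.D.ε = -1) (hf : deg S.χ + 1 = 2 * p)
      (ψ : Cfsg.IrrCharacter G) (hψ : deg ψ = p)
      (hψB : ψ ∉ Cfsg.principalBlock S.D.M G)
      (hπ : ∀ g : G, (fx α g : ℂ) = 1 + (S.χ : G → ℂ) g + (ψ : G → ℂ) g)
  | large (hs : S.D.sgn S.χ = -1) (hε : S.D.ε = -1) (hf : deg S.χ + 1 = 3 * p)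
      (hπ : ∀ g : G, (fx α g : ℂ) = 1 + (S.χ : G → ℂ) g)

/-- The arithmetic behind the four possibilities. -/
theorem shape_arith {p h f d a b E : ℕ} {s ε : ℤ} (hp : 5 ≤ p) (hh : 2 * h + 1 = p)
    (hf : 2 ≤ f) (hd : 1 ≤ d) (hs : s = 1 ∨ s = -1) (hε : ε = 1 ∨ ε = -1)
    (hcong : (p : ℤ) ∣ s - f) (hrel : ε * d = 1 + s * f) (hx : (a : ℤ) * s = b * ε - 1)
    (hdeg : 1 + a * f + b * (h * d) + p * E = 3 * p) :
    (s = -1 ∧ f + 1 = p) ∨ (p = 5 ∧ s = 1 ∧ ε = 1 ∧ f = 6 ∧ a = 0 ∧ b = 1 ∧ E = 0) ∨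
      (s = -1 ∧ ε = -1 ∧ f + 1 = 2 * p ∧ a = 1 ∧ b = 0 ∧ E = 1) ∨
      (s = -1 ∧ ε = -1 ∧ f + 1 = 3 * p ∧ a = 1 ∧ b = 0 ∧ E = 0) := by
  obtain ⟨c, hc⟩ := hcong
  rcases hs with rfl | rfl
  · right; left
    have hε1 : ε = 1 := by
      rcases hε with e | e
      · exact e
      · subst e; omega
    subst hε1
    have hc' : 1 ≤ -c := by
      by_contra hlt
      have : 0 ≤ (p : ℤ) * c := mul_nonneg (by omega) (by omega)
      omega
    have hf' : p + 1 ≤ f := by
      have : (p : ℤ) * 1 ≤ p * -c := mul_le_mul_of_nonneg_left hc' (by omega)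
      rw [mul_neg] at this
      omega
    have hd' : d = f + 1 := by omega
    have hb : b = a + 1 := by omega
    subst hb hd' hh
    have ha : a = 0 := by
      by_contra ha
      have h1 : f ≤ a * f := Nat.le_mul_of_pos_left f (by omega)
      have h2 : 2 * (h * (f + 1)) ≤ (a + 1) * (h * (f + 1)) := Nat.mul_le_mul_right _ (by omega)
      nlinarith
    subst ha
    simp only [zero_add, one_mul, zero_mul, add_zero] at hdeg
    have hh2 : h = 2 := by nlinarith
    subst hh2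
    omega
  · have hε1 : ε = -1 := by
      rcases hε with e | e
      · subst e; omega
      · exact e
    subst hε1
    have hc' : 1 ≤ -c := by
      by_contra hlt
      have : 0 ≤ (p : ℤ) * c := mul_nonneg (by omega) (by omega)
      omega
    obtain ⟨j, hj⟩ : ∃ j : ℕ, -c = (j : ℤ) := ⟨(-c).toNat, by omega⟩
    have hfj : f + 1 = p * j := by
      have : ((f + 1 : ℕ) : ℤ) = ((p * j : ℕ) : ℤ) := by
        push_cast
        rw [← hj]
        linarith
      exact_mod_cast this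
    have hd' : d + 1 = f := by omega
    rcases (show j = 1 ∨ 2 ≤ j by omega) with rfl | hj2
    · exact Or.inl ⟨rfl, by omega⟩
    have hab : a + b = 1 ∨ 2 ≤ a + b := by omega
    have ha : a = b + 1 := by omega
    subst ha
    have h2f : 2 * p ≤ f + 1 := by rw [hfj, mul_comm 2 p]; exact Nat.mul_le_mul_left p hj2
    have hb : b = 0 := by
      by_contra hb
      have h1 : 2 * f ≤ (b + 1) * f := Nat.mul_le_mul_right _ (by omega)
      have := Nat.zero_le (b * (h * d))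
      have := Nat.zero_le (p * E)
      omega
    subst hb
    simp only [zero_add, one_mul, zero_mul, add_zero] at hdeg
    have hjE : j + E = 3 := by
      refine Nat.eq_of_mul_eq_mul_left (show 0 < p by omega) ?_
      rw [mul_add, ← hfj]
      omega
    have hE : E = 0 ∨ E = 1 := by omega
    rcases hE with rfl | rfl
    · right; right; right
      have hj3 : j = 3 := by omega
      subst hj3
      exact ⟨rfl, rfl, by omega, rfl, rfl, rfl⟩
    · right; right; left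
      have hj3 : j = 2 := by omega
      subst hj3
      exact ⟨rfl, rfl, by omega, rfl, rfl, rfl⟩

theorem exists_shape (H : Hyp α P) (S : Blk P) : Shape α S := by
  classical
  haveI := Fintype.ofFinite G
  haveI := Fintype.ofFinite α
  haveI := Fintype.ofFinite (Cfsg.IrrCharacter G)
  haveI := H.simple
  haveI := H.nonempty
  haveI := H.pretrans
  have hC := H.card_centralizer
  have hp0 : p.Prime := Fact.out
  have hpC : (p : ℂ) ≠ 0 := Nat.cast_ne_zero.2 hp0.ne_zero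
  set D := S.D with hD
  obtain ⟨x, hx1, hx⟩ := D.exists_ne_one
  have hxo := D.orderOf_eq hx hx1
  obtain ⟨n, hn⟩ := char_eq_sum_nat (G := G) (χ := permChar G α) (isCharacter_permChar α)
  have hπ : ∀ g : G, (fx α g : ℂ) = ∑ χ : Cfsg.IrrCharacter G, (n χ : ℂ) * (χ : G → ℂ) g :=
    fun g => by
      rw [← permChar_eq_fx]
      simpa [Finset.sum_apply, smul_eq_mul] using congrFun hn g
  have hinner : ∀ ψ : Cfsg.IrrCharacter G,
      Cfsg.classInner (permChar G α) (ψ : G → ℂ) = (n ψ : ℂ) := fun ψ => by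
    have h1 := classInner_sum_smul_irr (c := fun χ : Cfsg.IrrCharacter G => (n χ : ℂ)) Finset.univ ψ
    rwa [← hn, if_pos (Finset.mem_univ _)] at h1
  have hn1 : n (trivIrr G) = 1 := by
    have h1 := hinner (trivIrr G)
    rw [show ((trivIrr G : Cfsg.IrrCharacter G) : G → ℂ) = fun _ => 1 from rfl,
      classInner_permChar_one (G := G) (Ω := α)] at h1
    exact_mod_cast h1.symm
  obtain ⟨θ₀, hθ₀⟩ := D.Y_nonempty
  set b := n θ₀ with hb
  have hnY : ∀ θ ∈ D.Y, n θ = b := fun θ hθ => by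
    have h1 : (n θ : ℂ) = (n θ₀ : ℂ) := by
      rw [← hinner, ← hinner, classInner_def, classInner_def]
      congr 1
      refine Finset.sum_congr rfl fun g _ => ?_
      by_cases hg : p ∣ orderOf g
      · rw [permChar_eq_fx, H.fx_singular hg, Nat.cast_zero, zero_mul, zero_mul]
      · rw [D.same θ hθ θ₀ hθ₀ g hg]
    exact_mod_cast h1
  have hsplit : ∀ g : G, (fx α g : ℂ) = 1 + (n S.χ : ℂ) * (S.χ : G → ℂ) g +
      (b : ℂ) * ∑ θ ∈ D.Y, (θ : G → ℂ) g +
      ∑ ψ ∈ Brauer.outside D, (n ψ : ℂ) * (ψ : G → ℂ) g := fun g => by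
    rw [hπ g, Brauer.sum_split D S.ht, S.erase_eq, Finset.sum_singleton, hn1, Finset.mul_sum,
      Finset.sum_congr (s₁ := D.Y) rfl fun θ hθ => by rw [hnY θ hθ]]
    simp
  choose μ hμ using fun χ : Cfsg.IrrCharacter G =>
    sum_powers (irr_isCharacter χ) hp0.ne_zero (D.x_pow hx)
  have hout : ∀ ψ ∈ Brauer.outside D, deg ψ = p * μ ψ := fun ψ hψ => by
    have h1 := hμ ψ
    rw [PrimeDegree.sum_powers_eq (p := p) (w := 0) fun i hi =>
        D.eq_zero_of_notMem hC ((Brauer.mem_outside D).1 hψ) (pow_mem hx i)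
          (D.pow_ne_one hx hx1 (D.not_dvd_of_mem_erase hi)),
      ← deg_cast, mul_zero, add_zero] at h1
    exact_mod_cast h1
  set E := ∑ ψ ∈ Brauer.outside D, n ψ * μ ψ with hE
  have hxeq : (n S.χ : ℤ) * D.sgn S.χ = (b : ℤ) * D.ε - 1 := by
    have h1 := hsplit x
    rw [H.fx_singular (by rw [hxo]), D.val_X' S.χ_mem hx hx1, D.sum_Y hx hx1,
      Finset.sum_eq_zero (s := Brauer.outside D) fun ψ hψ => by
        rw [D.eq_zero_of_notMem hC ((Brauer.mem_outside D).1 hψ) hx hx1, mul_zero]] at h1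
    have h2 : (((n S.χ : ℤ) * D.sgn S.χ : ℤ) : ℂ) = (((b : ℤ) * D.ε - 1 : ℤ) : ℂ) := by
      push_cast
      linear_combination -h1
    exact_mod_cast h2
  have hdeg : 1 + n S.χ * deg S.χ + b * (D.Y.card * deg θ₀) + p * E = 3 * p := by
    have h1 := hsplit 1
    rw [H.fx_one, Finset.sum_congr (s₁ := D.Y) rfl fun θ hθ => by
      rw [← deg_cast, D.deg_Y_eq hθ hθ₀]] at h1
    simp only [Finset.sum_const, nsmul_eq_mul, ← deg_cast] at h1
    rw [Finset.sum_congr (s₁ := Brauer.outside D) rfl fun ψ hψ => by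
      rw [hout ψ hψ, ← Nat.cast_mul]] at h1
    rw [hE, Finset.mul_sum, Finset.sum_congr rfl fun ψ _ => Nat.mul_left_comm p (n ψ) (μ ψ)]
    exact_mod_cast h1.symm
  have hrel : D.ε * (deg θ₀ : ℤ) = 1 + D.sgn S.χ * (deg S.χ : ℤ) := by
    rw [D.rel_one hθ₀, ← Finset.add_sum_erase _ _ S.ht, S.hts, deg_trivIrr, S.erase_eq,
      Finset.sum_singleton]
    push_cast
    ring
  have hf2 : 2 ≤ deg S.χ := by
    have h1 : 0 < deg S.χ := charDegree_pos S.χ
    have h2 : deg S.χ ≠ 1 := deg_ne_one H.not_comm S.χ_ne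
    omega
  have hzero : E = 0 → ∀ ψ ∈ Brauer.outside D, n ψ = 0 := fun e ψ hψ => by
    rcases Nat.mul_eq_zero.1 ((Finset.sum_eq_zero_iff.1 (hE ▸ e)) ψ hψ) with h | h
    · exact h
    · have h1 := hout ψ hψ
      have h2 : 0 < deg ψ := charDegree_pos ψ
      rw [h, mul_zero] at h1
      omega
  rcases shape_arith H.p5 S.Y_card hf2 (charDegree_pos θ₀) (D.sgn_eq _ S.χ_mem) D.ε_eq
    (Int.modEq_iff_dvd.1 (D.deg_X _ S.χ_mem)) hrel hxeq hdeg with
    ⟨h1, h2⟩ | ⟨h0, h1, h2, h3, h4, h5, h6⟩ | ⟨h1, h2, h3, h4, h5, h6⟩ | ⟨h1, h2, h3, h4, h5, h6⟩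
  · exact .small h1 h2
  · refine .seven h0 h1 h2 h3 fun g => ?_
    rw [hsplit g, h4, h5, Finset.sum_eq_zero (s := Brauer.outside D) fun ψ hψ => by
      rw [hzero h6 ψ hψ, Nat.cast_zero, zero_mul]]
    simp [hD]
  · obtain ⟨ψ, hψ, hψn⟩ : ∃ ψ ∈ Brauer.outside D, n ψ * μ ψ ≠ 0 :=
      Finset.exists_ne_zero_of_sum_ne_zero (by rw [← hE, h6]; exact one_ne_zero)
    have hrest := Finset.add_sum_erase (Brauer.outside D) (fun φ => n φ * μ φ) hψ
    rw [← hE, h6] at hrest
    have hone : n ψ * μ ψ = 1 := by omega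
    have hn' : n ψ = 1 := Nat.eq_one_of_mul_eq_one_right hone
    have hμ' : μ ψ = 1 := Nat.eq_one_of_mul_eq_one_left hone
    have hrest0 : ∀ φ ∈ (Brauer.outside D).erase ψ, n φ = 0 := fun φ hφ => by
      have h0 : ∑ φ ∈ (Brauer.outside D).erase ψ, n φ * μ φ = 0 := by omega
      rcases Nat.mul_eq_zero.1 (Finset.sum_eq_zero_iff.1 h0 φ hφ) with h | h
      · exact h
      · have h1 := hout φ (Finset.mem_of_mem_erase hφ)
        have h2 : 0 < deg φ := charDegree_pos φ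
        rw [h, mul_zero] at h1
        omega
    refine .middle h1 h2 h3 ψ (by rw [hout ψ hψ, hμ', mul_one])
      ((Brauer.mem_outside D).1 hψ) fun g => ?_
    rw [hsplit g, h4, h5, ← Finset.add_sum_erase _ _ hψ,
      Finset.sum_eq_zero (s := (Brauer.outside D).erase ψ) fun φ hφ => by
        rw [hrest0 φ hφ, Nat.cast_zero, zero_mul], hn']
    simp
  · refine .large h1 h2 h3 fun g => ?_
    rw [hsplit g, h4, h5, Finset.sum_eq_zero (s := Brauer.outside D) fun ψ hψ => by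
      rw [hzero h6 ψ hψ, Nat.cast_zero, zero_mul]]
    simp

end Cfsg.Agent.DegreeThreeP
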