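import Mathlib.GroupTheory.Index
import Mathlib.Tactic.Group
import Mathlib.Tactic.Ring
import Mathlib.GroupTheory.OrderOfElement
import Mathlib.GroupTheory.Subgroup.Centralizer

/-!
# A four-group acting on a group of odd order
-/

set_option autoImplicit false
set_option linter.style.haveILetI false
set_option linter.unusedSectionVars false

namespace Cfsg.Agent.DegreeThreeP

open Subgroup
open scoped _root_.Classical

universe u

variable {G : Type u} [Group G]

theorem sq_injOn_odd {R : Subgroup G} [Finite R] (hodd : Odd (Nat.card R)) {r s : G} (hr : r ∈ R)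
    (hs : s ∈ R) (h : r * r = s * s) : r = s := by
  obtain ⟨k, hk⟩ := hodd
  have e : ∀ t : G, t ∈ R → t = (t * t) ^ (k + 1) := fun t ht => by
    rw [← pow_two, ← pow_mul, show 2 * (k + 1) = Nat.card R + 1 by omega, pow_succ,
      show t ^ Nat.card R = 1 from congrArg Subtype.val (pow_card_eq_one' (x := (⟨t, ht⟩ : R))), one_mul]
  rw [e r hr, e s hs, h]

/-- The elements of `R` fixed by conjugation with `a`. -/
noncomputable def fixedIn (R : Subgroup G) [Fintype G] (a : G) : Finset G :=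
  Finset.univ.filter fun r => r ∈ R ∧ a * r = r * a

/-- The elements of `R` inverted by conjugation with `a`. -/
noncomputable def invertedIn (R : Subgroup G) [Fintype G] (a : G) : Finset G :=
  Finset.univ.filter fun r => r ∈ R ∧ a * r * a⁻¹ = r⁻¹

theorem mem_fixedIn [Fintype G] {R : Subgroup G} {a r : G} :
    r ∈ fixedIn R a ↔ r ∈ R ∧ a * r * a⁻¹ = r := by
  simp [fixedIn, mul_inv_eq_iff_eq_mul]

theorem mem_invertedIn [Fintype G] {R : Subgroup G} {a r : G} :
    r ∈ invertedIn R a ↔ r ∈ R ∧ a * r * a⁻¹ = r⁻¹ := by simp [invertedIn]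

variable [Fintype G] {R : Subgroup G} {a b : G}

theorem card_fixed_mul_inverted_le (hodd : Odd (Nat.card R)) :
    (fixedIn R b).card * (invertedIn R b).card ≤ Nat.card R := by
  rw [← Finset.card_product, Nat.card_eq_fintype_card, Fintype.card_subtype]
  refine Finset.card_le_card_of_injOn (fun w => w.1 * w.2) (fun w hw => ?_) ?_
  · simp only [Finset.coe_product, Set.mem_prod, Finset.mem_coe, mem_fixedIn, mem_invertedIn] at hw
    simpa using mul_mem hw.1.1 hw.2.1
  · rintro ⟨x, i⟩ hw ⟨x', i'⟩ hw' e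
    simp only [Finset.coe_product, Set.mem_prod, Finset.mem_coe, mem_fixedIn, mem_invertedIn] at hw hw'
    simp only at e
    have h1 := congrArg (fun t => b * t * b⁻¹) e
    skip
    rw [show b * (x * i) * b⁻¹ = b * x * b⁻¹ * (b * i * b⁻¹) by group,
      show b * (x' * i') * b⁻¹ = b * x' * b⁻¹ * (b * i' * b⁻¹) by group, hw.1.2, hw.2.2, hw'.1.2, hw'.2.2] at h1
    have h2 : i * i = i' * i' := by
      calc i * i = (x * i⁻¹)⁻¹ * (x * i) := by group
        _ = (x' * i'⁻¹)⁻¹ * (x' * i') := by rw [h1, e]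
        _ = i' * i' := by group
    have hi := sq_injOn_odd hodd hw.2.1 hw'.2.1 h2
    subst hi
    rw [mul_right_cancel e]

/-- Commutators with `b` map the elements fixed by `a` to elements inverted by `b`. -/
theorem card_fixed_le (hb : b * b = 1) (hab : a * b = b * a) (hnb : ∀ r ∈ R, b * r * b⁻¹ ∈ R) :
    (fixedIn R a).card ≤
      ((fixedIn R a) ∩ invertedIn R b).card * ((fixedIn R a) ∩ fixedIn R b).card := by
  have hbi : b⁻¹ = b := inv_eq_of_mul_eq_one_right hb
  rw [mul_comm]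
  refine Finset.card_le_mul_card_image_of_maps_to (f := fun r => r⁻¹ * (b * r * b⁻¹)) (fun r hr => ?_) _
    fun i _ => ?_
  · obtain ⟨hrR, hra⟩ := mem_fixedIn.1 hr
    refine Finset.mem_inter.2 ⟨mem_fixedIn.2 ⟨mul_mem (inv_mem hrR) (hnb r hrR), ?_⟩,
      mem_invertedIn.2 ⟨mul_mem (inv_mem hrR) (hnb r hrR), ?_⟩⟩
    · rw [show a * (r⁻¹ * (b * r * b⁻¹)) * a⁻¹ = (a * r * a⁻¹)⁻¹ * ((a * b) * r * (a * b)⁻¹) by group,
        hra, hab, show b * a * r * (b * a)⁻¹ = b * (a * r * a⁻¹) * b⁻¹ by group, hra]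
    · rw [hbi]
      calc b * (r⁻¹ * (b * r * b)) * b = b * r⁻¹ * b * r * (b * b) := by group
        _ = (r⁻¹ * (b * r * b))⁻¹ := by
          rw [hb, mul_one, mul_inv_rev, inv_inv, mul_inv_rev, mul_inv_rev, hbi]; group
  · rcases ((fixedIn R a).filter fun r => r⁻¹ * (b * r * b⁻¹) = i).eq_empty_or_nonempty with h0 | ⟨s, hs⟩
    · rw [h0]; simp
    refine Finset.card_le_card_of_injOn (fun r => r * s⁻¹) (fun r hr => ?_) fun r _ r' _ e =>
      mul_right_cancel e
    simp only [Finset.mem_coe, Finset.mem_filter, Finset.mem_inter, mem_fixedIn] at hr hs ⊢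
    refine ⟨⟨mul_mem hr.1.1 (inv_mem hs.1.1), ?_⟩, mul_mem hr.1.1 (inv_mem hs.1.1), ?_⟩
    · rw [show a * (r * s⁻¹) * a⁻¹ = (a * r * a⁻¹) * (a * s * a⁻¹)⁻¹ by group, hr.1.2, hs.1.2]
    · calc b * (r * s⁻¹) * b⁻¹ = r * (r⁻¹ * (b * r * b⁻¹)) * (s * (s⁻¹ * (b * s * b⁻¹)))⁻¹ := by group
        _ = r * s⁻¹ := by rw [hr.2, hs.2]; group

/-- Products `i j i` give distinct elements inverted by `b`. -/
theorem card_inverted_ge (hodd : Odd (Nat.card R)) :
    ((fixedIn R a) ∩ invertedIn R b).card * ((fixedIn R (a * b)) ∩ invertedIn R b).card ≤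
      (invertedIn R b).card := by
  rw [← Finset.card_product]
  refine Finset.card_le_card_of_injOn (fun w => w.1 * w.2 * w.1) (fun w hw => ?_) ?_
  · simp only [Finset.coe_product, Set.mem_prod, Finset.mem_coe, Finset.mem_inter, mem_fixedIn,
      mem_invertedIn] at hw ⊢
    obtain ⟨⟨⟨hiR, -⟩, -, hib⟩, ⟨hjR, -⟩, -, hjb⟩ := hw
    refine ⟨mul_mem (mul_mem hiR hjR) hiR, ?_⟩
    rw [show b * (w.1 * w.2 * w.1) * b⁻¹ = (b * w.1 * b⁻¹) * (b * w.2 * b⁻¹) * (b * w.1 * b⁻¹) by group,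
      hib, hjb]
    group
  · rintro ⟨i, j⟩ hw ⟨i', j'⟩ hw' e
    simp only [Finset.coe_product, Set.mem_prod, Finset.mem_coe, Finset.mem_inter, mem_fixedIn,
      mem_invertedIn] at hw hw'
    simp only at e
    obtain ⟨⟨⟨hiR, hia⟩, -, -⟩, ⟨hjR, hjab⟩, -, hjb⟩ := hw
    obtain ⟨⟨⟨hiR', hia'⟩, -, -⟩, ⟨hjR', hjab'⟩, -, hjb'⟩ := hw'
    have hja : ∀ x : G, a * b * x * (a * b)⁻¹ = x → b * x * b⁻¹ = x⁻¹ → a * x * a⁻¹ = x⁻¹ := fun x h1 h2 => by
      have h1' : a * x⁻¹ * a⁻¹ = x := by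
        rw [← h2]
        calc a * (b * x * b⁻¹) * a⁻¹ = a * b * x * (a * b)⁻¹ := by group
          _ = x := h1
      calc a * x * a⁻¹ = (a * x⁻¹ * a⁻¹)⁻¹ := by group
        _ = x⁻¹ := by rw [h1']
    have e2 : i⁻¹ * j * i⁻¹ = i'⁻¹ * j' * i'⁻¹ := by
      have h1 := congrArg (fun t => (a * t * a⁻¹)⁻¹) e
      skip
      rw [show a * (i * j * i) * a⁻¹ = (a * i * a⁻¹) * (a * j * a⁻¹) * (a * i * a⁻¹) by group,
        show a * (i' * j' * i') * a⁻¹ = (a * i' * a⁻¹) * (a * j' * a⁻¹) * (a * i' * a⁻¹) by group,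
        hia, hia', hja j hjab hjb, hja j' hjab' hjb'] at h1
      simpa [mul_inv_rev, mul_assoc] using h1
    set w := i'⁻¹ * i with hw
    have hsq : j' * j' = w * j * w⁻¹ * (w * j * w⁻¹) := by
      calc j' * j' = i'⁻¹ * ((i' * j' * i') * (i'⁻¹ * j' * i'⁻¹)) * i' := by group
        _ = i'⁻¹ * ((i * j * i) * (i⁻¹ * j * i⁻¹)) * i' := by rw [← e, ← e2]
        _ = w * j * w⁻¹ * (w * j * w⁻¹) := by rw [hw]; group
    have hwR : w ∈ R := mul_mem (inv_mem hiR') hiR
    have hj' := sq_injOn_odd hodd hjR' (mul_mem (mul_mem hwR hjR) (inv_mem hwR)) hsq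
    have h3 : w * j * (i * i'⁻¹) = w * j * w⁻¹ := by
      rw [← hj', hw]
      calc i'⁻¹ * i * j * (i * i'⁻¹) = i'⁻¹ * (i * j * i) * i'⁻¹ := by group
        _ = j' := by rw [e]; group
    have h4 : i * i = i' * i' := by
      have h5 := mul_left_cancel h3
      rw [hw, mul_inv_rev, inv_inv] at h5
      calc i * i = i * (i * i'⁻¹) * i' := by group
        _ = i' * i' := by rw [h5]; group
    have hii := sq_injOn_odd hodd hiR hiR' h4
    subst hii
    rw [mul_left_cancel (mul_right_cancel e)]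

/-- `|R| v ^ 2 ≥ o ^ 3`. -/
theorem four_action_bound (hodd : Odd (Nat.card R)) (hb : b * b = 1) (hab : a * b = b * a)
    (hnb : ∀ r ∈ R, b * r * b⁻¹ ∈ R) :
    (fixedIn R a).card * (fixedIn R b).card * (fixedIn R (a * b)).card ≤
      Nat.card R * ((fixedIn R a) ∩ fixedIn R b).card * ((fixedIn R (a * b)) ∩ fixedIn R b).card := by
  have h1 := card_fixed_le (R := R) hb hab hnb
  have hab' : a * b * b = b * (a * b) := by rw [← mul_assoc, ← hab]
  have h2 := card_fixed_le (R := R) (a := a * b) hb hab' hnb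
  have h3 := card_inverted_ge (a := a) (b := b) hodd
  have h4 := card_fixed_mul_inverted_le (b := b) hodd
  calc _ ≤ _ := Nat.mul_le_mul (Nat.mul_le_mul_right _ h1) h2
    _ = (fixedIn R b).card *
        (((fixedIn R a) ∩ invertedIn R b).card * ((fixedIn R (a * b)) ∩ invertedIn R b).card) *
        (((fixedIn R a) ∩ fixedIn R b).card * ((fixedIn R (a * b)) ∩ fixedIn R b).card) := by ring
    _ ≤ (fixedIn R b).card * (invertedIn R b).card *
        (((fixedIn R a) ∩ fixedIn R b).card * ((fixedIn R (a * b)) ∩ fixedIn R b).card) :=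
      Nat.mul_le_mul_right _ (Nat.mul_le_mul_left _ h3)
    _ ≤ Nat.card R * (((fixedIn R a) ∩ fixedIn R b).card * ((fixedIn R (a * b)) ∩ fixedIn R b).card) :=
      Nat.mul_le_mul_right _ h4
    _ = _ := by ring

end Cfsg.Agent.DegreeThreeP
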