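import Cfsg.Agent.Lib.DegreeThreeP.Involution
import Cfsg.Agent.Lib.DegreeThreeP.CaseSmall
import Cfsg.Agent.Lib.CharTheory.DihedralPrincipal.Setting

/-!
# Degree `3 p`, involutions fixing three points: the Sylow `2`-subgroup
-/

set_option autoImplicit false
set_option linter.style.haveILetI false
set_option linter.unusedSectionVars false

namespace Cfsg.Agent.DegreeThreeP

open Subgroup
open scoped _root_.Classical

universe u v

variable {G : Type u} [Group G] [Finite G] {α : Type v} [MulAction G α] [Finite α] {p : ℕ}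
  [Fact p.Prime] {P : Sylow p G}

/-- A Sylow `2`-subgroup with the fixed points of a central involution. -/
structure Pre (α : Type v) [MulAction G α] (Q : Sylow 2 G) (a b c : α) : Prop where
  hab : a ≠ b
  hac : a ≠ c
  hbc : b ≠ c
  fixa : ∀ g ∈ (Q : Subgroup G), g • a = a
  perm : ∀ g ∈ (Q : Subgroup G), g • b = b ∨ g • b = c
  fixc : ∀ g ∈ (Q : Subgroup G), g • b = b → g • c = c
  free : ∀ g ∈ (Q : Subgroup G), g • b = b → ∀ x, x ≠ a → x ≠ b → x ≠ c → g • x = x → g = 1

theorem exists_pow_two_orderOf {Q : Sylow 2 G} {t : G} (ht : t ∈ (Q : Subgroup G)) :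
    ∃ j, orderOf t = 2 ^ j := by
  obtain ⟨j, hj⟩ := Q.isPGroup' ⟨t, ht⟩
  obtain ⟨i, -, hi⟩ := (Nat.dvd_prime_pow Nat.prime_two).1
    (orderOf_dvd_of_pow_eq_one (show t ^ 2 ^ j = 1 from congrArg Subtype.val hj))
  exact ⟨i, hi⟩

/-- The Sylow subgroup, with the index and order of its subgroup fixing `b`. -/
theorem Hyp.exists_pre (H : Hyp α P) (S : Blk P) {ν : ℕ}
    (h3 : ∀ z : G, orderOf z = 2 → fx α z = 3) (hp1 : (p - 1).factorization 2 = ν) :
    (Nat.card G).factorization 2 ≤ ν + 1 ∧ ((Nat.card G).factorization 2 = ν + 1 →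
    ∃ (Q : Sylow 2 G) (a b c : α), Pre α Q a b c ∧ Nat.card (Q : Subgroup G) = 2 ^ (ν + 1) ∧
      Nat.card ↥((Q : Subgroup G) ⊓ MulAction.stabilizer G b) = 2 ^ ν ∧
      ∃ g ∈ (Q : Subgroup G), g • b = c) := by
  classical
  haveI := Fintype.ofFinite α
  haveI := Fact.mk Nat.prime_two
  obtain ⟨Q⟩ : Nonempty (Sylow 2 G) := inferInstance
  set μ := (Nat.card G).factorization 2 with hμ
  have hQc : Nat.card (Q : Subgroup G) = 2 ^ μ := by rw [Q.card_eq_multiplicity, ← hμ]
  haveI : Nontrivial (Q : Subgroup G) := by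
    rw [← Finite.one_lt_card_iff_nontrivial, hQc]
    exact Nat.one_lt_pow (Nat.prime_two.factorization_pos_of_dvd Nat.card_pos.ne' H.two_dvd).ne' one_lt_two
  haveI := Q.isPGroup'.center_nontrivial
  obtain ⟨k, hk0, hk⟩ := (Q.isPGroup'.to_subgroup (Subgroup.center (Q : Subgroup G))).nontrivial_iff_card.1
    inferInstance
  obtain ⟨i, hi⟩ := exists_prime_orderOf_dvd_card' (G := Subgroup.center (Q : Subgroup G)) 2
    (by rw [hk]; exact dvd_pow_self 2 hk0.ne')
  rw [← Subgroup.orderOf_coe, ← Subgroup.orderOf_coe] at hi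
  set z : G := ((i : (Q : Subgroup G)) : G) with hz
  have hzc : ∀ g ∈ (Q : Subgroup G), g * z = z * g := fun g hg =>
    congrArg Subtype.val (Subgroup.mem_center_iff.1 i.2 ⟨g, hg⟩)
  set F := Finset.univ.filter (fun x : α => z • x = x) with hF
  have hFc : F.card = 3 := by
    rw [← h3 z hi, fx, Nat.card_eq_fintype_card, Fintype.card_subtype]
    simp [hF, MulAction.mem_fixedBy]
  have hFinv : ∀ g ∈ (Q : Subgroup G), ∀ x ∈ F, g • x ∈ F := fun g hg x hx => by
    simp only [hF, Finset.mem_filter, Finset.mem_univ, true_and] at hx ⊢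
    rw [← mul_smul, ← hzc g hg, mul_smul, hx]
  -- a common fixed point
  let _act : MulAction (Q : Subgroup G) {x // x ∈ F} :=
    { smul := fun g x => ⟨(g : G) • (x : α), hFinv g g.2 x x.2⟩
      one_smul := fun x => Subtype.ext (one_smul G (x : α))
      mul_smul := fun g h x => Subtype.ext (mul_smul (g : G) (h : G) (x : α)) }
  have hmod := Q.isPGroup'.card_modEq_card_fixedPoints {x // x ∈ F}
  rw [Nat.card_eq_fintype_card, Fintype.card_coe, hFc] at hmod
  obtain ⟨⟨⟨a, haF⟩, ha⟩⟩ : Nonempty (MulAction.fixedPoints (Q : Subgroup G) {x // x ∈ F}) := by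
    refine (Nat.card_pos_iff.1 (Nat.pos_of_ne_zero fun e => ?_)).1
    rw [e] at hmod
    exact absurd hmod (by decide)
  have hfixa : ∀ g ∈ (Q : Subgroup G), g • a = a := fun g hg => congrArg Subtype.val (ha ⟨g, hg⟩)
  obtain ⟨b, c, hbc, hFe⟩ := Finset.card_eq_two.1 (show (F.erase a).card = 2 by
    rw [Finset.card_erase_of_mem haF, hFc])
  have hb : b ≠ a ∧ b ∈ F := Finset.mem_erase.1 (by rw [hFe]; simp)
  have hc : c ≠ a ∧ c ∈ F := Finset.mem_erase.1 (by rw [hFe]; simp)
  have hne : ∀ g ∈ (Q : Subgroup G), ∀ x, x ≠ a → g • x ≠ a := fun g hg x hx e =>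
    hx (MulAction.injective g (e.trans (hfixa g hg).symm))
  have hperm : ∀ g ∈ (Q : Subgroup G), ∀ x, x = b ∨ x = c → g • x = b ∨ g • x = c := fun g hg x hx => by
    have h1 : g • x ∈ F.erase a := Finset.mem_erase.2 ⟨hne g hg x (by
      rcases hx with rfl | rfl; exacts [hb.1, hc.1]), hFinv g hg x (by
      rcases hx with rfl | rfl; exacts [hb.2, hc.2])⟩
    rw [hFe] at h1
    simpa using h1
  have hfixc : ∀ g ∈ (Q : Subgroup G), g • b = b → g • c = c := fun g hg hgb =>
    (hperm g hg c (Or.inr rfl)).resolve_left fun e => hbc (MulAction.injective g (hgb.trans e.symm))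
  have hfree : ∀ g ∈ (Q : Subgroup G), g • b = b → ∀ x, x ≠ a → x ≠ b → x ≠ c → g • x = x → g = 1 := by
    intro t ht htb x hxa hxb hxc hx
    by_contra h1
    obtain ⟨j, hj⟩ := exists_pow_two_orderOf ht
    rcases j with _ | j
    · exact h1 (orderOf_eq_one_iff.1 hj)
    set w := t ^ 2 ^ j with hw
    have hwo : orderOf w = 2 := by
      rw [hw, orderOf_pow' t (by positivity), hj, pow_succ, Nat.gcd_mul_right_left,
        Nat.mul_div_cancel_left _ (by positivity)]
    have h4 : ({a, b, c, x} : Finset α) ⊆ (MulAction.fixedBy α w).toFinset := by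
      intro d hd
      rw [Set.mem_toFinset, MulAction.mem_fixedBy, hw]
      simp only [Finset.mem_insert, Finset.mem_singleton] at hd
      have hmem : t ∈ MulAction.stabilizer G d := by
        rcases hd with rfl | rfl | rfl | rfl
        · exact hfixa t ht
        · exact htb
        · exact hfixc t ht htb
        · exact hx
      exact (MulAction.stabilizer G d).pow_mem hmem _
    have h5 := Finset.card_le_card h4
    have e3 := h3 w hwo
    rw [fx, Nat.card_coe_set_eq, Set.ncard_eq_toFinset_card'] at e3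
    rw [e3, Finset.card_insert_of_notMem (by simp [hb.1.symm, hc.1.symm, hxa.symm]),
      Finset.card_eq_three.2 ⟨b, c, x, hbc, hxb.symm, hxc.symm, rfl⟩] at h5
    omega
  have hpre : Pre α Q a b c :=
    ⟨hb.1.symm, hc.1.symm, hbc, hfixa, fun g hg => hperm g hg b (Or.inl rfl), hfixc, hfree⟩
  set T := (Q : Subgroup G) ⊓ MulAction.stabilizer G b with hT
  -- the subgroup is semiregular outside the three points
  have hTd : Nat.card T ∣ 2 ^ ν := by
    set O := {x : α // x ≠ a ∧ x ≠ b ∧ x ≠ c}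
    let _act2 : MulAction T O :=
      { smul := fun t x => ⟨(t : G) • (x : α), hne t t.2.1 x x.2.1,
          fun e => x.2.2.1 (MulAction.injective (t : G) (e.trans t.2.2.symm)),
          fun e => x.2.2.2 (MulAction.injective (t : G) (e.trans (hfixc t t.2.1 t.2.2).symm))⟩
        one_smul := fun x => Subtype.ext (one_smul G (x : α))
        mul_smul := fun g h x => Subtype.ext (mul_smul (g : G) (h : G) (x : α)) }
    have hbot : ∀ x : O, MulAction.stabilizer T x = ⊥ := fun x =>
      (eq_bot_iff_forall _).2 fun t ht => Subtype.ext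
        (hfree t t.2.1 t.2.2 x x.2.1 x.2.2.1 x.2.2.2 (congrArg Subtype.val ht))
    have hd : Nat.card T ∣ Nat.card O := by
      rw [Nat.card_congr (MulAction.selfEquivOrbitsQuotientProd hbot), Nat.card_prod]
      exact dvd_mul_left _ _
    have hOc : Nat.card O = 3 * (p - 1) := by
      rw [Nat.card_eq_fintype_card, Fintype.card_subtype,
        show (Finset.univ.filter fun x => x ≠ a ∧ x ≠ b ∧ x ≠ c) = Finset.univ \ {a, b, c} by ext; simp,
        Finset.card_sdiff_of_subset (Finset.subset_univ _), Finset.card_univ,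
        Finset.card_eq_three.2 ⟨a, b, c, hb.1.symm, hc.1.symm, hbc, rfl⟩, ← Nat.card_eq_fintype_card, H.hα]
      omega
    obtain ⟨j, hj⟩ := IsPGroup.iff_card.1 (Q.isPGroup'.to_le (show T ≤ (Q : Subgroup G) from inf_le_left))
    rw [hj] at hd ⊢
    rw [hOc] at hd
    have h1 : 2 ^ j ∣ p - 1 := (Nat.Coprime.pow_left j (by norm_num)).dvd_of_dvd_mul_left hd
    refine Nat.pow_dvd_pow 2 ?_
    rw [← hp1]
    exact (Nat.prime_two.pow_dvd_iff_le_factorization (by have := H.p3; omega)).1 h1
  have horb := MulAction.orbitEquivQuotientStabilizer (Q : Subgroup G) b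
  have h1 := Subgroup.card_eq_card_quotient_mul_card_subgroup (MulAction.stabilizer (Q : Subgroup G) b)
  rw [← Nat.card_congr horb, hQc, Nat.card_congr (show MulAction.stabilizer (Q : Subgroup G) b ≃ T from
    { toFun := fun t => ⟨((t : (Q : Subgroup G)) : G), (t : (Q : Subgroup G)).2, t.2⟩
      invFun := fun t => ⟨⟨t.1, t.2.1⟩, t.2.2⟩
      left_inv := fun _ => rfl
      right_inv := fun _ => rfl })] at h1
  have hle : Nat.card (MulAction.orbit (Q : Subgroup G) b) ≤ 2 := by
    rw [Nat.card_coe_set_eq]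
    refine (Set.ncard_le_ncard (t := {b, c}) ?_).trans (Set.ncard_pair hbc).le
    rintro _ ⟨g, rfl⟩
    exact hperm g g.2 b (Or.inl rfl)
  have hTle := Nat.le_of_dvd (by positivity) hTd
  have hprod : Nat.card (MulAction.orbit (Q : Subgroup G) b) * Nat.card T ≤ 2 * Nat.card T :=
    Nat.mul_le_mul_right _ hle
  rw [← h1] at hprod
  refine ⟨?_, fun hμν => ?_⟩
  · refine (Nat.pow_le_pow_iff_right (le_refl 2)).1 ?_
    rw [pow_succ]
    omega
  rw [hμν] at hQc
  have hT0 : Nat.card T = 2 ^ ν := by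
    rw [hμν, pow_succ] at hprod
    omega
  refine ⟨Q, a, b, c, hpre, hQc, hT0, ?_⟩
  by_contra hno
  push Not at hno
  have hall : (Q : Subgroup G) ≤ T := fun g hg =>
    ⟨hg, (hperm g hg b (Or.inl rfl)).resolve_right (hno g hg)⟩
  have h2 := card_le_of_le hall
  rw [hQc, hT0, pow_succ] at h2
  have : 0 < 2 ^ ν := by positivity
  omega

/-- A dihedral Sylow subgroup of order `8`, in position. -/
structure Frame (α : Type v) [MulAction G α] (Q : Sylow 2 G) (a b c : α) (σ τ : G) : Prop where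
  pre : Pre α Q a b c
  dih : CharTheory.DihedralPrincipal.DihSylow Q σ τ 2
  τb : τ • b = c
  στb : (σ * τ) • b = b
  Jb : (σ ^ 2) • b = b

theorem Hyp.exists_frame (H : Hyp α P) (S : Blk P)
    (h3 : ∀ z : G, orderOf z = 2 → fx α z = 3)
    (hν : (Nat.card G).factorization 2 = 3) (hp1 : (p - 1).factorization 2 = 2) :
    ∃ (Q : Sylow 2 G) (a b c : α) (σ τ : G), Frame α Q a b c σ τ := by
  classical
  haveI := Fintype.ofFinite α
  haveI := H.faith
  haveI := H.simple
  haveI := Fact.mk Nat.prime_two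
  obtain ⟨Q, a, b, c, hpre, hQc, hTc, g₀, hg₀, hg₀b⟩ := (H.exists_pre S h3 hp1).2 hν
  set T := (Q : Subgroup G) ⊓ MulAction.stabilizer G b with hT
  have hp4 : p % 8 = 5 := by
    have h1 : 2 ^ 2 ∣ p - 1 := by have h := Nat.ordProj_dvd (p - 1) 2; rwa [hp1] at h
    have h2 : ¬ 2 ^ 3 ∣ p - 1 := fun h => by
      rw [Nat.prime_two.pow_dvd_iff_le_factorization (by have := H.p3; omega), hp1] at h
      omega
    have := H.p3
    omega
  have hfix3 : ∀ w : G, orderOf w = 2 → ∀ x y z : α, x ≠ y → x ≠ z → y ≠ z → w • x = x → w • y = y →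
      w • z = z → ∀ d, w • d = d → d = x ∨ d = y ∨ d = z := by
    intro w hw x y z hxy hxz hyz hx hy hz d hd
    by_contra hne
    push Not at hne
    have h4 : ({x, y, z, d} : Finset α) ⊆ (MulAction.fixedBy α w).toFinset := by
      intro e he
      rw [Set.mem_toFinset, MulAction.mem_fixedBy]
      simp only [Finset.mem_insert, Finset.mem_singleton] at he
      rcases he with rfl | rfl | rfl | rfl <;> assumption
    have h5 := Finset.card_le_card h4
    have e3 := h3 w hw
    rw [fx, Nat.card_coe_set_eq, Set.ncard_eq_toFinset_card'] at e3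
    rw [e3, Finset.card_insert_of_notMem (by simp [hxy, hxz, hne.1.symm]),
      Finset.card_eq_three.2 ⟨y, z, d, hyz, hne.2.1.symm, hne.2.2.symm, rfl⟩] at h5
    omega
  -- `T` has exponent two
  have hsq : ∀ t ∈ T, t * t = 1 := by
    intro t ht
    by_contra h
    have h4 : orderOf t ∣ 2 ^ 2 := hTc ▸ (orderOf_mk t ht ▸ orderOf_dvd_natCard (⟨t, ht⟩ : T))
    have ht4 : orderOf t = 4 := by
      obtain ⟨i, hi, hio⟩ := (Nat.dvd_prime_pow Nat.prime_two).1 h4
      rcases (show i = 0 ∨ i = 1 ∨ i = 2 by omega) with rfl | rfl | rfl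
      · exact absurd (by rw [orderOf_eq_one_iff.1 (hio.trans (pow_zero 2)), mul_one]) h
      · exact absurd (by rw [← pow_two, ← pow_one 2, ← hio, pow_orderOf_eq_one]) h
      · exact hio
    set w := MulAction.toPermHom G α t with hw
    have hwo : orderOf w = 4 := by
      rw [hw, orderOf_injective (MulAction.toPermHom G α) (fun g h e' => FaithfulSMul.eq_of_smul_eq_smul
        (α := α) fun d => DFunLike.congr_fun e' d) t, ht4]
    have hall : ∀ n ∈ w.cycleType, n = 4 := by
      intro n hn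
      have hdvd := Equiv.Perm.dvd_of_mem_cycleType hn
      rw [hwo] at hdvd
      obtain ⟨cy, ρ, hwc, hdis, hcy, rfl⟩ := (Equiv.Perm.mem_cycleType_iff).1 hn
      refine Nat.dvd_antisymm hdvd ?_
      obtain ⟨x, hx⟩ := hcy.nonempty_support
      have hρx : ρ x = x := (hdis x).resolve_left (Equiv.Perm.mem_support.1 hx)
      have hmove : t • x ≠ x := fun e => Equiv.Perm.mem_support.1 hx (by
        have h' : w x = x := e
        rwa [hwc, Equiv.Perm.mul_apply, hρx] at h')
      have hpow : (t ^ cy.support.card) • x = x := by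
        show (MulAction.toPermHom G α (t ^ cy.support.card)) x = x
        rw [map_pow, ← hw, hwc, hdis.commute.mul_pow, Equiv.Perm.mul_apply,
          Equiv.Perm.pow_apply_eq_self_of_apply_eq_self hρx, ← hcy.orderOf, pow_orderOf_eq_one,
          Equiv.Perm.one_apply]
      have hpT : t ^ cy.support.card ∈ T := pow_mem ht _
      have h1 := hpre.free _ hpT.1 hpT.2 x
        (fun e => hmove (by rw [e]; exact hpre.fixa t ht.1))
        (fun e => hmove (by rw [e]; exact ht.2))
        (fun e => hmove (by rw [e]; exact hpre.fixc t ht.1 ht.2)) hpow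
      exact ht4 ▸ orderOf_dvd_of_pow_eq_one h1
    have hrep := Multiset.eq_replicate_card.2 hall
    have hsupp : w.support = Finset.univ \ {a, b, c} := by
      ext x
      simp only [Equiv.Perm.mem_support, Finset.mem_sdiff, Finset.mem_univ, true_and, Finset.mem_insert,
        Finset.mem_singleton, not_or]
      constructor
      · intro hx
        exact ⟨fun e => hx (by rw [e]; exact hpre.fixa t ht.1), fun e => hx (by rw [e]; exact ht.2),
          fun e => hx (by rw [e]; exact hpre.fixc t ht.1 ht.2)⟩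
      · intro hx e
        exact h (by rw [hpre.free t ht.1 ht.2 x hx.1 hx.2.1 hx.2.2 e, mul_one])
    have hsum := w.sum_cycleType
    rw [hrep, Multiset.sum_replicate, smul_eq_mul, hsupp, Finset.card_sdiff_of_subset (Finset.subset_univ _),
      Finset.card_univ, Finset.card_eq_three.2 ⟨a, b, c, hpre.hab, hpre.hac, hpre.hbc, rfl⟩,
      ← Nat.card_eq_fintype_card, H.hα] at hsum
    have hsign := H.sign_eq_one t
    rw [← hw, Equiv.Perm.sign_of_cycleType, hrep, Multiset.sum_replicate, Multiset.card_replicate,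
      smul_eq_mul] at hsign
    set r := Multiset.card w.cycleType with hr
    have hodd : Odd (r * 4 + r) := by rw [Nat.odd_iff]; omega
    rw [hodd.neg_one_pow] at hsign
    exact absurd hsign (by decide)
  have hTinv : ∀ t ∈ T, t⁻¹ = t := fun t ht => inv_eq_of_mul_eq_one_right (hsq t ht)
  have hTcomm : ∀ s ∈ T, ∀ t ∈ T, s * t = t * s := fun s hs t ht => by
    calc s * t = (s * t)⁻¹ := (hTinv _ (mul_mem hs ht)).symm
      _ = t * s := by rw [mul_inv_rev, hTinv s hs, hTinv t ht]
  have hswap : ∀ g ∈ (Q : Subgroup G), g ∉ T → g • b = c ∧ g • c = b := fun g hg hgT => by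
    have h1 : g • b = c := (hpre.perm g hg).resolve_left fun e => hgT ⟨hg, e⟩
    refine ⟨h1, ?_⟩
    rcases hpre.perm (g * g) (mul_mem hg hg) with e | e
    · rwa [mul_smul, h1] at e
    · rw [mul_smul, h1] at e
      exact absurd (MulAction.injective g (show g • c = g • b from e.trans h1.symm)) hpre.hbc.symm
  have hconj : ∀ g ∈ (Q : Subgroup G), ∀ t ∈ T, g * t * g⁻¹ ∈ T := fun g hg t ht => by
    refine ⟨show g * t * g⁻¹ ∈ (Q : Subgroup G) from mul_mem (mul_mem hg ht.1) (inv_mem hg), ?_⟩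
    show (g * t * g⁻¹) • b = b
    rcases hpre.perm g⁻¹ (inv_mem hg) with e | e
    · rw [mul_smul, mul_smul, e, show t • b = b from ht.2]; exact (inv_smul_eq_iff.1 e).symm
    · rw [mul_smul, mul_smul, e, hpre.fixc t ht.1 ht.2]; exact (inv_smul_eq_iff.1 e).symm
  have hmul : ∀ g ∈ (Q : Subgroup G), g ∉ T → ∀ h ∈ (Q : Subgroup G), h ∉ T → g * h ∈ T := by
    intro g hg hgT h hh hhT
    exact ⟨mul_mem hg hh, by
      show (g * h) • b = b
      rw [mul_smul, (hswap h hh hhT).1, (hswap g hg hgT).2]⟩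
  -- four elements of `T`
  have hfour : ∀ t1 ∈ T, ∀ t2 ∈ T, t1 ≠ 1 → t2 ≠ 1 → t1 ≠ t2 →
      ∀ x ∈ T, x = 1 ∨ x = t1 ∨ x = t2 ∨ x = t1 * t2 := by
    intro t1 h1 t2 h2 n1 n2 n12 x hx
    by_contra hne
    push Not at hne
    haveI := Fintype.ofFinite T
    have h5 : ({1, ⟨t1, h1⟩, ⟨t2, h2⟩, ⟨t1 * t2, mul_mem h1 h2⟩, ⟨x, hx⟩} : Finset T).card = 5 := by
      have n3 : t1 * t2 ≠ 1 := fun e => n12 (by
        rw [eq_inv_of_mul_eq_one_left e, hTinv t2 h2])
      rw [Finset.card_insert_of_notMem, Finset.card_insert_of_notMem, Finset.card_insert_of_notMem,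
        Finset.card_pair]
      · exact fun e => hne.2.2.2 (congrArg Subtype.val e).symm
      · simp only [Finset.mem_insert, Finset.mem_singleton, Subtype.mk.injEq, not_or]
        exact ⟨fun e => n1 (by simpa using e), hne.2.2.1.symm⟩
      · simp only [Finset.mem_insert, Finset.mem_singleton, Subtype.mk.injEq, not_or]
        exact ⟨n12, fun e => n2 (by simpa using e), hne.2.1.symm⟩
      · simp only [Finset.mem_insert, Finset.mem_singleton, ← Subtype.coe_inj, not_or, Subgroup.coe_one]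
        exact ⟨n1.symm, n2.symm, n3.symm, hne.1.symm⟩
    have := Finset.card_le_univ ({1, ⟨t1, h1⟩, ⟨t2, h2⟩, ⟨t1 * t2, mul_mem h1 h2⟩, ⟨x, hx⟩} : Finset T)
    rw [h5, ← Nat.card_eq_fintype_card, hTc] at this
    omega
  -- an involution outside `T`
  obtain ⟨τ, hτQ, hτT, hττ⟩ : ∃ τ ∈ (Q : Subgroup G), τ ∉ T ∧ τ * τ = 1 := by
    by_contra hno
    push Not at hno
    have hg₀T : g₀ ∉ T := fun h => hpre.hbc (h.2.symm.trans hg₀b)
    have hQd : ∀ g ∈ (Q : Subgroup G), g ∈ T ∨ ∃ t ∈ T, g = g₀ * t := fun g hg => by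
      by_cases hgT : g ∈ T
      · exact Or.inl hgT
      · refine Or.inr ⟨g₀⁻¹ * g, hmul _ (inv_mem hg₀) (fun h => hg₀T (by simpa using inv_mem h)) g hg hgT, ?_⟩
        rw [mul_inv_cancel_left]
    have hz1 : g₀ * g₀ ∈ T := hmul g₀ hg₀ hg₀T g₀ hg₀ hg₀T
    set z1 := g₀ * g₀ with hz1d
    have hz11 : z1 ≠ 1 := hno g₀ hg₀ hg₀T
    have hcomm : ∀ t ∈ T, g₀ * t = t * g₀ := by
      intro t ht
      by_contra hne
      set t' := g₀⁻¹ * t * g₀ with ht'
      have ht'T : t' ∈ T := by
        have := hconj g₀⁻¹ (inv_mem hg₀) t ht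
        rwa [inv_inv] at this
      have hne' : t' ≠ t := fun e => hne (by
        conv_lhs => rw [← e]
        rw [ht']; group)
      have ht1 : t ≠ 1 := fun e => hne' (by rw [ht', e]; group)
      have ht'1 : t' ≠ 1 := fun e => ht1 (by
        have : t = g₀ * t' * g₀⁻¹ := by rw [ht']; group
        rw [this, e]; group)
      have hzt : z1 ≠ t := fun e => hne' (by rw [ht', ← e, hz1d]; group)
      have hzt' : z1 ≠ t' := fun e => hne' (by
        have : t = g₀ * t' * g₀⁻¹ := by rw [ht']; group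
        rw [← e, hz1d] at this
        rw [← e, this, hz1d]; group)
      have hprod : z1 = t' * t :=
        ((((hfour t' ht'T t ht ht'1 ht1 hne') z1 hz1).resolve_left hz11).resolve_left hzt').resolve_left hzt
      refine hno (g₀ * t) (mul_mem hg₀ ht.1) (fun h => hg₀T (by
        have := mul_mem h (inv_mem ht)
        rwa [mul_inv_cancel_right] at this)) ?_
      calc g₀ * t * (g₀ * t) = z1 * (g₀⁻¹ * t * g₀) * t := by rw [hz1d]; group
        _ = t' * t * (t' * t) := by rw [← ht', mul_assoc, hprod]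
        _ = 1 := by
          have : (t' * t) * (t' * t) = 1 := hsq _ (mul_mem ht'T ht)
          exact this
    haveI hab : IsMulCommutative (Q : Subgroup G) := ⟨⟨fun x y => Subtype.ext (by
      show (x : G) * y = y * x
      rcases hQd x x.2 with hx | ⟨s, hs, hx⟩ <;> rcases hQd y y.2 with hy | ⟨t, ht, hy⟩
      · exact hTcomm _ hx _ hy
      · rw [hy, ← mul_assoc, ← hcomm _ hx, mul_assoc, hTcomm _ hx _ ht, mul_assoc]
      · rw [hx, mul_assoc, hTcomm _ hs _ hy, ← mul_assoc, hcomm _ hy, mul_assoc]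
      · rw [hx, hy]
        calc g₀ * s * (g₀ * t) = g₀ * (s * g₀) * t := by group
          _ = g₀ * (g₀ * s) * t := by rw [hcomm s hs]
          _ = g₀ * g₀ * (s * t) := by group
          _ = g₀ * g₀ * (t * s) := by rw [hTcomm s hs t ht]
          _ = g₀ * (g₀ * t) * s := by group
          _ = g₀ * (t * g₀) * s := by rw [hcomm t ht]
          _ = g₀ * t * (g₀ * s) := by group)⟩⟩
    -- fusion of the squares
    obtain ⟨t, ht, ht1, htz⟩ : ∃ t ∈ T, t ≠ 1 ∧ t ≠ z1 := by
      by_contra hh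
      push Not at hh
      haveI := Fintype.ofFinite T
      have h1 : (Finset.univ : Finset T) ⊆ {1, ⟨z1, hz1⟩} := fun x _ => by
        simp only [Finset.mem_insert, Finset.mem_singleton, ← Subtype.coe_inj, Subgroup.coe_one]
        by_cases hx : (x : G) = 1
        · exact Or.inl hx
        · exact Or.inr (hh _ x.2 hx)
      have h2 := (Finset.card_le_card h1).trans Finset.card_le_two
      rw [Finset.card_univ, ← Nat.card_eq_fintype_card, hTc] at h2
      omega
    have ho : ∀ x ∈ T, x ≠ 1 → orderOf x = 2 := fun x hx hx1 =>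
      orderOf_eq_prime (by rw [pow_two]; exact hsq x hx) hx1
    obtain ⟨d, hd⟩ := isConj_iff.1 (H.isConj_involutions S (ho z1 hz1 hz11) (ho t ht ht1))
    obtain ⟨n, hn, hn'⟩ := Q.conj_eq_normalizer_conj_of_mem z1 d⁻¹ hz1.1 (by
      rw [inv_inv, hd]; exact ht.1)
    rw [inv_inv, hd] at hn'
    have hwn : n⁻¹ * g₀ * n ∈ (Q : Subgroup G) := by
      have h1 := (Subgroup.mem_normalizer_iff.1 (inv_mem hn) g₀).1 hg₀
      rwa [inv_inv] at h1
    have hsqw : n⁻¹ * g₀ * n * (n⁻¹ * g₀ * n) = t := by rw [hn', hz1d]; group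
    rcases hQd _ hwn with hw | ⟨s, hs, hw⟩
    · exact ht1 (by rw [← hsqw]; exact hsq _ hw)
    · refine htz ?_
      rw [← hsqw, hw, hz1d]
      calc g₀ * s * (g₀ * s) = g₀ * (s * g₀) * s := by group
        _ = g₀ * (g₀ * s) * s := by rw [hcomm s hs]
        _ = g₀ * g₀ * (s * s) := by group
        _ = g₀ * g₀ := by rw [hsq s hs, mul_one]
  have hτi : τ⁻¹ = τ := inv_eq_of_mul_eq_one_right hττ
  have hτo : orderOf τ = 2 := orderOf_eq_prime (by rw [pow_two]; exact hττ) fun e => hτT (e ▸ one_mem T)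
  obtain ⟨hτb, hτc⟩ := hswap τ hτQ hτT
  -- it does not centralize `T`
  obtain ⟨t, ht, htne⟩ : ∃ t ∈ T, τ * t * τ ≠ t := by
    by_contra hall
    push Not at hall
    obtain ⟨d, hd, hda⟩ : ∃ d, τ • d = d ∧ d ≠ a := by
      have e3 := h3 τ hτo
      rw [fx, Nat.card_coe_set_eq] at e3
      by_contra hh
      push Not at hh
      have := Set.ncard_le_ncard (s := MulAction.fixedBy α τ) (t := {a}) (fun x hx => hh x hx)
      rw [e3, Set.ncard_singleton] at this
      omega
    have hdb : d ≠ b := fun e => hpre.hbc (by rw [← hτb, ← e, hd])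
    have hdc : d ≠ c := fun e => hpre.hbc.symm (by rw [← hτc, ← e, hd])
    have himg : ∀ s ∈ T, τ • (s • d) = s • d := fun s hs => by
      have h1 : τ * s = s * τ := by
        conv_rhs => rw [← hall s hs]
        rw [mul_assoc (τ * s) τ τ, hττ, mul_one]
      rw [← mul_smul, h1, mul_smul, hd]
    have hinj : Function.Injective fun s : T => (⟨(s : G) • d, himg s s.2⟩ : MulAction.fixedBy α τ) :=
      fun s s' e => by
        have e' : (s : G) • d = (s' : G) • d := congrArg Subtype.val e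
        have h1 := hpre.free ((s' : G)⁻¹ * s) (mul_mem (inv_mem s'.2.1) s.2.1)
          (mul_mem (inv_mem s'.2) s.2).2 d hda hdb hdc (by rw [mul_smul, e', inv_smul_smul])
        exact Subtype.ext (inv_mul_eq_one.1 h1).symm
    have h4 := Nat.card_le_card_of_injective _ hinj
    have h5 : Nat.card (MulAction.fixedBy α τ) = 3 := h3 τ hτo
    rw [hTc, h5] at h4
    omega
  have ht1 : t ≠ 1 := fun e => htne (by rw [e, mul_one]; exact hττ)
  set σ := τ * t with hσ
  have hσQ : σ ∈ (Q : Subgroup G) := mul_mem hτQ ht.1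
  have htT : τ * t * τ ∈ T := by
    have := hconj τ hτQ t ht
    rwa [hτi] at this
  have hJ : σ ^ 2 = τ * t * τ * t := by rw [pow_two, hσ]; group
  have hJT : σ ^ 2 ∈ T := hJ ▸ mul_mem htT ht
  have hJ1 : σ ^ 2 ≠ 1 := fun e => htne (by
    rw [hJ] at e
    rw [eq_inv_of_mul_eq_one_left e, hTinv t ht])
  have hσ4 : orderOf σ = 2 * 2 := by
    rw [show 2 * 2 = 2 ^ (1 + 1) from rfl]
    refine orderOf_eq_prime_pow (by rw [pow_one]; exact hJ1) ?_
    rw [show 2 ^ (1 + 1) = 2 * 2 from rfl, pow_mul, pow_two (σ ^ 2)]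
    exact hsq _ hJT
  have hrel : τ * σ * τ⁻¹ = σ⁻¹ := by
    rw [hτi, hσ, mul_inv_rev, hτi, hTinv t ht]
    rw [show τ * (τ * t) * τ = τ * τ * (t * τ) by group, hττ, one_mul]
  have hn := CharTheory.DihedralPrincipal.τ_notMem_of_rel le_rfl hσ4 hrel
  refine ⟨Q, a, b, c, σ, τ, hpre, ⟨hσQ, hτQ, hσ4, hττ, hrel, hn, dvd_refl 2, ⟨1, rfl⟩,
    CharTheory.DihedralPrincipal.exists_cases_of_card hσQ hτQ hσ4 hn (by rw [hQc]; norm_num)⟩, hτb, ?_, hJT.2⟩
  show (σ * τ) • b = b
  rw [hσ]
  exact htT.2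

end Cfsg.Agent.DegreeThreeP
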