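import Cfsg.Agent.Lib.DegreeThreeP.Char
import Cfsg.Agent.BlocksChars.PrimeDegrees
import Cfsg.Agent.Lib.ZStar.KleinFour
import Cfsg.Agent.Lib.Blocks.RegularSum

/-!
# Degree `3 p`: the involutions
-/

set_option autoImplicit false
set_option linter.style.haveILetI false
set_option linter.unusedSectionVars false

namespace Cfsg.Agent.DegreeThreeP

open Cfsg.Agent.Characters Cfsg.Agent.Blocks Subgroup Cfsg.Agent.PrimeBlock
open scoped ComplexConjugate

universe u v

variable {G : Type u} [Group G] [Finite G] {α : Type v} [MulAction G α] [Finite α] {p : ℕ}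
  [Fact p.Prime] {P : Sylow p G}

theorem sq_one_of_orderOf {z : G} (hz : orderOf z = 2) : z * z = 1 := by
  have := pow_orderOf_eq_one z
  rwa [hz, pow_two] at this

theorem Hyp.not_dvd_two (H : Hyp α P) {z : G} (hz : orderOf z = 2) : ¬ p ∣ orderOf z := by
  rw [hz]
  intro h
  have := Nat.le_of_dvd two_pos h
  have := H.p3
  omega

/-- The conjugators of `g` into `h` form a coset of the centralizer. -/
theorem card_conjugators {g h : G} (hc : IsConj g h) :
    Nat.card {a : G // a * g * a⁻¹ = h} = Nat.card (centralizer ({g} : Set G)) := by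
  obtain ⟨a₀, ha₀⟩ := isConj_iff.1 hc
  refine Nat.card_congr
    { toFun := fun a => ⟨a₀⁻¹ * a.1, mem_centralizer_singleton_iff.2 ?_⟩
      invFun := fun k => ⟨a₀ * k.1, ?_⟩
      left_inv := fun a => Subtype.ext (mul_inv_cancel_left a₀ a.1)
      right_inv := fun k => Subtype.ext (inv_mul_cancel_left a₀ k.1) }
  · calc a₀⁻¹ * a.1 * g = a₀⁻¹ * (a.1 * g * a.1⁻¹) * a.1 := by group
      _ = a₀⁻¹ * (a₀ * g * a₀⁻¹) * a.1 := by rw [a.2, ha₀]
      _ = g * (a₀⁻¹ * a.1) := by group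
  · calc a₀ * k.1 * g * (a₀ * k.1)⁻¹ = a₀ * (k.1 * g) * k.1⁻¹ * a₀⁻¹ := by group
      _ = a₀ * (g * k.1) * k.1⁻¹ * a₀⁻¹ := by rw [mem_centralizer_singleton_iff.1 k.2]
      _ = h := by rw [← ha₀]; group

theorem bracket {f u s e : ℂ} (hs : s * s = 1) (he : e * e = 1) (hf : f ≠ 0) (hF : 1 + s * f ≠ 0) :
    (1 + u * u * s / f + (1 + s * u) ^ 2 / (e * (1 + s * f)) * -e) * (f * (f + s)) = (f - u) ^ 2 := by
  have he0 : e ≠ 0 := left_ne_zero_of_mul_eq_one he
  have h2 : (1 + s * u) ^ 2 / (e * (1 + s * f)) * -e = -((1 + s * u) ^ 2 / (1 + s * f)) := by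
    field_simp
  have h3 : f + s = s * (1 + s * f) := by linear_combination (-f) * hs
  rw [h2, h3]
  field_simp
  linear_combination ((f - u) ^ 2) * hs

theorem Hyp.faithful_χ (H : Hyp α P) (S : Blk P) :
    ∀ g : G, (S.χ : G → ℂ) g = (S.χ : G → ℂ) 1 → g = 1 := by
  haveI := H.simple
  exact (BlocksChars.PrimeDegrees.simple_irr (fun h => H.not_comm ⟨⟨h⟩⟩) S.χ_ne).1

theorem Hyp.deg_χ_ge (H : Hyp α P) (S : Blk P) : 2 ≤ deg S.χ := by
  haveI := H.simple
  have h1 : 0 < deg S.χ := charDegree_pos S.χ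
  have h2 : deg S.χ ≠ 1 := deg_ne_one H.not_comm S.χ_ne
  omega

theorem Hyp.deg_Y_one (H : Hyp α P) (S : Blk P) {θ : Cfsg.IrrCharacter G} (hθ : θ ∈ S.D.Y) :
    (θ : G → ℂ) 1 = (S.D.ε : ℂ) * (1 + (S.D.sgn S.χ : ℂ) * (deg S.χ : ℂ)) := by
  rw [S.Y_regular hθ not_dvd_one, deg_cast]

/-- The class multiplication formula at an element of order `p`. -/
theorem Hyp.pair_sum (H : Hyp α P) (S : Blk P) [Fintype G] [Fintype (Cfsg.IrrCharacter G)] {z x : G}
    (hz : orderOf z = 2) (hx : x ∈ (P : Subgroup G)) (hx1 : x ≠ 1) {u : ℤ}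
    (hu : (S.χ : G → ℂ) z = (u : ℂ)) :
    (∑ w : G, ∑ χ : Cfsg.IrrCharacter G, (χ : G → ℂ) (z * (w * z * w⁻¹)) * conj ((χ : G → ℂ) x)) *
        ((deg S.χ : ℂ) * ((deg S.χ : ℂ) + (S.D.sgn S.χ : ℂ))) =
      (Nat.card G : ℂ) * ((deg S.χ : ℂ) - (u : ℂ)) ^ 2 := by
  classical
  have hzp := H.not_dvd_two hz
  have hf : (deg S.χ : ℂ) ≠ 0 := by
    have := H.deg_χ_ge S
    exact Nat.cast_ne_zero.2 (by omega)
  have hs : (S.D.sgn S.χ : ℂ) * (S.D.sgn S.χ : ℂ) = 1 := by
    rcases S.D.sgn_eq _ S.χ_mem with e | e <;> simp [e]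
  have hε : (S.D.ε : ℂ) * S.D.ε = 1 := by
    rcases S.D.ε_eq with e | e <;> simp [e]
  have hF : 1 + (S.D.sgn S.χ : ℂ) * (deg S.χ : ℂ) ≠ 0 := by
    intro e
    have h2 : ((1 + S.D.sgn S.χ * (deg S.χ : ℤ) : ℤ) : ℂ) = ((0 : ℤ) : ℂ) := by push_cast; exact e
    have h3 := Int.cast_inj.1 h2
    have := H.deg_χ_ge S
    rcases S.D.sgn_eq _ S.χ_mem with e' | e' <;> rw [e'] at h3 <;> omega
  rw [Finset.sum_comm]
  simp only [← Finset.sum_mul]
  rw [Finset.sum_congr rfl fun (χ : Cfsg.IrrCharacter G) _ =>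
      show (∑ w : G, (χ : G → ℂ) (z * (w * z * w⁻¹))) * conj ((χ : G → ℂ) x) = (Nat.card G : ℂ) *
        ((χ : G → ℂ) z * (χ : G → ℂ) z * conj ((χ : G → ℂ) x) / (χ : G → ℂ) 1) by
      rw [sum_mul_conjugates χ.2]; ring, ← Finset.mul_sum,
    Brauer.sum_split S.D S.ht, S.erase_eq, Finset.sum_singleton,
    Finset.sum_eq_zero (s := Brauer.outside S.D) fun ψ hψ => by
      rw [S.D.eq_zero_of_notMem H.card_centralizer ((Brauer.mem_outside S.D).1 hψ) hx hx1]
      simp,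
    Finset.sum_congr (s₁ := S.D.Y) rfl fun θ hθ => show
      (θ : G → ℂ) z * (θ : G → ℂ) z * conj ((θ : G → ℂ) x) / (θ : G → ℂ) 1 =
        (1 + (S.D.sgn S.χ : ℂ) * (u : ℂ)) ^ 2 /
          ((S.D.ε : ℂ) * (1 + (S.D.sgn S.χ : ℂ) * (deg S.χ : ℂ))) * conj ((θ : G → ℂ) x) by
        rw [S.Y_regular hθ hzp, hu, H.deg_Y_one S hθ,
          show (S.D.ε : ℂ) * (1 + (S.D.sgn S.χ : ℂ) * (u : ℂ)) *
            ((S.D.ε : ℂ) * (1 + (S.D.sgn S.χ : ℂ) * (u : ℂ))) =
            (1 + (S.D.sgn S.χ : ℂ) * (u : ℂ)) ^ 2 by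
              linear_combination (1 + (S.D.sgn S.χ : ℂ) * (u : ℂ)) ^ 2 * hε]
        ring,
    ← Finset.mul_sum, ← map_sum, S.D.sum_Y hx hx1, S.D.val_X' S.χ_mem hx hx1, hu, ← deg_cast S.χ]
  simp only [trivIrr_coe, map_one, map_neg, map_intCast, mul_one, add_zero, div_one, one_mul]
  have hb := bracket (u := (u : ℂ)) hs hε hf hF
  linear_combination (Nat.card G : ℂ) * hb

/-- Every involution is conjugate to one inverting a given element of order `p`. -/
theorem Hyp.exists_inverts (H : Hyp α P) (S : Blk P) {z x : G} (hz : orderOf z = 2)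
    (hx : x ∈ (P : Subgroup G)) (hx1 : x ≠ 1) :
    ∃ c : G, c * z * c⁻¹ * x * (c * z * c⁻¹)⁻¹ = x⁻¹ := by
  classical
  haveI := Fintype.ofFinite G
  haveI := Fintype.ofFinite (Cfsg.IrrCharacter G)
  have hz2 := sq_one_of_orderOf hz
  obtain ⟨a, ha⟩ := ZStar.KleinFour.exists_int_value (irr_isCharacter S.χ) hz2
  by_cases hex : ∃ w : G, IsConj (z * (w * z * w⁻¹)) x
  · obtain ⟨w, hw⟩ := hex
    obtain ⟨c, hc⟩ := isConj_iff.1 hw
    refine ⟨c, ?_⟩
    set u := c * z * c⁻¹ with hu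
    set v := c * (w * z * w⁻¹) * c⁻¹ with hv
    have huv : u * v = x := by rw [← hc, hu, hv]; group
    have hconj : ∀ a : G, a * z * a⁻¹ * (a * z * a⁻¹) = 1 := fun a => by
      rw [show a * z * a⁻¹ * (a * z * a⁻¹) = a * (z * z) * a⁻¹ by group, hz2]; group
    have key : ∀ a b : G, a * a = 1 → b * b = 1 → a * (a * b) * a⁻¹ = (a * b)⁻¹ := fun a b ha hb => by
      rw [mul_inv_rev, inv_eq_of_mul_eq_one_right ha, inv_eq_of_mul_eq_one_right hb, ← mul_assoc, ha,
        one_mul]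
    rw [← huv]
    refine key u v (hconj c) ?_
    rw [hv, show c * (w * z * w⁻¹) * c⁻¹ = c * w * z * (c * w)⁻¹ by group]
    exact hconj (c * w)
  · exfalso
    push Not at hex
    have h := H.pair_sum S hz hx hx1 ha
    rw [Finset.sum_eq_zero fun w _ => by rw [second_orthogonality, if_neg (hex w)], zero_mul,
      eq_comm, mul_eq_zero, or_iff_right natCard_ne_zero, pow_eq_zero_iff two_ne_zero, sub_eq_zero] at h
    have h5 : z = 1 := H.faithful_χ S z (by rw [ha, ← h, deg_cast])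
    rw [h5, orderOf_one] at hz
    omega

theorem Hyp.inverts_sq_one (H : Hyp α P) (S : Blk P) {x v : G} (hx : x ∈ (P : Subgroup G))
    (hx1 : x ≠ 1) (hv : v * x * v⁻¹ = x⁻¹) : orderOf v = 2 := by
  have hxo := S.D.orderOf_eq hx hx1
  have hp3 := H.p3
  haveI := Fact.mk Nat.prime_two
  have hxx : x ≠ x⁻¹ := fun e => by
    have h2 : x ^ 2 = 1 := by rw [pow_two]; nth_rewrite 2 [e]; exact mul_inv_cancel x
    have := Nat.le_of_dvd two_pos (orderOf_dvd_of_pow_eq_one h2)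
    omega
  have hcom : v * v * x = x * (v * v) := by
    have h1 : v * x⁻¹ * v⁻¹ = x := by
      have := congrArg (·⁻¹) hv
      simpa [mul_inv_rev, mul_assoc] using this
    calc v * v * x = v * (v * x * v⁻¹) * v⁻¹ * (v * v) := by group
      _ = x * (v * v) := by rw [hv, h1]
  have hmem : v * v ∈ zpowers x := by
    rw [S.D.zpowers_eq hx hx1, ← Brauer.centralizer_eq_sylow S.D H.card_centralizer,
      ← S.D.centralizer_eq hx hx1, mem_centralizer_singleton_iff]
    exact hcom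
  refine orderOf_eq_prime ?_ fun e => hxx (by rw [← hv, e]; group)
  obtain ⟨i, hi⟩ := hmem
  have h1 : v * (v * v) * v⁻¹ = (v * v)⁻¹ := by
    rw [← hi]
    show v * x ^ i * v⁻¹ = (x ^ i)⁻¹
    rw [← conj_zpow, hv, inv_zpow]
  rw [show v * (v * v) * v⁻¹ = v * v by group] at h1
  have h2 : (v * v) ^ 2 = 1 := by
    rw [pow_two]; nth_rewrite 2 [h1]; exact mul_inv_cancel _
  have hd : orderOf (v * v) ∣ Nat.gcd 2 p := Nat.dvd_gcd (orderOf_dvd_of_pow_eq_one h2) (by
    refine orderOf_dvd_of_pow_eq_one ?_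
    rw [← hi]
    show (x ^ i) ^ p = 1
    rw [← zpow_natCast, ← zpow_mul, mul_comm, zpow_mul, zpow_natCast, ← hxo, pow_orderOf_eq_one,
      one_zpow])
  rw [Nat.Coprime.gcd_eq_one H.odd.coprime_two_left, Nat.dvd_one] at hd
  rw [pow_two]
  exact orderOf_eq_one_iff.1 hd

/-- There is one class of involutions. -/
theorem Hyp.isConj_involutions (H : Hyp α P) (S : Blk P) {z w : G} (hz : orderOf z = 2)
    (hw : orderOf w = 2) : IsConj z w := by
  obtain ⟨x, hx1, hx⟩ := S.D.exists_ne_one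
  have hxo := S.D.orderOf_eq hx hx1
  obtain ⟨c, hc⟩ := H.exists_inverts S hz hx hx1
  obtain ⟨d, hd⟩ := H.exists_inverts S hw hx hx1
  set u := c * z * c⁻¹ with hu
  set v := d * w * d⁻¹ with hv
  have hu2 : u * u = 1 := sq_one_of_orderOf (H.inverts_sq_one S hx hx1 hc)
  have hui : u⁻¹ = u := inv_eq_of_mul_eq_one_right hu2
  have hvu : v * x * v⁻¹ = u * x * u⁻¹ := hd.trans hc.symm
  have hmem : u⁻¹ * v ∈ (P : Subgroup G) := by
    rw [← Brauer.centralizer_eq_sylow S.D H.card_centralizer, ← S.D.centralizer_eq hx hx1,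
      mem_centralizer_singleton_iff]
    calc u⁻¹ * v * x = u⁻¹ * (v * x * v⁻¹) * v := by group
      _ = u⁻¹ * (u * x * u⁻¹) * v := by rw [hvu]
      _ = x * (u⁻¹ * v) := by group
  rw [← S.D.zpowers_eq hx hx1] at hmem
  obtain ⟨l, hl⟩ := mem_powers_iff_mem_zpowers.2 hmem
  have hl' : v = u * x ^ l := by
    show _ = u * x ^ l
    rw [show x ^ l = u⁻¹ * v from hl]; group
  obtain ⟨k, hk⟩ := H.odd
  have hmx : ∀ i : ℕ, x ^ i * u = u * (x ^ i)⁻¹ := fun i => by
    rw [← inv_pow, ← hc, conj_pow]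
    simp only [hui, ← mul_assoc, hu2, one_mul]
  have hxp : x ^ (2 * (l * k)) * x ^ l = 1 := by
    rw [← pow_add, show 2 * (l * k) + l = p * l by rw [hk]; ring, pow_mul, ← hxo, pow_orderOf_eq_one,
      one_pow]
  have huv : x ^ (l * k) * u * (x ^ (l * k))⁻¹ = v := by
    rw [hl', hmx, mul_assoc, ← mul_inv_rev, ← pow_add, ← two_mul]
    rw [inv_eq_of_mul_eq_one_right hxp]
  refine (isConj_iff.2 ⟨c, rfl⟩ : IsConj z u).trans ((isConj_iff.2 ⟨x ^ (l * k), huv⟩ : IsConj u v).trans ?_)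
  exact (isConj_iff.2 ⟨d, rfl⟩ : IsConj w v).symm

theorem Hyp.fx_involution (H : Hyp α P) (S : Blk P) {z : G} (hz : orderOf z = 2) :
    fx α z = 1 ∨ fx α z = 3 := by
  obtain ⟨x, hx1, hx⟩ := S.D.exists_ne_one
  obtain ⟨c, hc⟩ := H.exists_inverts S hz hx hx1
  have hle : fx α z ≤ 3 := fx_conj (α := α) c z ▸ H.fx_le_three (S.D.orderOf_eq hx hx1) hc
  have := (H.four_dvd_moved hz).1
  omega

theorem Hyp.fx_eq (H : Hyp α P) (S : Blk P) {z w : G} (hz : orderOf z = 2) (hw : orderOf w = 2) :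
    fx α w = fx α z := by
  obtain ⟨c, hc⟩ := isConj_iff.1 (H.isConj_involutions S hz hw)
  rw [← hc, fx_conj]

/-- Exactly `p` elements invert an element of order `p`. -/
theorem Hyp.card_inverters (H : Hyp α P) (S : Blk P) {z x : G} (hz : orderOf z = 2)
    (hx : x ∈ (P : Subgroup G)) (hx1 : x ≠ 1) :
    Nat.card {i : G // i * x * i⁻¹ = x⁻¹} = p := by
  obtain ⟨c, hc⟩ := H.exists_inverts S hz hx hx1
  rw [card_conjugators (isConj_iff.2 ⟨c * z * c⁻¹, hc⟩), S.D.centralizer_eq hx hx1, H.card_centralizer]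

/-- The order formula. -/
theorem Hyp.formula (H : Hyp α P) (S : Blk P) {z : G} (hz : orderOf z = 2) {u : ℤ}
    (hu : (S.χ : G → ℂ) z = (u : ℂ)) :
    (Nat.card G : ℤ) * ((deg S.χ : ℤ) - u) ^ 2 =
      (p : ℤ) * (Nat.card (centralizer ({z} : Set G)) : ℤ) ^ 2 *
        ((deg S.χ : ℤ) * ((deg S.χ : ℤ) + S.D.sgn S.χ)) := by
  classical
  haveI := Fintype.ofFinite G
  haveI := Fintype.ofFinite (Cfsg.IrrCharacter G)
  obtain ⟨x, hx1, hx⟩ := S.D.exists_ne_one
  have h := H.pair_sum S hz hx hx1 hu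
  set c := Nat.card (centralizer ({z} : Set G)) with hc
  have hw : ∀ w : G, (∑ χ : Cfsg.IrrCharacter G, (χ : G → ℂ) (z * (w * z * w⁻¹)) *
      conj ((χ : G → ℂ) x)) = (Nat.card {a : G // a * (z * (w * z * w⁻¹)) * a⁻¹ = x} : ℂ) := fun w => by
    rw [second_orthogonality]
    split_ifs with hcw
    · rw [card_conjugators hcw, Brauer.card_centralizer_conj hcw]
    · rw [eq_comm, Nat.cast_eq_zero, Nat.card_eq_zero]
      exact Or.inl ⟨fun a => hcw (isConj_iff.2 ⟨a.1, a.2⟩)⟩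
  rw [Finset.sum_congr rfl fun w _ => hw w, ← Nat.cast_sum, ← Nat.card_sigma] at h
  have hinv : ∀ i : G, i * x * i⁻¹ = x⁻¹ → orderOf i = 2 ∧ orderOf (i * x) = 2 := fun i hi => by
    refine ⟨H.inverts_sq_one S hx hx1 hi, H.inverts_sq_one S hx hx1 ?_⟩
    rw [← hi]; group
  have hcount : Nat.card (Σ w : G, {a : G // a * (z * (w * z * w⁻¹)) * a⁻¹ = x}) = p * c ^ 2 := by
    have e : (Σ w : G, {a : G // a * (z * (w * z * w⁻¹)) * a⁻¹ = x}) ≃
        (Σ i : {i : G // i * x * i⁻¹ = x⁻¹}, {a : G // a * z * a⁻¹ = i.1} × {b : G // b * z * b⁻¹ = i.1 * x}) :=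
      { toFun := fun q => ⟨⟨q.2.1 * z * q.2.1⁻¹, by
            have h2 : z * z = 1 := sq_one_of_orderOf hz
            have hzi : z⁻¹ = z := inv_eq_of_mul_eq_one_right h2
            obtain ⟨w, a, ha⟩ := q
            subst ha
            show a * z * a⁻¹ * (a * (z * (w * z * w⁻¹)) * a⁻¹) * (a * z * a⁻¹)⁻¹ =
              (a * (z * (w * z * w⁻¹)) * a⁻¹)⁻¹
            simp only [mul_inv_rev, inv_inv, hzi]
            simp only [← mul_assoc, inv_mul_cancel_right]
            rw [mul_assoc a z z, h2, mul_one]⟩,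
          ⟨q.2.1, rfl⟩, ⟨q.2.1 * q.1, by
            have h2 : z * z = 1 := sq_one_of_orderOf hz
            obtain ⟨w, a, ha⟩ := q
            subst ha
            show a * w * z * (a * w)⁻¹ = a * z * a⁻¹ * (a * (z * (w * z * w⁻¹)) * a⁻¹)
            calc a * w * z * (a * w)⁻¹
                = a * (z * z) * (w * z * w⁻¹) * a⁻¹ := by rw [h2]; group
              _ = _ := by group⟩⟩
        invFun := fun r => ⟨r.2.1.1⁻¹ * r.2.2.1, r.2.1.1, by
            have hi := sq_one_of_orderOf (hinv r.1.1 r.1.2).1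
            calc r.2.1.1 * (z * (r.2.1.1⁻¹ * r.2.2.1 * z * (r.2.1.1⁻¹ * r.2.2.1)⁻¹)) * r.2.1.1⁻¹
                = r.2.1.1 * z * r.2.1.1⁻¹ * (r.2.2.1 * z * r.2.2.1⁻¹) := by group
              _ = x := by rw [r.2.1.2, r.2.2.2, ← mul_assoc, hi, one_mul]⟩
        left_inv := fun q => by
          obtain ⟨w, a, ha⟩ := q
          have e1 : a⁻¹ * (a * w) = w := inv_mul_cancel_left a w
          ext
          · exact e1
          · simp
        right_inv := fun r => by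
          obtain ⟨⟨i, hi⟩, ⟨a, ha⟩, ⟨b, hb⟩⟩ := r
          simp only at ha hb
          subst ha
          simp }
    rw [Nat.card_congr e, Nat.card_sigma]
    have hterm : ∀ i : {i : G // i * x * i⁻¹ = x⁻¹},
        Nat.card ({a : G // a * z * a⁻¹ = i.1} × {b : G // b * z * b⁻¹ = i.1 * x}) = c ^ 2 := fun i => by
      rw [Nat.card_prod, card_conjugators (H.isConj_involutions S hz (hinv i.1 i.2).1),
        card_conjugators (H.isConj_involutions S hz (hinv i.1 i.2).2), ← hc, pow_two]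
    rw [Finset.sum_congr rfl fun i _ => hterm i, Finset.sum_const, Finset.card_univ,
      ← Nat.card_eq_fintype_card, H.card_inverters S hz hx hx1, smul_eq_mul]
  rw [hcount] at h
  have h' : (((Nat.card G : ℤ) * ((deg S.χ : ℤ) - u) ^ 2 : ℤ) : ℂ) =
      (((p : ℤ) * (c : ℤ) ^ 2 * ((deg S.χ : ℤ) * ((deg S.χ : ℤ) + S.D.sgn S.χ)) : ℤ) : ℂ) := by
    push_cast at h ⊢
    exact h.symm
  exact_mod_cast h'

/-- The centralizer of an involution contains a Sylow `2`-subgroup. -/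
theorem Hyp.factorization_centralizer (H : Hyp α P) (S : Blk P) {z : G} (hz : orderOf z = 2) :
    (Nat.card (centralizer ({z} : Set G))).factorization 2 = (Nat.card G).factorization 2 := by
  haveI := Fact.mk Nat.prime_two
  refine le_antisymm ((Nat.factorization_le_iff_dvd Nat.card_pos.ne' Nat.card_pos.ne').2
    (card_subgroup_dvd_card _) 2) ?_
  obtain ⟨Q⟩ : Nonempty (Sylow 2 G) := inferInstance
  haveI : Nontrivial (Q : Subgroup G) := by
    rw [← Finite.one_lt_card_iff_nontrivial]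
    exact lt_of_lt_of_le one_lt_two (Nat.le_of_dvd Nat.card_pos (by
      rw [Q.card_eq_multiplicity]
      exact dvd_pow_self 2 (Nat.prime_two.factorization_pos_of_dvd Nat.card_pos.ne' H.two_dvd).ne'))
  haveI := Q.isPGroup'.center_nontrivial
  obtain ⟨k, hk0, hk⟩ := (Q.isPGroup'.to_subgroup (Subgroup.center (Q : Subgroup G))).nontrivial_iff_card.1
    inferInstance
  obtain ⟨i, hi⟩ := exists_prime_orderOf_dvd_card' (G := Subgroup.center (Q : Subgroup G)) 2
    (by rw [hk]; exact dvd_pow_self 2 hk0.ne')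
  rw [← Subgroup.orderOf_coe, ← Subgroup.orderOf_coe] at hi
  rw [Brauer.card_centralizer_conj (H.isConj_involutions S hi hz)]
  have hle : (Q : Subgroup G) ≤ centralizer ({((i : (Q : Subgroup G)) : G)} : Set G) := fun g hg =>
    mem_centralizer_singleton_iff.2 (congrArg Subtype.val (Subgroup.mem_center_iff.1 i.2 ⟨g, hg⟩))
  have h1 := (Nat.factorization_le_iff_dvd Nat.card_pos.ne' Nat.card_pos.ne').2 (card_dvd_of_le hle) 2
  rwa [Q.card_eq_multiplicity, Nat.prime_two.factorization_pow, Finsupp.single_eq_same] at h1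

end Cfsg.Agent.DegreeThreeP
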