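import Cfsg.Agent.Lib.DegreeThreeP.MiddleOrbital
import Cfsg.Agent.Lib.DegreeThreeP.FourAction
import Cfsg.Agent.Lib.FrobeniusSchur.Basic
import Cfsg.Agent.Lib.CharTheory.DihedralPrincipal.OrderFormula

/-!
# Degree `3 p`, rank three: the centralizer of an involution and the stabilizer of a fixed triple
-/

set_option autoImplicit false
set_option linter.style.haveILetI false
set_option linter.unusedSectionVars false

namespace Cfsg.Agent.DegreeThreeP

open Cfsg.Agent.Characters Cfsg.Agent.Blocks Subgroup Cfsg.Agent.PrimeBlock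
open Cfsg.Agent.CharTheory.DihedralPrincipal
open scoped ComplexConjugate
open scoped _root_.Classical

universe u v

variable {G : Type u} [Group G] [Fintype G] {α : Type v} [MulAction G α] [Fintype α] {p : ℕ}
  [Fact p.Prime] {P : Sylow p G}

/-- The situation after the frame is found. -/
structure Ctx (α : Type v) [MulAction G α] [Fintype α] (S : Blk P) (ψ : Cfsg.IrrCharacter G) (Q : Sylow 2 G)
    (a b c : α) (σ τ : G) : Prop where
  hyp : Hyp α P
  mid : Mid α S ψ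
  three : ∀ z : G, orderOf z = 2 → fx α z = 3
  frame : Frame α Q a b c σ τ

/-- A primitive fourth root of unity. -/
noncomputable def root4 : ℂ := Complex.exp (2 * (Real.pi : ℂ) * Complex.I / ((2 * 2 : ℕ) : ℂ))

theorem root4_spec : IsPrimitiveRoot root4 (2 * 2) := Complex.isPrimitiveRoot_exp (2 * 2) (by norm_num)

theorem Principal.swap [Fintype (Cfsg.IrrCharacter G)] {σ : G} {m : ℕ} {Md : Ideal Cfsg.AlgInt} {ζ : ℂ}
    {c1 c2 c3 : Cfsg.IrrCharacter G} {d1 d2 d3 : ℤ} {X : ℕ → Cfsg.IrrCharacter G}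
    (T : Principal (G := G) σ m Md ζ c1 c2 c3 d1 d2 d3 X) :
    Principal (G := G) σ m Md ζ c1 c3 c2 d1 d3 d2 X where
  sq1 := T.sq1
  sq2 := T.sq3
  sq3 := T.sq2
  ne1 := T.ne1
  ne2 := T.ne3
  ne3 := T.ne2
  ne12 := T.ne13
  ne13 := T.ne12
  ne23 := T.ne23.symm
  X_inj := T.X_inj
  X_ne := fun j h1 h2 => ⟨(T.X_ne j h1 h2).1, (T.X_ne j h1 h2).2.1, (T.X_ne j h1 h2).2.2.2, (T.X_ne j h1 h2).2.2.1⟩
  mem := fun χ => (T.mem χ).trans (by tauto)
  val1 := T.val1
  val2 := T.val3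
  val3 := T.val2
  valX := T.valX
  reg := fun ρ hρ => ⟨by have := (T.reg ρ hρ).1; linear_combination this, (T.reg ρ hρ).2⟩

/-- The point fixed by the whole centralizer. -/
def Dist (w : G) (d : α) : Prop := ∀ g : G, Commute g w → g • d = d

omit [Fintype G] [Fintype α] in
theorem Dist.conj {w : G} {d : α} (h : Dist w d) (g : G) : Dist (g * w * g⁻¹) (g • d) := fun k hk => by
  have hc : Commute (g⁻¹ * k * g) w := by
    show g⁻¹ * k * g * w = w * (g⁻¹ * k * g)
    calc g⁻¹ * k * g * w = g⁻¹ * (k * (g * w * g⁻¹)) * g := by group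
      _ = g⁻¹ * (g * w * g⁻¹ * k) * g := by rw [hk.eq]
      _ = w * (g⁻¹ * k * g) := by group
  have := h _ hc
  rw [mul_smul, mul_smul, inv_smul_eq_iff] at this
  exact this

/-- The elements of odd order commuting with given elements. -/
noncomputable def oddC (w w' : G) : Finset G :=
  Finset.univ.filter fun y => Commute y w ∧ Commute y w' ∧ ¬ 2 ∣ orderOf y

theorem mem_oddC {w w' y : G} : y ∈ oddC w w' ↔ Commute y w ∧ Commute y w' ∧ ¬ 2 ∣ orderOf y := by
  simp [oddC]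

variable {S : Blk P} {ψ : Cfsg.IrrCharacter G} {Q : Sylow 2 G} {a b c : α} {σ τ : G}

theorem Ctx.order_σ (C : Ctx α S ψ Q a b c σ τ) : orderOf σ = 4 := C.frame.order_σ

theorem Ctx.hJ (C : Ctx α S ψ Q a b c σ τ) : orderOf (σ ^ 2) = 2 := C.frame.dih.orderOf_J

theorem Ctx.regular (C : Ctx α S ψ Q a b c σ τ) {g : G} (hg : orderOf g ∣ 4) : ¬ p ∣ orderOf g :=
  C.hyp.not_dvd_four hg

/-- The characters of the principal block at `2`. -/
theorem Ctx.exists_table (C : Ctx α S ψ Q a b c σ τ) [Fintype (Cfsg.IrrCharacter G)] :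
    ∃ (Md : Ideal Cfsg.AlgInt) (c3 : Cfsg.IrrCharacter G) (X : ℕ → Cfsg.IrrCharacter G),
      Cfsg.IsPModular 2 Md ∧ Principal (G := G) σ 2 Md root4 S.χ ψ c3 1 (-1) (-1) X ∧
        (c3 : G → ℂ) 1 = p ∧ (X 1 : G → ℂ) 1 = 2 * p := by
  have H := C.hyp
  have M := C.mid
  have hp5 := H.p5
  obtain ⟨Md, hMd⟩ := BlockCharsA.DefectZeroVanish.exists_modular Nat.prime_two
  obtain ⟨c1, c2, c3, d1, d2, d3, X, T⟩ := exists_principal C.frame.dih hMd root4_spec
  -- both constituents are real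
  have hχreal : ∀ g : G, ((S.χ : G → ℂ) g).im = 0 := by
    have hperm : ∀ g : G, conj (Cfsg.Agent.Perm.PermModule.permChar G α g) =
        Cfsg.Agent.Perm.PermModule.permChar G α g := fun g => Complex.conj_natCast _
    have h1 : Cfsg.classInner (Cfsg.Agent.Perm.PermModule.permChar G α)
        (FrobeniusSchur.conjIrr S.χ : G → ℂ) = 1 := by
      have h := congrArg conj (M.inner S.χ)
      rw [if_neg S.χ_ne.symm, if_pos rfl, if_neg M.ne_χψ.symm] at h
      simp only [classInner_def, map_mul, map_inv₀, map_sum, Complex.conj_natCast, hperm, Complex.conj_conj,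
        zero_add, add_zero, map_one] at h ⊢
      simpa only [FrobeniusSchur.conjIrr_coe, Complex.conj_conj] using h
    have hdeg : deg (FrobeniusSchur.conjIrr S.χ) = deg S.χ := by
      have : (deg (FrobeniusSchur.conjIrr S.χ) : ℂ) = (deg S.χ : ℂ) := by
        rw [deg_cast, FrobeniusSchur.conjIrr_coe, ← deg_cast, Complex.conj_natCast]
      exact_mod_cast this
    have he : FrobeniusSchur.conjIrr S.χ = S.χ := by
      rw [M.inner] at h1
      by_contra hne
      have hn1 : trivIrr G ≠ FrobeniusSchur.conjIrr S.χ := fun e => by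
        have := congrArg deg e
        rw [hdeg, deg_trivIrr] at this
        have := H.deg_χ_ge S
        omega
      have hn2 : ψ ≠ FrobeniusSchur.conjIrr S.χ := fun e => by
        have := congrArg deg e
        rw [hdeg, M.hψ] at this
        have := M.hf
        omega
      rw [if_neg hn1, if_neg (Ne.symm hne), if_neg hn2] at h1
      norm_num at h1
    intro g
    rw [← Complex.conj_eq_iff_im, ← FrobeniusSchur.conjIrr_coe, he]
  have hψreal : ∀ g : G, ((ψ : G → ℂ) g).im = 0 := fun g => by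
    have h := congrArg Complex.im (M.hπ g)
    rw [Complex.natCast_im, Complex.add_im, Complex.add_im, Complex.one_im, hχreal] at h
    linarith
  have hmem := (Cfsg.Agent.S4483.result (G := G) Md hMd).1
  have hχB : S.χ ∈ Cfsg.principalBlock Md G := hmem _ hχreal (by
    show Odd (deg S.χ); have := M.hf; rw [Nat.odd_iff]; omega)
  have hψB : ψ ∈ Cfsg.principalBlock Md G := hmem _ hψreal (by
    show Odd (deg ψ); rw [M.hψ]; exact H.odd)
  have h2 := (M.two_sylow H C.three).2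
  have hχσ : (S.χ : G → ℂ) σ = 1 :=
    h2 σ (by rw [C.order_σ]; norm_num) (C.regular (by rw [C.order_σ]))
  have hχJ : (S.χ : G → ℂ) (σ ^ 2) = 1 :=
    h2 _ (by rw [C.hJ]) (C.regular (by rw [C.hJ]; norm_num))
  have hψσ : (ψ : G → ℂ) σ = -1 := by
    have h := M.hπ σ
    rw [C.frame.fx_σ, hχσ] at h
    push_cast at h
    linear_combination -h
  have hψJ : (ψ : G → ℂ) (σ ^ 2) = 1 := by
    have h := M.hπ (σ ^ 2)
    rw [C.three _ C.hJ, hχJ] at h
    push_cast at h
    linear_combination -h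
  have hd : ∀ {d : ℤ} {z : ℤ}, (d : ℂ) = (z : ℂ) → d = z := fun h => Int.cast_inj.1 h
  have hX : ∀ ξ : Cfsg.IrrCharacter G, (ξ : G → ℂ) (σ ^ 2) = 1 → ∀ j, 0 < j → j < 2 → ξ ≠ X j :=
    fun ξ hξ j hj0 hj2 e => by
      obtain rfl : j = 1 := by omega
      have h := T.valX 1 one_pos one_lt_two 2 two_pos (by norm_num)
      rw [gv_half root4_spec two_pos 1, ← e, hξ] at h
      have := hd (d := (1 : ℤ)) (z := d1 * (2 * -1)) (by push_cast; linear_combination h)
      omega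
  have v2 := T.val2 1 one_pos (by norm_num)
  have v2' := T.val2 2 two_pos (by norm_num)
  have v3 := T.val3 1 one_pos (by norm_num)
  have v3' := T.val3 2 two_pos (by norm_num)
  rw [pow_one] at v2 v3
  obtain ⟨rfl, rfl⟩ : c1 = S.χ ∧ d1 = 1 := by
    rcases (T.mem _).1 hχB with e | e | e | e | ⟨j, hj0, hj2, e⟩
    · exact absurd e S.χ_ne
    · refine ⟨e.symm, hd ?_⟩
      have h := T.val1 1 one_pos (by norm_num)
      rw [pow_one, ← e, hχσ] at h
      push_cast; exact h.symm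
    · exfalso
      rw [← e, hχσ] at v2; rw [← e, hχJ] at v2'
      norm_num at v2 v2'
      rw [← v2] at v2'; norm_num at v2'
    · exfalso
      rw [← e, hχσ] at v3; rw [← e, hχJ] at v3'
      norm_num at v3 v3'
      rw [← v3] at v3'; norm_num at v3'
    · exact absurd e (hX _ hχJ j hj0 hj2)
  have hψ2 : ψ = c2 ∨ ψ = c3 := by
    rcases (T.mem _).1 hψB with e | e | e | e | ⟨j, hj0, hj2, e⟩
    · exact absurd e M.ne_ψ.symm
    · exact absurd e M.ne_χψ.symm
    · exact Or.inl e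
    · exact Or.inr e
    · exact absurd e (hX _ hψJ j hj0 hj2)
  clear v2 v2' v3 v3'
  suffices key : ∀ c2 c3 d2 d3, Principal (G := G) σ 2 Md root4 S.χ c2 c3 1 d2 d3 X → ψ = c2 →
      ∃ c3' : Cfsg.IrrCharacter G, Principal (G := G) σ 2 Md root4 S.χ ψ c3' 1 (-1) (-1) X ∧
        (c3' : G → ℂ) 1 = p ∧ (X 1 : G → ℂ) 1 = 2 * p by
    rcases hψ2 with e | e
    · obtain ⟨c3', h⟩ := key _ _ _ _ T e; exact ⟨Md, c3', X, hMd, h⟩
    · obtain ⟨c3', h⟩ := key _ _ _ _ (Principal.swap T) e; exact ⟨Md, c3', X, hMd, h⟩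
  intro c2 c3 d2 d3 T e
  subst e
  have hd2 : d2 = -1 := by
    have h := T.val2 1 one_pos (by norm_num)
    rw [pow_one, hψσ] at h
    norm_num at h
    exact hd (by push_cast; exact h.symm)
  subst hd2
  obtain ⟨r1, r2⟩ := T.reg 1 (by simp)
  have hf : (S.χ : G → ℂ) 1 = 2 * (p : ℂ) - 1 := by
    have : ((deg S.χ + 1 : ℕ) : ℂ) = ((2 * p : ℕ) : ℂ) := by rw [M.hf]
    push_cast at this
    rw [← deg_cast]; linear_combination this
  have hψ1 : (ψ : G → ℂ) 1 = p := by rw [← deg_cast, M.hψ]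
  rw [hf, hψ1] at r1
  have hd3 : d3 = -1 := by
    rcases mul_self_eq_one_iff.1 T.sq3 with e | e
    · exfalso
      rw [e] at r1
      push_cast at r1
      rw [← deg_cast] at r1
      have : ((p + deg c3 : ℕ) : ℂ) = ((0 : ℕ) : ℂ) := by push_cast; linear_combination r1
      have : p + deg c3 = 0 := by exact_mod_cast this
      omega
    · exact e
  subst hd3
  refine ⟨c3, T, ?_, ?_⟩
  · push_cast at r1; linear_combination -r1
  · have h := r2 1 one_pos one_lt_two
    rw [hf] at h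
    push_cast at h; linear_combination h

theorem Ctx.fix_J (C : Ctx α S ψ Q a b c σ τ) (x : α) :
    (σ ^ 2) • x = x ↔ x = a ∨ x = b ∨ x = c := by
  have hm := pow_mem C.frame.dih.σ_mem 2
  constructor
  · intro hx
    by_contra hne
    push Not at hne
    exact C.frame.dih.J_ne_one (C.frame.pre.free _ hm C.frame.Jb x hne.1 hne.2.1 hne.2.2 hx)
  · rintro (rfl | rfl | rfl)
    · exact C.frame.pre.fixa _ hm
    · exact C.frame.Jb
    · exact C.frame.pre.fixc _ hm C.frame.Jb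

/-- An element of odd order centralizing an involution fixes its fixed points. -/
theorem Ctx.fix_odd (C : Ctx α S ψ Q a b c σ τ) {w y : G} (hw : orderOf w = 2) (hc : Commute y w)
    (hy : ¬ 2 ∣ orderOf y) {x : α} (hx : w • x = x) : y • x = x := by
  haveI := Fintype.ofFinite (Cfsg.IrrCharacter G)
  suffices key : ∀ y : G, Commute y (σ ^ 2) → ¬ 2 ∣ orderOf y → ∀ x : α, (σ ^ 2) • x = x → y • x = x by
    obtain ⟨g, hg⟩ := isConj_iff.1 (C.hyp.isConj_involutions S C.hJ hw)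
    have hc' : Commute (g⁻¹ * y * g) (σ ^ 2) := by
      show g⁻¹ * y * g * σ ^ 2 = σ ^ 2 * (g⁻¹ * y * g)
      calc g⁻¹ * y * g * σ ^ 2 = g⁻¹ * (y * w) * g := by rw [← hg]; group
        _ = g⁻¹ * (w * y) * g := by rw [hc.eq]
        _ = σ ^ 2 * (g⁻¹ * y * g) := by rw [← hg]; group
    have h := key _ hc' (by
      have := BlockCharsA.RegularPart.orderOf_conj' y g⁻¹
      rw [inv_inv] at this
      rwa [this]) (g⁻¹ • x) (by
      rw [← mul_smul, show σ ^ 2 * g⁻¹ = g⁻¹ * w by rw [← hg]; group, mul_smul, hx])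
    rw [← mul_smul, show g⁻¹ * y * g * g⁻¹ = g⁻¹ * y by group, mul_smul] at h
    exact MulAction.injective g⁻¹ h
  intro y hc hy x hx
  obtain ⟨Md, c3, X, hMd, T, -, -⟩ := C.exists_table
  have hχB : S.χ ∈ Cfsg.principalBlock Md G := (T.mem _).2 (Or.inr (Or.inl rfl))
  have hψB : ψ ∈ Cfsg.principalBlock Md G := (T.mem _).2 (Or.inr (Or.inr (Or.inl rfl)))
  have hJm : σ ^ 2 ∈ zpowers σ := pow_mem (mem_zpowers σ) 2
  have h3 : fx α (σ ^ 2 * y) = fx α (σ ^ 2) := by
    have : (fx α (σ ^ 2 * y) : ℂ) = (fx α (σ ^ 2) : ℂ) := by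
      rw [C.mid.hπ, C.mid.hπ, C.frame.dih.value_section hMd hJm C.frame.dih.J_ne_one hχB hc.symm hy,
        C.frame.dih.value_section hMd hJm C.frame.dih.J_ne_one hψB hc.symm hy]
    exact_mod_cast this
  have hsub : MulAction.fixedBy α (σ ^ 2 * y) ⊆ MulAction.fixedBy α (σ ^ 2) := fun z hz => by
    rw [MulAction.mem_fixedBy] at hz ⊢
    obtain ⟨k, hk⟩ : Odd (orderOf y) := Nat.not_even_iff_odd.1 fun e => hy (even_iff_two_dvd.1 e)
    have hn : ∀ n : ℕ, ((σ ^ 2 * y) ^ n) • z = z := fun n => by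
      induction n with
      | zero => simp
      | succ n ih => rw [pow_succ, mul_smul, hz, ih]
    have := hn (orderOf y)
    rwa [hc.symm.mul_pow, pow_orderOf_eq_one, mul_one, hk, pow_succ, pow_mul, pow_two (σ ^ 2),
      sq_one_of_orderOf C.hJ, one_pow, one_mul] at this
  have heq := Set.eq_of_subset_of_ncard_le hsub (by
    rw [← Nat.card_coe_set_eq, ← Nat.card_coe_set_eq]; exact h3.ge) (Set.toFinite _)
  have : x ∈ MulAction.fixedBy α (σ ^ 2 * y) := by rw [heq]; exact hx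
  rw [MulAction.mem_fixedBy, ← hc.eq, mul_smul, hx] at this
  exact this

theorem Ctx.dist_J (C : Ctx α S ψ Q a b c σ τ) : Dist (σ ^ 2) a := fun g hg => by
  obtain ⟨π, hπ, hker⟩ := C.frame.dih.exists_retract
  set g' : centralizer ({σ ^ 2} : Set G) := ⟨g, mem_centralizer_singleton_iff.2 hg.eq⟩
  set q : G := ((π g' : (Q : Subgroup G)) : G) with hq
  have hqC : q ∈ centralizer ({σ ^ 2} : Set G) := C.frame.dih.sylow_le (π g').2
  set q' : centralizer ({σ ^ 2} : Set G) := ⟨q, hqC⟩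
  have hy : π (g' * q'⁻¹) = 1 := by
    rw [map_mul, map_inv, hπ q' (π g').2]
    exact mul_inv_cancel (π g')
  have h1 := (hker _).1 hy
  rw [← Subgroup.orderOf_coe] at h1
  have h2 := C.fix_odd C.hJ (y := ((g' * q'⁻¹ : centralizer ({σ ^ 2} : Set G)) : G))
    (mem_centralizer_singleton_iff.1 (g' * q'⁻¹).2) h1 ((C.fix_J a).2 (Or.inl rfl))
  rw [Subgroup.coe_mul, Subgroup.coe_inv, mul_smul] at h2
  have : q⁻¹ • a = a := inv_smul_eq_iff.2 (C.frame.pre.fixa q (π g').2).symm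
  rwa [this] at h2

theorem Ctx.dist_unique (C : Ctx α S ψ Q a b c σ τ) {w : G} (hw : orderOf w = 2) {x y : α}
    (hx : Dist w x) (hy : Dist w y) : x = y := by
  obtain ⟨g, hg⟩ := isConj_iff.1 (C.hyp.isConj_involutions S hw C.hJ)
  have key : ∀ z, Dist (σ ^ 2) z → z = a := fun z hz => by
    have h1 := hz σ ((Commute.refl σ).pow_right 2)
    have h2 : Subsingleton (MulAction.fixedBy α σ) :=
      (Nat.card_eq_one_iff_unique.1 C.frame.fx_σ).1
    exact congrArg Subtype.val (@Subsingleton.elim _ h2 ⟨z, h1⟩ ⟨a, C.frame.pre.fixa σ C.frame.dih.σ_mem⟩)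
  have h := (key _ (hg ▸ hx.conj g)).trans (key _ (hg ▸ hy.conj g)).symm
  exact MulAction.injective g h

theorem Ctx.dist_refl (C : Ctx α S ψ Q a b c σ τ) : ∃ d, (d = b ∨ d = c) ∧ Dist (σ * τ) d := by
  haveI := Fintype.ofFinite (Cfsg.IrrCharacter G)
  haveI := C.hyp.pretrans
  haveI := Fact.mk Nat.prime_two
  have F := C.frame
  obtain ⟨g, hg⟩ := MulAction.exists_smul_eq G b a
  set w := g * σ ^ 2 * g⁻¹ with hw
  have hga : g • a ≠ a := fun e => F.pre.hab (MulAction.injective g (e.trans hg.symm))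
  have hwo : orderOf w = 2 := by rw [hw, BlockCharsA.RegularPart.orderOf_conj', C.hJ]
  have hwa : w • a = a := by
    rw [hw, mul_smul, mul_smul, show g⁻¹ • a = b by rw [← hg, inv_smul_smul], F.Jb, hg]
  -- into the Sylow subgroup, fixing `a`
  set A := MulAction.stabilizer G a with hA
  have hle : (Q : Subgroup G) ≤ A := fun q hq => F.pre.fixa q hq
  set QA : Sylow 2 A := Q.subtype hle
  obtain ⟨R, hR⟩ := (IsPGroup.of_card (n := 1) (by
    rw [Nat.card_zpowers, ← Subgroup.orderOf_coe, pow_one]; exact hwo) :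
    IsPGroup 2 (zpowers (⟨w, hwa⟩ : A))).exists_le_sylow
  obtain ⟨e, he⟩ := MulAction.exists_smul_eq A R QA
  have hmem : e * ⟨w, hwa⟩ * e⁻¹ ∈ QA := by
    rw [← he, ← SetLike.mem_coe, Sylow.coe_smul]
    exact ⟨⟨w, hwa⟩, hR (mem_zpowers _), rfl⟩
  set w' := (e : G) * w * (e : G)⁻¹ with hw'
  have hw'Q : w' ∈ (Q : Subgroup G) := hmem
  have hd : Dist w' ((e : G) • g • a) := (C.dist_J.conj g).conj e
  set d := (e : G) • g • a
  have hda : d ≠ a := fun h => hga (MulAction.injective (e : G) (h.trans e.2.symm))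
  have hw'o : orderOf w' = 2 := by rw [hw', BlockCharsA.RegularPart.orderOf_conj', hwo]
  have hτd : ∀ x, Dist τ x → x = a := fun x hx => by
    have h1 : (σ ^ 2) • x = x := hx _ (F.dih.commute_J F.dih.τ_mem).symm
    have h2 : τ • x = x := hx _ (Commute.refl τ)
    rcases (C.fix_J x).1 h1 with rfl | rfl | rfl
    · rfl
    · exact absurd (F.τb.symm.trans h2).symm F.pre.hbc
    · exact absurd (F.τc.symm.trans h2) F.pre.hbc
  have hσ4 : σ ^ 4 = 1 := by rw [← C.order_σ, pow_orderOf_eq_one]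
  have hbc : ∀ x, Dist (σ * τ) x → x ≠ a → x = b ∨ x = c := fun x hx hxa => by
    have h1 : (σ ^ 2) • x = x := hx _ (F.dih.commute_J (mul_mem F.dih.σ_mem F.dih.τ_mem)).symm
    exact ((C.fix_J x).1 h1).resolve_left hxa
  obtain ⟨i, hi⟩ := F.dih.cases w' hw'Q
  rw [← F.dih.pow_mod i] at hi
  have hi4 : i % (2 * 2) < 4 := Nat.mod_lt _ (by norm_num)
  generalize i % (2 * 2) = k at hi hi4
  rcases hi with hi | hi
  · exfalso
    have h2 := F.dih.pow_half (DihSylow.mem_of_pow k hi) fun e1 => by rw [e1, orderOf_one] at hw'o; omega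
    rw [hw'o, Nat.div_self two_pos, pow_one] at h2
    exact hda (C.dist_unique C.hJ (h2.2 ▸ hd) C.dist_J)
  rcases (show k = 0 ∨ k = 1 ∨ k = 2 ∨ k = 3 by omega) with rfl | rfl | rfl | rfl
  · rw [pow_zero, one_mul] at hi
    exact absurd (hτd d (hi ▸ hd)) hda
  · rw [pow_one] at hi
    exact ⟨d, hbc d (hi ▸ hd) hda, hi ▸ hd⟩
  · exfalso
    have h := hd.conj σ
    have e1 : σ * w' * σ⁻¹ = τ := by
      have := F.dih.conj_refl 2 1
      rw [pow_one] at this
      rw [hi, this, show 2 + 2 * 1 = 4 from rfl, hσ4, one_mul]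
    rw [e1] at h
    exact hda (MulAction.injective σ ((hτd _ h).trans (F.pre.fixa σ F.dih.σ_mem).symm))
  · have h := hd.conj σ
    have e1 : σ * w' * σ⁻¹ = σ * τ := by
      have := F.dih.conj_refl 3 1
      rw [pow_one] at this
      rw [hi, this, show 3 + 2 * 1 = 4 + 1 from rfl, pow_add, hσ4, one_mul, pow_one]
    rw [e1] at h
    exact ⟨_, hbc _ h fun e2 => hda (MulAction.injective σ (e2.trans (F.pre.fixa σ F.dih.σ_mem).symm)), h⟩

theorem Ctx.card_four (C : Ctx α S ψ Q a b c σ τ) {K : Subgroup G} (hK : K ≤ (Q : Subgroup G))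
    (hσ : σ ∉ K) (hJ : σ ^ 2 ∈ K) {w : G} (hw : w ∈ K) (hw1 : w ≠ 1) (hwJ : w ≠ σ ^ 2) :
    Nat.card K = 4 := by
  have h8 : Nat.card (Q : Subgroup G) = 8 := C.frame.dih.card_sylow
  have hd : Nat.card K ∣ 2 ^ 3 := (show (2 : ℕ) ^ 3 = 8 by norm_num) ▸ h8 ▸ card_dvd_of_le hK
  have hne : Nat.card K ≠ 8 := fun e => hσ (by
    have : K = (Q : Subgroup G) := eq_of_le_of_card_ge hK (by rw [e, h8])
    rw [this]; exact C.frame.dih.σ_mem)
  have h3 : 3 ≤ Nat.card K := by
    haveI := Fintype.ofFinite K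
    rw [Nat.card_eq_fintype_card, ← Finset.card_univ]
    have : ({1, ⟨σ ^ 2, hJ⟩, ⟨w, hw⟩} : Finset K).card = 3 := Finset.card_eq_three.2
      ⟨1, ⟨σ ^ 2, hJ⟩, ⟨w, hw⟩, fun e => C.frame.dih.J_ne_one (congrArg Subtype.val e).symm,
        fun e => hw1 (congrArg Subtype.val e).symm, fun e => hwJ (congrArg Subtype.val e).symm, rfl⟩
    exact this ▸ Finset.card_le_univ _
  obtain ⟨k, hk, hk'⟩ := (Nat.dvd_prime_pow Nat.prime_two).1 hd
  rw [hk'] at h3 hne ⊢
  interval_cases k <;> simp_all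

theorem Ctx.refl_ne_J (C : Ctx α S ψ Q a b c σ τ) (i : ℕ) : σ ^ i * τ ≠ σ ^ 2 := fun e =>
  C.frame.dih.refl_ne i (e ▸ pow_mem (mem_zpowers σ) 2)

theorem Ctx.refl_ne_one (C : Ctx α S ψ Q a b c σ τ) (i : ℕ) : σ ^ i * τ ≠ 1 := fun e =>
  C.frame.dih.refl_ne i (e ▸ one_mem _)

/-- The involutions of the four-group fixing the triple. -/
theorem Ctx.four_cases (C : Ctx α S ψ Q a b c σ τ) {t : G}
    (ht : t ∈ (Q : Subgroup G) ⊓ MulAction.stabilizer G b) :
    t = 1 ∨ t = σ ^ 2 ∨ t = σ * τ ∨ t = σ ^ 3 * τ := by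
  have F := C.frame
  have hb : t • b = b := ht.2
  obtain ⟨i, hi⟩ := F.dih.cases t ht.1
  rw [← F.dih.pow_mod i] at hi
  have hi4 : i % (2 * 2) < 4 := Nat.mod_lt _ (by norm_num)
  generalize i % (2 * 2) = k at hi hi4
  have hσb : σ • b ≠ b := fun e => F.pre.hbc (e.symm.trans F.σb)
  have h3b : (σ ^ 3) • b ≠ b := fun e => hσb (by
    rw [pow_succ', mul_smul, F.Jb] at e; exact e)
  have hτb : τ • b ≠ b := fun e => F.pre.hbc (e.symm.trans F.τb)
  have h2τb : (σ ^ 2 * τ) • b ≠ b := fun e => F.pre.hbc (by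
    rw [mul_smul, F.τb, F.pre.fixc _ (pow_mem F.dih.σ_mem 2) F.Jb] at e; exact e.symm)
  rcases hi with rfl | rfl <;> rcases (show k = 0 ∨ k = 1 ∨ k = 2 ∨ k = 3 by omega) with rfl | rfl | rfl | rfl
  · exact Or.inl (pow_zero σ)
  · exact absurd (by rwa [pow_one] at hb) hσb
  · exact Or.inr (Or.inl rfl)
  · exact absurd hb h3b
  · exact absurd (by rwa [pow_zero, one_mul] at hb) hτb
  · exact Or.inr (Or.inr (Or.inl (by rw [pow_one])))
  · exact absurd hb h2τb
  · exact Or.inr (Or.inr (Or.inr rfl))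

theorem Ctx.card_T (C : Ctx α S ψ Q a b c σ τ) :
    Nat.card ↥((Q : Subgroup G) ⊓ MulAction.stabilizer G b) = 4 := by
  refine C.card_four inf_le_left (fun h => C.frame.pre.hbc (h.2.symm.trans C.frame.σb))
    ⟨pow_mem C.frame.dih.σ_mem 2, C.frame.Jb⟩ (w := σ ^ 1 * τ) ?_ (C.refl_ne_one 1) (C.refl_ne_J 1)
  rw [pow_one]
  exact ⟨mul_mem C.frame.dih.σ_mem C.frame.dih.τ_mem, C.frame.στb⟩

/-- The odd part of the stabilizer of the triple. -/
theorem Ctx.exists_R (C : Ctx α S ψ Q a b c σ τ) :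
    ∃ R : Subgroup G, Odd (Nat.card R) ∧ Nat.card (stab3 G a b c) = 4 * Nat.card R ∧
      ∀ r : G, r ∈ R ↔ r ∈ stab3 G a b c ∧ ¬ 2 ∣ orderOf r := by
  haveI := Fintype.ofFinite (Cfsg.IrrCharacter G)
  haveI := Fact.mk Nat.prime_two
  have F := C.frame
  set X := stab3 G a b c with hX
  set T := (Q : Subgroup G) ⊓ MulAction.stabilizer G b with hT
  have hTX : T ≤ X := fun t ht => mem_stab3.2 ⟨F.pre.fixa t ht.1, ht.2, F.pre.fixc t ht.1 ht.2⟩
  have hTc : Nat.card (T.subgroupOf X) = 4 := by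
    rw [Nat.card_congr (Subgroup.subgroupOfEquivOfLe hTX).toEquiv, C.card_T]
  obtain ⟨W, hW⟩ := (IsPGroup.of_card (n := 2) (by rw [hTc]; norm_num) :
    IsPGroup 2 (T.subgroupOf X)).exists_le_sylow
  have hWc : Nat.card (W : Subgroup X) = 4 := by
    obtain ⟨Q', hQ'⟩ := (W.2.map X.subtype).exists_le_sylow
    have hc8 : Nat.card (Q' : Subgroup G) = 8 := by
      rw [Q'.card_eq_multiplicity, ← Q.card_eq_multiplicity]; exact F.dih.card_sylow
    have hmc : Nat.card ((W : Subgroup X).map X.subtype) = Nat.card (W : Subgroup X) :=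
      Subgroup.card_map_of_injective X.subtype_injective
    have hd : Nat.card (W : Subgroup X) ∣ 8 := hmc ▸ hc8 ▸ card_dvd_of_le hQ'
    have hne : Nat.card (W : Subgroup X) ≠ 8 := fun e => by
      have heq : (W : Subgroup X).map X.subtype = (Q' : Subgroup G) :=
        eq_of_le_of_card_ge hQ' (by rw [hmc, e, hc8])
      obtain ⟨g, hg⟩ := MulAction.exists_smul_eq G Q Q'
      have hmem : g * σ * g⁻¹ ∈ (Q' : Subgroup G) := by
        rw [← hg, Sylow.coe_subgroup_smul]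
        exact ⟨σ, F.dih.σ_mem, rfl⟩
      rw [← heq] at hmem
      obtain ⟨x, -, hx⟩ := hmem
      obtain ⟨h1, h2, -⟩ := mem_stab3.1 (hx ▸ x.2 : g * σ * g⁻¹ ∈ X)
      have hfix : ∀ z, (g * σ * g⁻¹) • z = z → z = g • a := fun z hz => by
        rw [mul_smul, mul_smul, smul_eq_iff_eq_inv_smul] at hz
        have h3 : Subsingleton (MulAction.fixedBy α σ) :=
          (Nat.card_eq_one_iff_unique.1 F.fx_σ).1
        have := congrArg Subtype.val (@Subsingleton.elim _ h3 ⟨g⁻¹ • z, hz⟩ ⟨a, F.pre.fixa σ F.dih.σ_mem⟩)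
        rwa [inv_smul_eq_iff] at this
      exact F.pre.hab ((hfix a h1).trans (hfix b h2).symm)
    have h4 := hTc ▸ card_le_of_le hW
    obtain ⟨k, -, hk⟩ := (Nat.dvd_prime_pow Nat.prime_two).1 (show Nat.card (W : Subgroup X) ∣ 2 ^ 3 from (show (2 : ℕ) ^ 3 = 8 by norm_num).symm ▸ hd)
    have : k ≤ 3 := by
      have := Nat.le_of_dvd (by norm_num) hd
      rw [hk] at this
      exact (Nat.pow_le_pow_iff_right (le_refl 2)).1 (by norm_num; exact this)
    rw [hk] at h4 hne ⊢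
    interval_cases k <;> simp_all
  have hWT : T.subgroupOf X = (W : Subgroup X) := eq_of_le_of_card_ge hW (by rw [hTc, hWc])
  obtain ⟨d, hd, hdist⟩ := C.dist_refl
  have hdist3 : Dist (σ ^ 3 * τ) (σ • d) := by
    have := F.dih.conj_refl 1 1
    rw [pow_one, show 1 + 2 * 1 = 3 from rfl] at this
    exact this ▸ hdist.conj σ
  have hσd : σ • d ≠ d ∧ σ • d ≠ a ∧ d ≠ a := by
    rcases hd with rfl | rfl
    · rw [F.σb]; exact ⟨F.pre.hbc.symm, F.pre.hac.symm, F.pre.hab.symm⟩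
    · rw [F.σc]; exact ⟨F.pre.hbc, F.pre.hab.symm, F.pre.hac.symm⟩
  have hdfix : ∀ g ∈ X, g • a = a ∧ g • d = d ∧ g • (σ • d) = σ • d := fun g hg => by
    obtain ⟨h1, h2, h3⟩ := mem_stab3.1 hg
    rcases hd with rfl | rfl
    · rw [F.σb]; exact ⟨h1, h2, h3⟩
    · rw [F.σc]; exact ⟨h1, h3, h2⟩
  have hcent : normalizer ((W : Subgroup X) : Set X) ≤ centralizer ((W : Subgroup X) : Set X) := by
    intro g hg
    rw [Subgroup.mem_centralizer_iff]
    intro t htW
    have htT : (t : G) ∈ T := Subgroup.mem_subgroupOf.1 (hWT ▸ htW)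
    have ht'W := (Subgroup.mem_normalizer_iff.1 hg t).1 htW
    have ht'T : (g : G) * t * (g : G)⁻¹ ∈ T := Subgroup.mem_subgroupOf.1 (hWT ▸ ht'W)
    obtain ⟨ga, gd, gσd⟩ := hdfix g g.2
    by_cases ht1 : (t : G) = 1
    · rw [show t = 1 from Subtype.ext ht1, one_mul, mul_one]
    have hfix : (g : G) * t * (g : G)⁻¹ = t := by
      have ho : ∀ s ∈ T, s ≠ 1 → orderOf s = 2 := fun s hs hs1 => by
        refine orderOf_eq_prime ?_ hs1
        rcases C.four_cases hs with rfl | rfl | rfl | rfl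
        · simp
        · rw [pow_two (σ ^ 2)]; exact F.dih.J_sq
        · rw [pow_two]; simpa using F.dih.refl_sq 1
        · rw [pow_two]; exact F.dih.refl_sq 3
      have ht'1 : (g : G) * t * (g : G)⁻¹ ≠ 1 := fun e => ht1 (conj_eq_one_iff.1 e)
      have ht'o := ho _ ht'T ht'1
      rcases C.four_cases htT with h | h | h | h
      · exact absurd h ht1
      all_goals rcases C.four_cases ht'T with h' | h' | h' | h'
      all_goals first
        | exact absurd h' ht'1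
        | exact h'.trans h.symm
        | (exfalso
           have hJ' := C.dist_J.conj (g : G)
           have hs' := hdist.conj (g : G)
           have h3' := hdist3.conj (g : G)
           rw [ga] at hJ'; rw [gd] at hs'; rw [gσd] at h3'
           rw [h] at h' ht'o
           first
             | exact hσd.2.2 (C.dist_unique ht'o hs' (h'.symm ▸ C.dist_J))
             | exact hσd.2.1 (C.dist_unique ht'o h3' (h'.symm ▸ C.dist_J))
             | exact hσd.2.2 (C.dist_unique ht'o (h'.symm ▸ hdist) hJ')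
             | exact hσd.2.1 (C.dist_unique ht'o (h'.symm ▸ hdist3) hJ')
             | exact hσd.1 (C.dist_unique ht'o h3' (h'.symm ▸ hdist))
             | exact hσd.1 (C.dist_unique ht'o (h'.symm ▸ hdist3) hs'))
    refine Subtype.ext ?_
    show (t : G) * g = g * t
    calc (t : G) * g = (g : G) * t * (g : G)⁻¹ * g := by rw [hfix]
      _ = g * t := by group
  obtain ⟨N, hN, hNc⟩ := (Transfer.NormalPComplement.hasNormalPComplement_iff_sylow W).1
    (Transfer.NormalPComplement.hasNormalPComplement_of_normalizer_le_centralizer W hcent)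
  haveI := hN
  have hmem : ∀ x : X, x ∈ N ↔ ¬ 2 ∣ orderOf (x : G) := fun x => by
    rw [Transfer.NormalPComplement.mem_iff_coprime_of_isComplement' hNc, Subgroup.orderOf_coe, Nat.coprime_comm,
      Nat.prime_two.coprime_iff_not_dvd]
  have hNX : Nat.card (N.map X.subtype) = Nat.card N := Subgroup.card_map_of_injective X.subtype_injective
  refine ⟨N.map X.subtype, ?_, ?_, fun r => ?_⟩
  · rw [← Nat.not_even_iff_odd, even_iff_two_dvd, hNX]
    intro h
    obtain ⟨x, hx⟩ := exists_prime_orderOf_dvd_card' 2 h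
    exact (hmem x).1 x.2 (by rw [Subgroup.orderOf_coe, Subgroup.orderOf_coe, hx])
  · rw [hNX, mul_comm, ← hWc]; exact hNc.card_mul_card.symm
  · constructor
    · rintro ⟨x, hx, rfl⟩
      exact ⟨x.2, (hmem x).1 hx⟩
    · rintro ⟨hr, hodd⟩
      exact ⟨⟨r, hr⟩, (hmem ⟨r, hr⟩).2 hodd, rfl⟩

theorem Ctx.card_oddC (C : Ctx α S ψ Q a b c σ τ) {w : G} (hw : orderOf w = 2) :
    (oddC w w).card = (oddC (σ ^ 2) (σ ^ 2)).card := by
  obtain ⟨g, hg⟩ := isConj_iff.1 (C.hyp.isConj_involutions S hw C.hJ)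
  refine Finset.card_equiv (MulAut.conj g).toEquiv fun y => ?_
  simp only [mem_oddC, MulEquiv.toEquiv_eq_coe, EquivLike.coe_coe, MulAut.conj_apply,
    BlockCharsA.RegularPart.orderOf_conj', ← hg]
  have : Commute y w ↔ Commute (g * y * g⁻¹) (g * w * g⁻¹) :=
    ⟨fun h => h.map (MulAut.conj g).toMonoidHom, fun h => by
      have := h.map (MulAut.conj g⁻¹).toMonoidHom
      simpa [mul_assoc] using this⟩
  rw [this]

/-- The bound for the odd part of the triple stabilizer. -/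
theorem Ctx.exists_bound (C : Ctx α S ψ Q a b c σ τ) :
    ∃ R : Subgroup G, Nat.card (stab3 G a b c) = 4 * Nat.card R ∧
      (oddC (σ ^ 2) (σ ^ 2)).card ^ 3 ≤ Nat.card R * (oddC (σ ^ 2) (σ * τ)).card ^ 2 := by
  haveI := Fintype.ofFinite (Cfsg.IrrCharacter G)
  obtain ⟨R, hodd, hcard, hR⟩ := C.exists_R
  refine ⟨R, hcard, ?_⟩
  have F := C.frame
  have hstT : σ * τ ∈ (Q : Subgroup G) ⊓ MulAction.stabilizer G b :=
    ⟨mul_mem F.dih.σ_mem F.dih.τ_mem, F.στb⟩
  have hsto : orderOf (σ * τ) = 2 := by simpa using F.dih.orderOf_refl 1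
  have h3o : orderOf (σ ^ 3 * τ) = 2 := F.dih.orderOf_refl 3
  have hprod : σ ^ 2 * (σ * τ) = σ ^ 3 * τ := by rw [← mul_assoc, ← pow_succ]
  have hin : ∀ {t : G}, t ∈ (Q : Subgroup G) ⊓ MulAction.stabilizer G b → ∀ r ∈ R, t * r * t⁻¹ ∈ R := by
    intro t ht r hr
    obtain ⟨hrX, hro⟩ := (hR r).1 hr
    have htX : t ∈ stab3 G a b c := mem_stab3.2 ⟨F.pre.fixa t ht.1, ht.2, F.pre.fixc t ht.1 ht.2⟩
    exact (hR _).2 ⟨mul_mem (mul_mem htX hrX) (inv_mem htX), by
      rwa [BlockCharsA.RegularPart.orderOf_conj']⟩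
  have hfixed : ∀ w : G, orderOf w = 2 → w • a = a → w • b = b → w • c = c →
      fixedIn R w = oddC w w := fun w hw wa wb wc => by
    ext y
    simp only [fixedIn, mem_oddC, Finset.mem_filter, Finset.mem_univ, true_and, hR]
    exact ⟨fun h => ⟨h.2.symm, h.2.symm, h.1.2⟩, fun h => ⟨⟨mem_stab3.2 ⟨C.fix_odd hw h.1 h.2.2 wa,
      C.fix_odd hw h.1 h.2.2 wb, C.fix_odd hw h.1 h.2.2 wc⟩, h.2.2⟩, h.1.eq.symm⟩⟩
  have hJfix := hfixed (σ ^ 2) C.hJ (F.pre.fixa _ (pow_mem F.dih.σ_mem 2)) F.Jb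
    (F.pre.fixc _ (pow_mem F.dih.σ_mem 2) F.Jb)
  have hsfix := hfixed (σ * τ) hsto (F.pre.fixa _ hstT.1) F.στb (F.pre.fixc _ hstT.1 F.στb)
  have h3T : σ ^ 3 * τ ∈ (Q : Subgroup G) ⊓ MulAction.stabilizer G b :=
    hprod ▸ mul_mem ⟨pow_mem F.dih.σ_mem 2, F.Jb⟩ hstT
  have h3fix := hfixed (σ ^ 3 * τ) h3o (F.pre.fixa _ h3T.1) h3T.2 (F.pre.fixc _ h3T.1 h3T.2)
  have hcomm : σ ^ 2 * (σ * τ) = σ * τ * σ ^ 2 := (F.dih.commute_J hstT.1).symm.eq
  have h := four_action_bound hodd (sq_one_of_orderOf hsto) hcomm (hin hstT)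
  rw [hprod, hJfix, hsfix, h3fix, C.card_oddC hsto, C.card_oddC h3o] at h
  have e1 : oddC (σ ^ 2) (σ ^ 2) ∩ oddC (σ * τ) (σ * τ) = oddC (σ ^ 2) (σ * τ) := by
    ext y; simp only [Finset.mem_inter, mem_oddC]; tauto
  have e2 : oddC (σ ^ 3 * τ) (σ ^ 3 * τ) ∩ oddC (σ * τ) (σ * τ) = oddC (σ ^ 2) (σ * τ) := by
    ext y
    simp only [Finset.mem_inter, mem_oddC, ← hprod]
    constructor
    · rintro ⟨⟨h1, -, ho⟩, h2, -, -⟩
      refine ⟨?_, h2, ho⟩
      have := h1.mul_right h2.inv_right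
      rwa [mul_inv_cancel_right] at this
    · rintro ⟨h1, h2, ho⟩
      exact ⟨⟨h1.mul_right h2, h1.mul_right h2, ho⟩, h2, h2, ho⟩
  rw [e1, e2] at h
  calc (oddC (σ ^ 2) (σ ^ 2)).card ^ 3 = _ := by ring
    _ ≤ _ := h
    _ = _ := by ring

theorem Ctx.card_centralizer_J (C : Ctx α S ψ Q a b c σ τ) :
    Nat.card (centralizer ({σ ^ 2} : Set G)) = 8 * (oddC (σ ^ 2) (σ ^ 2)).card := by
  obtain ⟨π, hπ, hker⟩ := C.frame.dih.exists_retract
  have hr : π.range = ⊤ := (Subgroup.eq_top_iff' _).2 fun y =>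
    ⟨⟨(y : G), C.frame.dih.sylow_le y.2⟩, hπ _ y.2⟩
  rw [← π.ker.card_mul_index, Subgroup.index_ker, hr, Subgroup.card_top, C.frame.dih.card_sylow, mul_comm]
  congr 1
  rw [oddC, ← Fintype.card_subtype, ← Nat.card_eq_fintype_card]
  exact Nat.card_congr
    { toFun := fun s => ⟨((s : centralizer ({σ ^ 2} : Set G)) : G), mem_centralizer_singleton_iff.1 s.1.2,
        mem_centralizer_singleton_iff.1 s.1.2, by rw [Subgroup.orderOf_coe]; exact (hker _).1 s.2⟩
      invFun := fun y => ⟨⟨y.1, mem_centralizer_singleton_iff.2 y.2.1.eq⟩, (hker _).2 (by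
        rw [Subgroup.orderOf_mk]; exact y.2.2.2)⟩
      left_inv := fun _ => rfl
      right_inv := fun _ => rfl }

theorem Ctx.card_centralizer_pair (C : Ctx α S ψ Q a b c σ τ) (i : ℕ) :
    Nat.card (centralizer ({σ ^ 2, σ ^ i * τ} : Set G)) = 4 * (oddC (σ ^ 2) (σ ^ i * τ)).card := by
  obtain ⟨π, hπ, hker⟩ := C.frame.dih.exists_retract
  set w := σ ^ i * τ with hw
  set K := centralizer ({σ ^ 2, w} : Set G) with hK
  have hKmem : ∀ y, y ∈ K ↔ Commute y (σ ^ 2) ∧ Commute y w := fun y => by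
    simp only [hK, Subgroup.mem_centralizer_iff, Set.mem_insert_iff, Set.mem_singleton_iff, forall_eq_or_imp,
      forall_eq]
    exact ⟨fun h => ⟨h.1.symm, h.2.symm⟩, fun h => ⟨h.1.eq.symm, h.2.eq.symm⟩⟩
  have hle : K ≤ centralizer ({σ ^ 2} : Set G) := fun y hy =>
    mem_centralizer_singleton_iff.2 ((hKmem y).1 hy).1.eq
  set ρ := π.comp (Subgroup.inclusion hle) with hρ
  have hwQ : w ∈ (Q : Subgroup G) := mul_mem (pow_mem C.frame.dih.σ_mem i) C.frame.dih.τ_mem
  have hJQ : σ ^ 2 ∈ (Q : Subgroup G) := pow_mem C.frame.dih.σ_mem 2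
  have hcJ : Commute w (σ ^ 2) := C.frame.dih.commute_J hwQ
  have hrc : Nat.card ρ.range = 4 := by
    rw [Nat.card_congr (Subgroup.equivMapOfInjective ρ.range (Q : Subgroup G).subtype
      (Q : Subgroup G).subtype_injective).toEquiv]
    refine C.card_four ?_ ?_ ?_ (w := w) ?_ (C.refl_ne_one i) (C.refl_ne_J i)
    · rintro _ ⟨y, -, rfl⟩; exact y.2
    · rintro ⟨_, ⟨y, rfl⟩, hy⟩
      have e1 : π (Subgroup.inclusion hle y) * π ⟨w, C.frame.dih.sylow_le hwQ⟩ =
          π ⟨w, C.frame.dih.sylow_le hwQ⟩ * π (Subgroup.inclusion hle y) := by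
        rw [← map_mul, ← map_mul]
        exact congrArg π (Subtype.ext ((hKmem y).1 y.2).2.eq)
      rw [hπ ⟨w, C.frame.dih.sylow_le hwQ⟩ hwQ] at e1
      have e2 := congrArg Subtype.val e1
      simp only [Subgroup.coe_mul] at e2
      have hy' : ((π (Subgroup.inclusion hle y) : (Q : Subgroup G)) : G) = σ := hy
      rw [hy', hw] at e2
      have h : σ * σ = 1 := by
        have e3 : σ * τ = τ * σ := mul_left_cancel (a := σ ^ i) (by
          rw [← mul_assoc, ← pow_succ, pow_succ', mul_assoc, e2, mul_assoc])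
        have e4 := C.frame.dih.rel
        rw [← e3, mul_inv_cancel_right] at e4
        nth_rewrite 2 [e4]
        exact mul_inv_cancel σ
      have := orderOf_dvd_of_pow_eq_one (show σ ^ 2 = 1 by rw [pow_two]; exact h)
      rw [C.order_σ] at this
      norm_num at this
    · exact ⟨⟨σ ^ 2, hJQ⟩, ⟨⟨σ ^ 2, (hKmem _).2 ⟨Commute.refl _, hcJ.symm⟩⟩, hπ _ hJQ⟩, rfl⟩
    · exact ⟨⟨w, hwQ⟩, ⟨⟨w, (hKmem _).2 ⟨hcJ, Commute.refl _⟩⟩, hπ _ hwQ⟩, rfl⟩
  rw [← ρ.ker.card_mul_index, Subgroup.index_ker, hrc, mul_comm]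
  congr 1
  rw [oddC, ← Fintype.card_subtype, ← Nat.card_eq_fintype_card]
  exact Nat.card_congr
    { toFun := fun s => ⟨((s : K) : G), ((hKmem _).1 s.1.2).1, ((hKmem _).1 s.1.2).2, by
        have h1 : ¬ 2 ∣ orderOf (Subgroup.inclusion hle (s : K)) := (hker _).1 s.2
        rwa [← Subgroup.orderOf_coe] at h1⟩
      invFun := fun y => ⟨⟨y.1, (hKmem _).2 ⟨y.2.1, y.2.2.1⟩⟩, (hker _).2 (by
        rw [← Subgroup.orderOf_coe]; exact y.2.2.2)⟩
      left_inv := fun _ => rfl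
      right_inv := fun _ => rfl }

end Cfsg.Agent.DegreeThreeP
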