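import Cfsg.Agent.Lib.DegreeThreeP.CaseSmall

/-!
# Degree `3 p`, rank three: the involutions do not fix a single point
-/

set_option autoImplicit false
set_option linter.style.haveILetI false
set_option linter.unusedSectionVars false

namespace Cfsg.Agent.DegreeThreeP

open Cfsg.Agent.Characters Cfsg.Agent.Blocks Subgroup Cfsg.Agent.PrimeBlock
open scoped ComplexConjugate
open scoped _root_.Classical

universe u v

variable {G : Type u} [Group G] {α : Type v} [MulAction G α] {p : ℕ}
  [Fact p.Prime] {P : Sylow p G}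

/-- Degrees `2 p - 1` and `p`. -/
structure Mid [Finite G] (α : Type v) [MulAction G α] (S : Blk P) (ψ : Cfsg.IrrCharacter G) :
    Prop where
  hs : S.D.sgn S.χ = -1
  hε : S.D.ε = -1
  hf : deg S.χ + 1 = 2 * p
  hψ : deg ψ = p
  hψB : ψ ∉ Cfsg.principalBlock S.D.M G
  hπ : ∀ g : G, (fx α g : ℂ) = 1 + (S.χ : G → ℂ) g + (ψ : G → ℂ) g

variable [Fintype G]

/-- The involutions. -/
noncomputable def invs (G : Type u) [Group G] [Fintype G] : Finset G :=
  Finset.univ.filter fun g => orderOf g = 2

theorem mem_invs {g : G} : g ∈ invs G ↔ orderOf g = 2 := by simp [invs]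

theorem Hyp.sum_conj_eq [Finite α] (H : Hyp α P) (S : Blk P) {z : G} (hz : orderOf z = 2) (F : G → ℂ) :
    ∑ w : G, F (w * z * w⁻¹) = (Nat.card (centralizer ({z} : Set G)) : ℂ) * ∑ k ∈ invs G, F k := by
  rw [← Finset.sum_fiberwise_of_maps_to (t := invs G) (g := fun w => w * z * w⁻¹) (fun w _ => by
    rw [mem_invs, BlockCharsA.RegularPart.orderOf_conj', hz]), Finset.mul_sum]
  refine Finset.sum_congr rfl fun k hk => ?_
  rw [Finset.sum_congr rfl (g := fun _ => F k) fun w hw => by rw [(Finset.mem_filter.1 hw).2],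
    Finset.sum_const, nsmul_eq_mul, ← card_conjugators (H.isConj_involutions S hz (mem_invs.1 hk)),
    Nat.card_eq_fintype_card, Fintype.card_subtype]

/-- The involutions taking one point to another. -/
noncomputable def movers (G : Type u) [Group G] [Fintype G] {α : Type v} [MulAction G α] (x y : α) :
    Finset G := (invs G).filter fun k => k • x = y

variable [Fintype α]

theorem sum_movers (x : α) : ∑ y : α, (movers G x y).card = (invs G).card :=
  (Finset.card_eq_sum_card_fiberwise (f := fun k : G => k • x) (t := Finset.univ)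
    fun _ _ => Finset.mem_univ _).symm

/-- With one fixed point each, two involutions are conjugate by an involution. -/
theorem exists_mover (h1 : ∀ k : G, orderOf k = 2 → fx α k = 1) {x y : α} (hxy : x ≠ y) {i j : G}
    (hi : orderOf i = 2) (hix : i • x = x) (hj : orderOf j = 2) (hjy : j • y = y) :
    ∃ k ∈ movers G x y, k * i * k⁻¹ = j := by
  have huniq : ∀ k : G, orderOf k = 2 → ∀ x y : α, k • x = x → k • y = y → x = y := fun k hk x y hx hy => by
    have h := h1 k hk
    rw [fx, Nat.card_eq_one_iff_unique] at h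
    exact congrArg Subtype.val (@Subsingleton.elim _ h.1 ⟨x, hx⟩ ⟨y, hy⟩)
  have hii : i * i = 1 := sq_one_of_orderOf hi
  have hjj : j * j = 1 := sq_one_of_orderOf hj
  have hiv : i⁻¹ = i := inv_eq_of_mul_eq_one_right hii
  have hjv : j⁻¹ = j := inv_eq_of_mul_eq_one_right hjj
  set r := j * i with hr
  have hinv : ∀ t : ℕ, i * r ^ t * i = (r ^ t)⁻¹ := fun t => by
    have h : i * r * i⁻¹ = r⁻¹ := by
      rw [hr, mul_inv_rev, hiv, hjv, mul_assoc, mul_assoc, hii, mul_one]
    nth_rewrite 2 [← hiv]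
    rw [← conj_pow, h, inv_pow]
  have hrj : ∀ t : ℕ, j * r ^ t * j = (r ^ t)⁻¹ := fun t => by
    have h : j * r * j⁻¹ = r⁻¹ := by
      rw [hr, mul_inv_rev, hiv, hjv, ← mul_assoc, hjj, one_mul]
    nth_rewrite 2 [← hjv]
    rw [← conj_pow, h, inv_pow]
  rcases Nat.even_or_odd (orderOf r) with ⟨m, hm⟩ | ⟨m, hm⟩
  · exfalso
    have hpos := orderOf_pos r
    set w := r ^ m with hw
    have hw2 : orderOf w = 2 := by
      rw [hw, orderOf_pow_of_dvd (by omega) ⟨2, by omega⟩, hm, ← two_mul,
        Nat.mul_div_cancel _ (by omega : 0 < m)]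
    have hwv : w⁻¹ = w := inv_eq_of_mul_eq_one_right (sq_one_of_orderOf hw2)
    have hfix : ∀ (k : G) (d : α), orderOf k = 2 → k • d = d → k * w * k = w⁻¹ → w • d = d := by
      intro k d hk hd hkw
      refine huniq k hk _ _ ?_ hd
      rw [hwv] at hkw
      nth_rewrite 2 [← hd]
      rw [← mul_smul, ← mul_smul]
      congr 1
      calc k * w = k * w * (k * k) := by rw [sq_one_of_orderOf hk, mul_one]
        _ = k * w * k * k := by group
        _ = w * k := by rw [hkw]
    exact hxy (huniq w hw2 x y (hfix i x hi hix (hinv m)) (hfix j y hj hjy (hrj m)))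
  · set k := r ^ (m + 1) * i with hk
    have hkk : k * k = 1 := by
      rw [hk, show r ^ (m + 1) * i * (r ^ (m + 1) * i) = r ^ (m + 1) * (i * r ^ (m + 1) * i) by group,
        hinv, mul_inv_cancel]
    have hkj : k * i * k⁻¹ = j := by
      rw [inv_eq_of_mul_eq_one_right hkk, hk, mul_assoc (r ^ (m + 1)) i i, hii, mul_one, ← mul_assoc,
        ← pow_add, show m + 1 + (m + 1) = orderOf r + 1 by omega, pow_succ, pow_orderOf_eq_one, one_mul,
        hr, mul_assoc, hii, mul_one]
    have hk1 : k ≠ 1 := fun e => hxy (by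
      rw [e, one_mul, inv_one, mul_one] at hkj
      exact huniq i hi x y hix (hkj ▸ hjy))
    have hkx : k • x = y := by
      refine huniq j hj _ _ ?_ hjy
      rw [← hkj, mul_smul, mul_smul, inv_smul_smul, hix]
    exact ⟨k, Finset.mem_filter.2 ⟨mem_invs.2 (orderOf_eq_prime (by rw [pow_two]; exact hkk) hk1), hkx⟩, hkj⟩

variable {S : Blk P} {ψ : Cfsg.IrrCharacter G}

/-- The involutions of a class with one fixed point are equidistributed over the ordered pairs. -/
theorem Hyp.card_movers (H : Hyp α P) (h1 : ∀ k : G, orderOf k = 2 → fx α k = 1) :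
    ∃ n, (invs G).card = 3 * p * n ∧ ∀ x y : α, (movers G x y).card = n := by
  haveI := H.pretrans
  obtain ⟨a⟩ := H.nonempty
  set n := (movers G a a).card with hn
  have hdiag : ∀ x : α, (movers G x x).card = n := fun x => by
    obtain ⟨g, rfl⟩ := MulAction.exists_smul_eq G a x
    refine (Finset.card_equiv (MulAut.conj g).toEquiv fun k => ?_).symm
    simp [movers, mem_invs, BlockCharsA.RegularPart.orderOf_conj', mul_smul]
  have hcard : Fintype.card α = 3 * p := by rw [← Nat.card_eq_fintype_card, H.hα]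
  have hK : (invs G).card = 3 * p * n := by
    have e1 : ∑ x : α, (movers G x x).card = ∑ k ∈ invs G, fx α k := by
      simp only [movers, Finset.card_filter]
      rw [Finset.sum_comm]
      refine Finset.sum_congr rfl fun k _ => ?_
      rw [fx, Nat.card_eq_fintype_card, Fintype.card_subtype, Finset.card_filter]
      simp [MulAction.mem_fixedBy]
    rw [Finset.sum_congr rfl fun x _ => hdiag x, Finset.sum_const, Finset.card_univ, hcard, smul_eq_mul,
      Finset.sum_congr rfl fun k hk => h1 k (mem_invs.1 hk), Finset.sum_const, smul_eq_mul, mul_one] at e1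
    exact e1.symm
  have hn0 : 0 < n := by
    obtain ⟨z, hz⟩ := H.exists_involution
    have := Finset.card_pos.2 ⟨z, mem_invs.2 hz⟩
    rw [hK] at this
    exact Nat.pos_of_ne_zero fun e => by simp [e] at this
  have hle : ∀ x y : α, n ≤ (movers G x y).card := by
    intro x y
    by_cases hxy : x = y
    · subst hxy; exact (hdiag x).ge
    obtain ⟨i, hi⟩ := Finset.card_pos.1 (show 0 < (movers G x x).card by rw [hdiag]; exact hn0)
    obtain ⟨hi2, hix⟩ := Finset.mem_filter.1 hi
    rw [← hdiag y]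
    choose f hf hfe using fun (j : G) (hj : j ∈ movers G y y) =>
      exists_mover h1 hxy (mem_invs.1 hi2) hix (mem_invs.1 (Finset.mem_filter.1 hj).1)
        (Finset.mem_filter.1 hj).2
    exact Finset.card_le_card_of_injOn (fun j => if hj : j ∈ movers G y y then f j hj else 1)
      (fun j hj => by simp only [Finset.mem_coe] at hj ⊢; rw [dif_pos hj]; exact hf j hj)
      fun j hj j' hj' e => by
        simp only [Finset.mem_coe] at hj hj'
        simp only [dif_pos hj, dif_pos hj'] at e
        rw [← hfe j hj, e, hfe j' hj']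
  refine ⟨n, hK, fun x y => ?_⟩
  have hsum : ∑ _y : α, n = ∑ y : α, (movers G x y).card := by
    rw [sum_movers, hK, Finset.sum_const, Finset.card_univ, hcard, smul_eq_mul]
  exact ((Finset.sum_eq_sum_iff_of_le fun y _ => hle x y).1 hsum y (Finset.mem_univ y)).symm

theorem Mid.not_one (M : Mid α S ψ) (H : Hyp α P) (h1 : ∀ k : G, orderOf k = 2 → fx α k = 1) :
    False := by
  haveI := Fintype.ofFinite (Cfsg.IrrCharacter G)
  have hp5 := H.p5
  have hp0 : p.Prime := Fact.out
  obtain ⟨n, hK, hN⟩ := H.card_movers h1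
  obtain ⟨z, hz⟩ := H.exists_involution
  obtain ⟨x, hx1, hx⟩ := S.D.exists_ne_one
  obtain ⟨u, hu⟩ := ZStar.KleinFour.exists_int_value (irr_isCharacter S.χ) (sq_one_of_orderOf hz)
  have hsum : ∑ k ∈ invs G, fx α (x * k) = (invs G).card := by
    have e : ∀ k : G, fx α (x * k) = ∑ y : α, if k • y = x⁻¹ • y then 1 else 0 := fun k => by
      rw [fx, Nat.card_eq_fintype_card, Fintype.card_subtype, Finset.card_filter]
      refine Finset.sum_congr rfl fun y _ => ?_
      simp [MulAction.mem_fixedBy, mul_smul, eq_inv_smul_iff]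
    rw [Finset.sum_congr rfl fun k _ => e k, Finset.sum_comm, Finset.sum_congr rfl (g := fun _ => n)
      fun y _ => by rw [← Finset.card_filter]; exact hN y (x⁻¹ • y), Finset.sum_const, Finset.card_univ,
      ← Nat.card_eq_fintype_card, H.hα, hK, smul_eq_mul]
  set c := Nat.card (centralizer ({z} : Set G)) with hc
  have hχ : ∀ ξ : Cfsg.IrrCharacter G, (c : ℂ) * ∑ k ∈ invs G, (ξ : G → ℂ) (x * k) =
      (Nat.card G : ℂ) * (ξ : G → ℂ) x * (ξ : G → ℂ) z / (ξ : G → ℂ) 1 := fun ξ => by
    rw [hc, ← H.sum_conj_eq S hz, sum_mul_conjugates ξ.2]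
  have h0 : ∑ k ∈ invs G, (fx α (x * k) : ℂ) = ((invs G).card : ℂ) := by
    rw [← Nat.cast_sum, hsum]
  rw [Finset.sum_congr rfl fun k _ => M.hπ (x * k), Finset.sum_add_distrib, Finset.sum_add_distrib,
    Finset.sum_const, nsmul_eq_mul, mul_one] at h0
  have h2 := congrArg (fun t : ℂ => (c : ℂ) * t) h0
  simp only [mul_add, hχ, S.D.val_X' S.χ_mem hx hx1, M.hs,
    S.D.eq_zero_of_notMem H.card_centralizer M.hψB hx hx1, hu, mul_zero, zero_mul, zero_div,
    add_zero] at h2
  have hf0 : (S.χ : G → ℂ) 1 ≠ 0 := irr_one_ne_zero S.χ.2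
  have hu0 : u = 0 := by
    have h3 : (Nat.card G : ℂ) * ((-1 : ℤ) : ℂ) * (u : ℂ) / (S.χ : G → ℂ) 1 = 0 := by
      linear_combination h2
    simp only [div_eq_zero_iff, hf0, or_false, mul_eq_zero, natCard_ne_zero, false_or,
      Int.cast_eq_zero] at h3
    exact h3.resolve_left (by norm_num)
  subst hu0
  have hF := H.formula S hz hu
  rw [M.hs, sub_zero] at hF
  have hf := M.hf
  have hnat : Nat.card G * (2 * p - 1) ^ 2 = c ^ 2 * (p * ((2 * p - 1) * (2 * (p - 1)))) := by
    have : ((Nat.card G * (2 * p - 1) ^ 2 : ℕ) : ℤ) =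
        ((c ^ 2 * (p * ((2 * p - 1) * (2 * (p - 1)))) : ℕ) : ℤ) := by
      have e1 : ((2 * p - 1 : ℕ) : ℤ) = (deg S.χ : ℤ) := by omega
      have e2 : ((2 * (p - 1) : ℕ) : ℤ) = (deg S.χ : ℤ) + -1 := by omega
      simp only [Nat.cast_mul, Nat.cast_pow] at e2 ⊢
      rw [e1, e2, hF, hc]
      ring
    exact_mod_cast this
  have hgc := H.factorization_centralizer S hz
  rw [← hc] at hgc
  have hv := two_part Nat.card_pos.ne' Nat.card_pos.ne' (pow_ne_zero 2 (by omega))
    (mul_ne_zero hp0.ne_zero (mul_ne_zero (by omega) (by omega))) hgc hnat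
  rw [Nat.factorization_pow, Finsupp.smul_apply,
    Nat.factorization_eq_zero_of_not_dvd (show ¬ 2 ∣ 2 * p - 1 by omega), smul_zero] at hv
  have := Nat.prime_two.factorization_pos_of_dvd Nat.card_pos.ne' H.two_dvd
  omega

end Cfsg.Agent.DegreeThreeP
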