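import Cfsg.Agent.Lib.DegreeThreeP.MiddleOne
import Cfsg.Agent.Lib.DegreeThreeP.CaseLarge
import Cfsg.Agent.Lib.PrimeBlock.DoubleDegree.Algebra
import Cfsg.Agent.BlockCharsA.DefectZeroVanish

/-!
# Degree `3 p`, rank three: the orbitals and the Sylow `2`-subgroup
-/

set_option autoImplicit false
set_option linter.style.haveILetI false
set_option linter.unusedSectionVars false

namespace Cfsg.Agent.DegreeThreeP

open Cfsg.Agent.Characters Cfsg.Agent.Blocks Subgroup Cfsg.Agent.PrimeBlock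
open Cfsg.Agent.PrimeBlock.DoubleDegree Cfsg.Agent.Perm.PermModule Cfsg.Agent.Perm.CentraliserRing
open scoped ComplexConjugate
open scoped _root_.Classical

universe u v

variable {G : Type u} [Group G] [Fintype G] {α : Type v} [MulAction G α] [Fintype α] {p : ℕ}
  [Fact p.Prime] {P : Sylow p G} {S : Blk P} {ψ : Cfsg.IrrCharacter G}

theorem Mid.θ_regular (M : Mid α S ψ) {θ : Cfsg.IrrCharacter G} (hθ : θ ∈ S.D.Y) {g : G}
    (hg : ¬ p ∣ orderOf g) : (θ : G → ℂ) g = (S.χ : G → ℂ) g - 1 := by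
  rw [S.Y_regular hθ hg, M.hε, M.hs]; push_cast; ring

theorem Mid.deg_θ (M : Mid α S ψ) {θ : Cfsg.IrrCharacter G} (hθ : θ ∈ S.D.Y) :
    deg θ = 2 * (p - 1) := by
  have h1 := M.θ_regular hθ (g := 1) (by rw [orderOf_one]; exact (Fact.out : p.Prime).not_dvd_one)
  rw [← deg_cast, ← deg_cast] at h1
  have : ((deg θ + 1 : ℕ) : ℂ) = ((deg S.χ : ℕ) : ℂ) := by push_cast; linear_combination h1
  have h2 : deg θ + 1 = deg S.χ := by exact_mod_cast this
  have := M.hf
  omega

/-- The two-part of the order and the values at two-singular elements. -/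
theorem Mid.two_sylow (M : Mid α S ψ) (H : Hyp α P) (h3 : ∀ z : G, orderOf z = 2 → fx α z = 3) :
    (Nat.card G).factorization 2 = (p - 1).factorization 2 + 1 ∧
      ∀ g : G, 2 ∣ orderOf g → ¬ p ∣ orderOf g → (S.χ : G → ℂ) g = 1 := by
  have hp5 := H.p5
  obtain ⟨θ, hθ⟩ := S.D.Y_nonempty
  have hd : deg θ ∣ Nat.card G := char_degree_dvd_card θ
  have hle := (H.exists_pre S h3 (rfl : (p - 1).factorization 2 = _)).1
  have hge := (Nat.factorization_le_iff_dvd (show deg θ ≠ 0 from (charDegree_pos θ).ne') Nat.card_pos.ne').2 hd 2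
  have hv : (deg θ).factorization 2 = (p - 1).factorization 2 + 1 := by
    rw [M.deg_θ hθ, Nat.factorization_mul two_ne_zero (by omega), Finsupp.add_apply,
      Nat.prime_two.factorization_self, add_comm]
  have heq : (Nat.card G).factorization 2 = (p - 1).factorization 2 + 1 := by omega
  refine ⟨heq, fun g hg hgp => ?_⟩
  have h0 := BlockCharsA.DefectZeroVanish.eq_zero_of_singular Nat.prime_two θ (by
    show 2 ^ _ ∣ deg θ
    rw [heq, ← hv]
    exact Nat.ordProj_dvd _ _) hg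
  rw [M.θ_regular hθ hgp] at h0
  linear_combination h0

/-- The order formula. -/
theorem Mid.formula (M : Mid α S ψ) (H : Hyp α P) (h3 : ∀ z : G, orderOf z = 2 → fx α z = 3) {z : G}
    (hz : orderOf z = 2) :
    Nat.card G * (2 * (p - 1)) =
      p * Nat.card (centralizer ({z} : Set G)) ^ 2 * (2 * p - 1) := by
  have hu : (S.χ : G → ℂ) z = ((1 : ℤ) : ℂ) := by
    rw [(M.two_sylow H h3).2 z (dvd_of_eq hz.symm) (H.not_dvd_two hz), Int.cast_one]
  have hF := H.formula S hz hu
  rw [M.hs] at hF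
  have hf := M.hf
  have hp5 := H.p5
  refine Nat.eq_of_mul_eq_mul_right (show 0 < 2 * (p - 1) by omega) ?_
  have : ((Nat.card G * (2 * (p - 1)) * (2 * (p - 1)) : ℕ) : ℤ) =
      ((p * Nat.card (centralizer ({z} : Set G)) ^ 2 * (2 * p - 1) * (2 * (p - 1)) : ℕ) : ℤ) := by
    have e1 : ((2 * (p - 1) : ℕ) : ℤ) = (deg S.χ : ℤ) - 1 := by omega
    have e2 : ((2 * p - 1 : ℕ) : ℤ) = (deg S.χ : ℤ) := by omega
    simp only [Nat.cast_mul, Nat.cast_pow] at e1 ⊢
    rw [e1, e2, mul_assoc, ← pow_two, hF]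
    ring
  exact_mod_cast this

theorem Mid.inner (M : Mid α S ψ) (ξ : Cfsg.IrrCharacter G) :
    Cfsg.classInner (permChar G α) (ξ : G → ℂ) =
      (if trivIrr G = ξ then 1 else 0) + (if S.χ = ξ then 1 else 0) + (if ψ = ξ then 1 else 0) := by
  rw [← classInner_irr, ← classInner_irr, ← classInner_irr, ← classInner_add_left, ← classInner_add_left]
  congr 1
  funext g
  rw [permChar_eq_fx, M.hπ g]
  simp

theorem Mid.ne_χψ (M : Mid α S ψ) : S.χ ≠ ψ := fun e => by
  have h1 := M.hψ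
  have h2 := M.hf
  rw [← e] at h1
  have := (Fact.out : p.Prime).two_le
  omega

theorem Mid.ne_ψ (M : Mid α S ψ) : trivIrr G ≠ ψ := fun e => by
  have h1 := M.hψ
  rw [← e, deg_trivIrr] at h1
  exact (Fact.out : p.Prime).ne_one h1.symm

theorem Mid.multFree (M : Mid α S ψ) : IsMultFree G α := fun φ hφ => by
  have h : Cfsg.classInner (permChar G α) φ = _ := M.inner ⟨φ, hφ⟩
  rw [h]
  split_ifs with h1 h2 h3 h4 h5 h6
  all_goals first | simp | skip
  · exact absurd (h1.trans h2.symm) S.χ_ne.symm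
  · exact absurd (h1.trans h2.symm) S.χ_ne.symm
  · exact absurd (h1.trans h4.symm) M.ne_ψ
  · exact absurd (h5.trans h6.symm) M.ne_χψ

/-- The value on the trivial constituent. -/
theorem lam_trivial {Ω : Type v} [Fintype Ω] [MulAction G Ω] (hmf : IsMultFree G Ω) (u : Orb G Ω) (a : Ω)
    (T : Cst G Ω) (hT : T.1 = trivIrr G) : lam hmf u T = (kk u a : ℂ) := by
  have hone : ∀ g : G, Cfsg.permRep ℂ G Ω g (1 : Ω → ℂ) = 1 := fun g => rfl
  have hiso : ∀ χ : Cst G Ω, isoOp Ω (χ.1 : G → ℂ) (1 : Ω → ℂ) =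
      if T = χ then (1 : Ω → ℂ) else 0 := fun χ => by
    simp only [isoOp, LinearMap.smul_apply, LinearMap.sum_apply, hone, ← Finset.sum_smul, smul_smul]
    have h := classInner_irr (trivIrr G) χ.1
    rw [classInner_def] at h
    simp only [trivIrr_coe, one_mul] at h
    rw [mul_assoc, h]
    split_ifs with h1 h2 h2
    · rw [← h1]; simp [trivIrr_coe]
    · exact absurd (Subtype.ext (hT.trans h1) : T = χ) h2
    · exact absurd (hT.symm.trans (congrArg Subtype.val h2)) h1
    · rw [mul_zero, zero_smul]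
  have h := LinearMap.congr_fun (op_eq hmf u) (1 : Ω → ℂ)
  simp only [LinearMap.sum_apply, LinearMap.smul_apply, hiso, smul_ite, smul_zero, Finset.sum_ite_eq,
    Finset.mem_univ, if_true] at h
  have h' := congrFun h a
  rw [op_apply, Pi.smul_apply, Pi.one_apply, smul_eq_mul, mul_one] at h'
  simp only [Pi.one_apply, Finset.sum_boole] at h'
  exact h'.symm

/-- An element of order `p` moves the points counted by an orbital in cycles of length `p`. -/
theorem Hyp.dvd_cntD (H : Hyp α P) (u : Orb G α) {x : G} (hx : orderOf x = p) : p ∣ cntD u x := by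
  let Y := {c : α // orb G c (x • c) = u}
  let π : Equiv.Perm Y := (MulAction.toPerm x : Equiv.Perm α).subtypePerm fun c => by
    rw [MulAction.toPerm_apply, orb_smul]
  have hπ : π ^ p ^ 1 = 1 := by
    rw [pow_one]
    ext c
    rw [Equiv.Perm.subtypePerm_pow]
    show ((MulAction.toPermHom G α x) ^ p) c.1 = _
    rw [← map_pow, ← hx, pow_orderOf_eq_one, map_one]
    rfl
  have hsupp : π.supportᶜ = ∅ := by
    rw [Finset.eq_empty_iff_forall_notMem]
    intro c hc
    rw [Finset.mem_compl, Equiv.Perm.mem_support, not_not] at hc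
    exact H.free (dvd_of_eq hx.symm) c.1 (congrArg Subtype.val hc)
  have h := Equiv.Perm.card_compl_support_modEq (p := p) hπ
  rw [hsupp, Finset.card_empty, Fintype.card_subtype] at h
  exact Nat.modEq_zero_iff_dvd.1 h.symm

/-- The suborbits of rank three: lengths `p + r` and `2 r (3 r + 1)`. -/
theorem Mid.exists_orbitals (M : Mid α S ψ) (H : Hyp α P) (a : α) :
    ∃ (u v : Orb G α) (r : ℤ), u ≠ v ∧ u ≠ orb G a a ∧ v ≠ orb G a a ∧
      (∀ w, w = orb G a a ∨ w = u ∨ w = v) ∧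
      (kk u a : ℤ) = p + r ∧ (kk v a : ℤ) = 2 * r * (3 * r + 1) := by
  haveI := Fintype.ofFinite (Cfsg.IrrCharacter G)
  haveI := H.pretrans
  have hmf := M.multFree
  have hp0 : p.Prime := Fact.out
  have hpC : (p : ℂ) ≠ 0 := Nat.cast_ne_zero.2 hp0.ne_zero
  have hcard : Fintype.card α = 3 * p := by rw [← Nat.card_eq_fintype_card, H.hα]
  let T : Cst G α := ⟨trivIrr G, by rw [M.inner]; simp [S.χ_ne, M.ne_ψ.symm]⟩
  let C : Cst G α := ⟨S.χ, by rw [M.inner]; simp [S.χ_ne.symm, M.ne_χψ.symm]⟩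
  let Ψ : Cst G α := ⟨ψ, by rw [M.inner]; simp [M.ne_ψ, M.ne_χψ]⟩
  have hTC : T ≠ C := fun e => S.χ_ne (congrArg Subtype.val e).symm
  have hTΨ : T ≠ Ψ := fun e => M.ne_ψ (congrArg Subtype.val e)
  have hCΨ : C ≠ Ψ := fun e => M.ne_χψ (congrArg Subtype.val e)
  have huniv : (Finset.univ : Finset (Cst G α)) = {T, C, Ψ} := by
    ext ⟨ξ, hξ⟩
    simp only [Finset.mem_univ, true_iff, Finset.mem_insert, Finset.mem_singleton, T, C, Ψ, Subtype.mk.injEq]
    rw [M.inner] at hξ
    by_contra hne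
    push Not at hne
    simp [hne.1.symm, hne.2.1.symm, hne.2.2.symm] at hξ
  have hsum : ∀ F : Cst G α → ℂ, ∑ χ, F χ = F T + F C + F Ψ := fun F => by
    rw [huniv, Finset.sum_insert (by simp [hTC, hTΨ]), Finset.sum_pair hCΨ]; ring
  have hnorb : Fintype.card (Orb G α) = 3 := by
    rw [← card_cst hmf, ← Finset.card_univ, huniv, Finset.card_eq_three.2 ⟨T, C, Ψ, hTC, hTΨ, hCΨ, rfl⟩]
  have hf : ((S.χ : G → ℂ) 1) = 2 * (p : ℂ) - 1 := by
    have : ((deg S.χ + 1 : ℕ) : ℂ) = ((2 * p : ℕ) : ℂ) := by rw [M.hf]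
    push_cast at this
    rw [← deg_cast]; linear_combination this
  have hd : (ψ : G → ℂ) 1 = (p : ℂ) := by rw [← deg_cast, M.hψ]
  obtain ⟨x, hx1, hx⟩ := S.D.exists_ne_one
  have hxo := S.D.orderOf_eq hx hx1
  choose j hj using fun w : Orb G α => H.dvd_cntD w hxo
  have hlT : ∀ w, lam hmf w T = (kk w a : ℂ) := fun w => lam_trivial hmf w a T rfl
  have hlC : ∀ w, lam hmf w C = ((kk w a - p * j w : ℤ) : ℂ) := fun w => by
    have h := cntD_eq hmf w x
    rw [hsum, hlT, hj] at h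
    simp only [T, C, Ψ, trivIrr_coe, mul_one, S.D.val_X' S.χ_mem hx hx1, M.hs,
      S.D.eq_zero_of_notMem H.card_centralizer M.hψB hx hx1, mul_zero, add_zero] at h
    push_cast at h ⊢
    linear_combination h
  have hdiag : ∀ χ, lam hmf (orb G a a) χ = 1 := lam_diag hmf a
  have hlΨ : ∀ w, w ≠ orb G a a → lam hmf w Ψ = (((2 * p - 1) * j w - 2 * kk w a : ℤ) : ℂ) := fun w hw => by
    have h := lam_orth hmf a w (orb G a a)
    rw [if_neg hw, hsum, hdiag, hdiag, hdiag, hlT, hlC] at h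
    simp only [T, C, Ψ, trivIrr_coe, map_one, mul_one, one_mul, hf, hd] at h
    push_cast at h ⊢
    refine mul_left_cancel₀ hpC ?_
    linear_combination h
  have hnorm : ∀ w, w ≠ orb G a a →
      (kk w a : ℤ) ^ 2 + (2 * (p : ℤ) - 1) * ((kk w a : ℤ) - p * j w) ^ 2 +
        p * ((2 * (p : ℤ) - 1) * j w - 2 * kk w a) ^ 2 = 3 * p * kk w a := fun w hw => by
    have h := lam_orth hmf a w w
    rw [if_pos rfl, hsum, hlT, hlC, hlΨ w hw, hcard] at h
    simp only [T, C, Ψ, trivIrr_coe, one_mul, hf, hd, Complex.conj_natCast, map_intCast] at h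
    have h' : (((kk w a : ℤ) ^ 2 + (2 * (p : ℤ) - 1) * ((kk w a : ℤ) - p * j w) ^ 2 +
        p * ((2 * (p : ℤ) - 1) * j w - 2 * kk w a) ^ 2 : ℤ) : ℂ) = ((3 * p * kk w a : ℤ) : ℂ) := by
      push_cast at h ⊢
      linear_combination h
    exact_mod_cast h'
  have hkpos : ∀ w : Orb G α, 0 < kk w a := fun w => by
    obtain ⟨b, c, rfl⟩ := exists_orb w
    rw [kk_const _ a b, kk]
    exact Finset.card_pos.2 ⟨c, by simp⟩
  have hj1 : ∀ w, w ≠ orb G a a → 1 ≤ j w := fun w hw => by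
    by_contra h0
    have h := hnorm w hw
    rw [show j w = 0 by omega, Nat.cast_zero, mul_zero, sub_zero, mul_zero, zero_sub] at h
    have hk : (1 : ℤ) ≤ kk w a := by exact_mod_cast hkpos w
    nlinarith [mul_pos (show (0 : ℤ) < p by exact_mod_cast hp0.pos) (show (0 : ℤ) < kk w a by omega)]
  obtain ⟨u', v', huv, hrest⟩ := Finset.card_eq_two.1 (show (Finset.univ.erase (orb G a a)).card = 2 by
    rw [Finset.card_erase_of_mem (Finset.mem_univ _), Finset.card_univ, hnorb])
  have hu' : u' ≠ orb G a a := (Finset.mem_erase.1 (by rw [hrest]; simp : u' ∈ Finset.univ.erase (orb G a a))).1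
  have hv' : v' ≠ orb G a a := (Finset.mem_erase.1 (by rw [hrest]; simp : v' ∈ Finset.univ.erase (orb G a a))).1
  have hsplit : ∀ F : Orb G α → ℕ, ∑ w, F w = F (orb G a a) + (F u' + F v') := fun F => by
    rw [← Finset.add_sum_erase _ _ (Finset.mem_univ (orb G a a)), hrest, Finset.sum_pair huv]
  have hjsum : j u' + j v' = 3 := by
    have h := sum_cntD (G := G) (Ω := α) x
    rw [hsplit, cntD_diag, show Nat.card (MulAction.fixedBy α x) = 0 from H.fx_singular (dvd_of_eq hxo.symm),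
      hj, hj, hcard, zero_add, ← mul_add, mul_comm 3 p] at h
    exact Nat.eq_of_mul_eq_mul_left hp0.pos h
  have hksum : kk u' a + kk v' a + 1 = 3 * p := by
    have h : ∑ w : Orb G α, kk w a = 3 * p := by
      rw [← hcard, ← Finset.card_univ]
      exact (Finset.card_eq_sum_card_fiberwise (f := fun b => orb G a b) (t := Finset.univ)
        fun _ _ => Finset.mem_univ _).symm
    rw [hsplit] at h
    have h1 : kk (orb G a a) a = 1 := by
      have h2 := hlT (orb G a a)
      rw [hdiag] at h2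
      exact_mod_cast h2.symm
    omega
  obtain ⟨u, v, huv, hu, hv, hju, hall, hk⟩ : ∃ u v, u ≠ v ∧ u ≠ orb G a a ∧ v ≠ orb G a a ∧ j u = 1 ∧
      (∀ w, w = orb G a a ∨ w = u ∨ w = v) ∧ kk u a + kk v a + 1 = 3 * p := by
    have h1 := hj1 u' hu'
    have h2 := hj1 v' hv'
    have hmem : ∀ w, w = orb G a a ∨ w = u' ∨ w = v' := fun w => by
      by_cases hw : w = orb G a a
      · exact Or.inl hw
      · have : w ∈ Finset.univ.erase (orb G a a) := by simp [hw]
        rw [hrest] at this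
        exact Or.inr (by simpa using this)
    rcases (show j u' = 1 ∨ j v' = 1 by omega) with e | e
    · exact ⟨u', v', huv, hu', hv', e, hmem, hksum⟩
    · exact ⟨v', u', huv.symm, hv', hu', e, fun w => by rcases hmem w with h | h | h <;> simp [h], by omega⟩
  refine ⟨u, v, (kk u a : ℤ) - p, huv, hu, hv, hall, by ring, ?_⟩
  have h := hnorm u hu
  rw [hju, Nat.cast_one, mul_one, mul_one] at h
  have hkv : (kk v a : ℤ) = 3 * p - 1 - kk u a := by omega
  rw [hkv]
  refine mul_left_cancel₀ (Nat.cast_ne_zero.2 hp0.ne_zero : (p : ℤ) ≠ 0) ?_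
  linear_combination -h

/-- The pairs of an orbital, by the stabilizer of one of them. -/
theorem Hyp.kk_mul (H : Hyp α P) (x y : α) :
    3 * p * (kk (orb G x y) x * Nat.card (stab2 G x y)) = Nat.card G := by
  rw [← H.stab_mul x]
  congr 1
  have h1 := MulAction.card_orbit_mul_card_stabilizer_eq_card_group (MulAction.stabilizer G x) y
  simp only [← Nat.card_eq_fintype_card] at h1
  rw [← h1]
  congr 1
  · rw [kk, ← Nat.card_eq_finsetCard]
    refine Nat.card_congr (Equiv.subtypeEquivRight fun z => ?_)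
    simp only [Finset.mem_filter, Finset.mem_univ, true_and]
    constructor
    · intro hz
      obtain ⟨g, hg1, hg2⟩ := orb_eq hz
      exact ⟨⟨g, hg1⟩, hg2⟩
    · rintro ⟨⟨g, hg⟩, rfl⟩
      show orb G x (g • y) = orb G x y
      conv_lhs => arg 2; rw [← (hg : g • x = x)]
      exact orb_smul g x y
  · exact Nat.card_congr
      { toFun := fun t => ⟨⟨t.1, t.2.1⟩, t.2.2⟩
        invFun := fun t => ⟨((t : MulAction.stabilizer G x) : G), (t : MulAction.stabilizer G x).2, t.2⟩
        left_inv := fun _ => rfl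
        right_inv := fun _ => rfl }

omit [Fintype G] [Fintype α] in
/-- A group acting freely on a finite set. -/
theorem card_dvd_of_free [Finite G] (K : Subgroup G) (s : Finset α) (hinv : ∀ g ∈ K, ∀ x ∈ s, g • x ∈ s)
    (hfree : ∀ g ∈ K, ∀ x ∈ s, g • x = x → g = 1) : Nat.card K ∣ s.card := by
  haveI := Fintype.ofFinite K
  induction s using Finset.strongInduction with
  | H s ih =>
    rcases s.eq_empty_or_nonempty with rfl | ⟨x, hx⟩
    · simp
    set O := Finset.univ.image fun g : K => (g : G) • x with hO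
    have hsub : O ⊆ s := fun y hy => by
      obtain ⟨g, -, rfl⟩ := Finset.mem_image.1 hy
      exact hinv g g.2 x hx
    have hcard : O.card = Nat.card K := by
      rw [hO, Finset.card_image_of_injective _ fun (g : K) (k : K) (e : (g : G) • x = (k : G) • x) =>
        Subtype.ext (inv_mul_eq_one.1 (hfree _ (mul_mem (inv_mem k.2) g.2) x hx
          (by rw [mul_smul, e, inv_smul_smul]))).symm, Finset.card_univ, Nat.card_eq_fintype_card]
    have hlt : s \ O ⊂ s := Finset.sdiff_ssubset hsub ⟨x, Finset.mem_image.2 ⟨1, Finset.mem_univ _, by simp⟩⟩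
    rw [← Finset.card_sdiff_add_card_eq_card hsub]
    refine Nat.dvd_add (ih _ hlt (fun g hg y hy => ?_)
      fun g hg y hy => hfree g hg y (Finset.mem_sdiff.1 hy).1) (dvd_of_eq hcard.symm)
    obtain ⟨hys, hyO⟩ := Finset.mem_sdiff.1 hy
    refine Finset.mem_sdiff.2 ⟨hinv g hg y hys, fun h => hyO ?_⟩
    obtain ⟨k, -, hk⟩ := Finset.mem_image.1 h
    refine Finset.mem_image.2 ⟨⟨g, hg⟩⁻¹ * k, Finset.mem_univ _, ?_⟩
    show (g⁻¹ * (k : G)) • x = y
    rw [mul_smul, hk, inv_smul_smul]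

theorem arith_suborbit {p : ℕ} {k k' : ℕ} {r : ℤ} (hp : 8 ∣ p - 1) (hp1 : 1 ≤ p)
    (hk : (k : ℤ) = p + r) (hk' : (k' : ℤ) = 2 * r * (3 * r + 1))
    (h8 : 8 ∣ k ∨ (2 ≤ k ∧ 8 ∣ k - 2)) : 4 ∣ k' ∧ ¬ 16 ∣ k' := by
  obtain ⟨P8, hP8⟩ := hp
  obtain ⟨t, ht⟩ : ∃ t : ℤ, r = 8 * t + 1 ∨ r = 8 * t - 1 := by
    rcases h8 with ⟨m, hm⟩ | ⟨h2, m, hm⟩
    · exact ⟨(m : ℤ) - P8, Or.inr (by omega)⟩
    · exact ⟨(m : ℤ) - P8, Or.inl (by omega)⟩
  rcases ht with rfl | rfl
  · have e : (k' : ℤ) = 16 * (24 * t ^ 2 + 7 * t) + 8 := by rw [hk']; ring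
    omega
  · have e : (k' : ℤ) = 16 * (24 * t ^ 2 - 5 * t) + 4 := by rw [hk']; ring
    omega

/-- The Sylow `2`-subgroup has order eight. -/
theorem Mid.sylow_eight (M : Mid α S ψ) (H : Hyp α P) (h3 : ∀ z : G, orderOf z = 2 → fx α z = 3) :
    (Nat.card G).factorization 2 = 3 ∧ (p - 1).factorization 2 = 2 := by
  haveI := Fact.mk Nat.prime_two
  have hp5 := H.p5
  obtain ⟨z, hz⟩ := H.exists_involution
  obtain ⟨-, hν2⟩ := H.two_le_nu hz (h3 z hz)
  have hvg := (M.two_sylow H h3).1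
  rcases Nat.eq_or_lt_of_le hν2 with e | hν
  · exact ⟨by omega, e.symm⟩
  exfalso
  obtain ⟨Q, a, b, c, hpre, -, hTc, g₀, hg₀, hg₀b⟩ := (H.exists_pre S h3 rfl).2 hvg
  set ν := (p - 1).factorization 2 with hνd
  set T := (Q : Subgroup G) ⊓ MulAction.stabilizer G b with hT
  have h8 : 8 ∣ p - 1 := (pow_dvd_pow 2 hν).trans (Nat.ordProj_dvd (p - 1) 2)
  have hA8 : 8 ∣ Nat.card T := hTc ▸ pow_dvd_pow 2 hν
  obtain ⟨u, v, r, huv, hu, hv, hall, hku, hkv⟩ := M.exists_orbitals H a
  -- the suborbit of length `p + r`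
  set U := Finset.univ.filter (fun y => orb G a y = u) with hU
  have hUinv : ∀ g ∈ T, ∀ y ∈ U \ {b, c}, g • y ∈ U \ {b, c} := fun g hg y hy => by
    simp only [hU, Finset.mem_sdiff, Finset.mem_filter, Finset.mem_univ, true_and, Finset.mem_insert,
      Finset.mem_singleton, not_or] at hy ⊢
    refine ⟨?_, fun e => hy.2.1 (MulAction.injective g (e.trans hg.2.symm)),
      fun e => hy.2.2 (MulAction.injective g (e.trans (hpre.fixc g hg.1 hg.2).symm))⟩
    rw [← hy.1]
    conv_lhs => arg 2; rw [← hpre.fixa g hg.1]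
    exact orb_smul g a y
  have hUdvd : 8 ∣ (U \ {b, c}).card := hA8.trans (card_dvd_of_free T _ hUinv fun g hg y hy => by
    simp only [hU, Finset.mem_sdiff, Finset.mem_filter, Finset.mem_univ, true_and, Finset.mem_insert,
      Finset.mem_singleton, not_or] at hy
    exact hpre.free g hg.1 hg.2 y (fun e => hu (by rw [← hy.1, e])) hy.2.1 hy.2.2)
  have hbc : orb G a c = orb G a b := by
    conv_lhs => rw [← hg₀b, ← hpre.fixa g₀ hg₀]
    rw [orb_smul]
  have h8k : 8 ∣ kk u a ∨ (2 ≤ kk u a ∧ 8 ∣ kk u a - 2) := by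
    rw [kk, ← hU]
    by_cases hb : orb G a b = u
    · right
      have hsub : {b, c} ⊆ U := fun y hy => by
        rcases Finset.mem_insert.1 hy with rfl | hy
        · simp [hU, hb]
        · simp [hU, Finset.mem_singleton.1 hy, hbc, hb]
      rw [Finset.card_sdiff_of_subset hsub, Finset.card_pair hpre.hbc] at hUdvd
      exact ⟨Finset.card_pair hpre.hbc ▸ Finset.card_le_card hsub, hUdvd⟩
    · left
      rwa [Finset.sdiff_eq_self_of_disjoint (Finset.disjoint_left.2 fun y hy hy2 => by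
        simp only [hU, Finset.mem_filter, Finset.mem_univ, true_and] at hy
        rcases Finset.mem_insert.1 hy2 with rfl | hy2
        · exact hb hy
        · exact hb (by rw [← hy, Finset.mem_singleton.1 hy2, hbc]))] at hUdvd
  obtain ⟨h4, h16⟩ := arith_suborbit h8 (by omega) hku hkv h8k
  -- the other suborbit
  obtain ⟨y, hy⟩ : ∃ y, orb G a y = v := by
    obtain ⟨x', y', hxy⟩ := exists_orb v
    haveI := H.pretrans
    obtain ⟨g, hg⟩ := MulAction.exists_smul_eq G x' a
    exact ⟨g • y', by rw [← hg, orb_smul, hxy]⟩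
  have hkd : ∀ x' y' : α, orb G x' y' = v → ∀ m, 2 ^ m ∣ Nat.card (stab2 G x' y') →
      m + (kk v a).factorization 2 ≤ ν + 1 := fun x' y' hxy m hm => by
    haveI := H.pretrans
    have h := H.kk_mul x' y'
    rw [hxy, kk_const v x' a] at h
    rw [← hvg]
    have hs0 : Nat.card (stab2 G x' y') ≠ 0 := Nat.card_pos.ne'
    have hk0 : kk v a ≠ 0 := fun e => by
      rw [e, zero_mul, mul_zero] at h; exact Nat.card_pos.ne' h.symm
    rw [← h, Nat.factorization_mul (by omega) (mul_ne_zero hk0 hs0), Nat.factorization_mul hk0 hs0,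
      Finsupp.add_apply, Finsupp.add_apply]
    have := (Nat.prime_two.pow_dvd_iff_le_factorization hs0).1 hm
    omega
  have hk0 : kk v a ≠ 0 := fun e => h16 (by rw [e]; exact dvd_zero 16)
  have hkv2 : 2 ≤ (kk v a).factorization 2 :=
    (Nat.prime_two.pow_dvd_iff_le_factorization hk0).1 h4
  have hkv3 : (kk v a).factorization 2 ≤ 3 := by
    by_contra hlt
    exact h16 ((Nat.prime_two.pow_dvd_iff_le_factorization hk0).2 (by omega : 4 ≤ _))
  -- the stabilizer of such a pair has odd order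
  have hodd : ¬ 2 ∣ Nat.card (stab2 G a y) := by
    intro h2
    obtain ⟨⟨w, hw⟩, hwo⟩ := exists_prime_orderOf_dvd_card' (G := stab2 G a y) 2 h2
    rw [orderOf_mk] at hwo
    obtain ⟨⟨J, hJ⟩, hJo⟩ := exists_prime_orderOf_dvd_card' (G := T) 2 ((dvd_mul_right 2 4).trans hA8)
    rw [orderOf_mk] at hJo
    obtain ⟨g, hg⟩ := isConj_iff.1 (H.isConj_involutions S hJo hwo)
    have hin : ∀ x', w • x' = x' → g⁻¹ • x' = a ∨ g⁻¹ • x' = b ∨ g⁻¹ • x' = c := fun x' hx' => by
      by_contra hne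
      push Not at hne
      have hJx : J • g⁻¹ • x' = g⁻¹ • x' := by
        rw [← mul_smul, show J * g⁻¹ = g⁻¹ * w by rw [← hg]; group, mul_smul, hx']
      have h1 := hpre.free J hJ.1 hJ.2 _ hne.1 hne.2.1 hne.2.2 hJx
      rw [h1, orderOf_one] at hJo
      omega
    have hfix : ∀ d, (d = a ∨ d = b ∨ d = c) → ∀ t ∈ T, t • d = d := fun d hd t ht => by
      rcases hd with rfl | rfl | rfl
      · exact hpre.fixa t ht.1
      · exact ht.2
      · exact hpre.fixc t ht.1 ht.2
    have hle : T ≤ stab2 G (g⁻¹ • a) (g⁻¹ • y) := fun t ht =>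
      ⟨hfix _ (hin a hw.1) t ht, hfix _ (hin y hw.2) t ht⟩
    have := hkd (g⁻¹ • a) (g⁻¹ • y) (by rw [orb_smul, hy]) ν (hTc ▸ card_dvd_of_le hle)
    omega
  have h := H.kk_mul a y
  rw [hy] at h
  have hs0 : Nat.card (stab2 G a y) ≠ 0 := Nat.card_pos.ne'
  have hv3 : (3 * p).factorization 2 = 0 := by
    refine Nat.factorization_eq_zero_of_not_dvd fun h2 => ?_
    have := H.odd
    rw [Nat.odd_iff] at this
    omega
  have hvg' := congrArg (fun n : ℕ => n.factorization 2) h
  simp only [Nat.factorization_mul (by omega : 3 * p ≠ 0) (mul_ne_zero hk0 hs0),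
    Nat.factorization_mul hk0 hs0, Finsupp.add_apply, hv3,
    Nat.factorization_eq_zero_of_not_dvd hodd] at hvg'
  omega

end Cfsg.Agent.DegreeThreeP
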