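import Cfsg.Agent.Lib.DegreeThreeP.MiddleFrame

/-!
# Degree `3 p`, rank three: two counts of pairs of involutions
-/

set_option autoImplicit false
set_option linter.style.haveILetI false
set_option linter.unusedSectionVars false

namespace Cfsg.Agent.DegreeThreeP

open Cfsg.Agent.Characters Cfsg.Agent.Blocks Subgroup Cfsg.Agent.PrimeBlock
open Cfsg.Agent.CharTheory.DihedralPrincipal
open scoped ComplexConjugate
open scoped _root_.Classical

universe u v

variable {G : Type u} [Group G] [Fintype G] {α : Type v} [MulAction G α] [Fintype α] {p : ℕ}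
  [Fact p.Prime] {P : Sylow p G} {S : Blk P} {ψ : Cfsg.IrrCharacter G} {Q : Sylow 2 G} {a b c : α}
  {σ τ : G}

/-- The conjugates of a reflection in the centralizer of `J`. -/
noncomputable def cls (σ τ : G) (r : ℕ) : Finset G :=
  (Finset.univ.filter fun e => Commute e (σ ^ 2)).image fun e => e * (σ ^ r * τ) * e⁻¹

theorem Ctx.card_cls_mul (C : Ctx α S ψ Q a b c σ τ) (r : ℕ) :
    (cls σ τ r).card * (oddC (σ ^ 2) (σ ^ r * τ)).card ≤ 2 * (oddC (σ ^ 2) (σ ^ 2)).card := by
  set t := σ ^ r * τ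
  set D := Finset.univ.filter fun e : G => Commute e (σ ^ 2) with hD
  have hDc : D.card = 8 * (oddC (σ ^ 2) (σ ^ 2)).card := by
    rw [← C.card_centralizer_J, Nat.card_eq_fintype_card, Fintype.card_subtype]
    congr 1; ext e
    simp only [hD, Finset.mem_filter, Finset.mem_univ, true_and, mem_centralizer_singleton_iff]
    exact Iff.rfl
  have hfib : ∀ y ∈ cls σ τ r, 4 * (oddC (σ ^ 2) t).card ≤ (D.filter fun e => e * t * e⁻¹ = y).card := by
    intro y hy
    obtain ⟨e₀, he₀, rfl⟩ := Finset.mem_image.1 hy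
    rw [← C.card_centralizer_pair r, Nat.card_eq_fintype_card, Fintype.card_subtype]
    refine Finset.card_le_card_of_injOn (fun y => e₀ * y) (fun y hy => ?_) fun _ _ _ _ e => mul_left_cancel e
    simp only [Finset.mem_coe, Finset.mem_filter, Finset.mem_univ, true_and, Subgroup.mem_centralizer_iff,
      Set.mem_insert_iff, Set.mem_singleton_iff, forall_eq_or_imp, forall_eq] at hy
    simp only [hD, Finset.mem_filter, Finset.mem_univ, true_and] at he₀
    simp only [hD, Finset.mem_coe, Finset.mem_filter, Finset.mem_univ, true_and]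
    refine ⟨he₀.mul_left (show Commute y (σ ^ 2) from hy.1.symm), ?_⟩
    calc e₀ * y * t * (e₀ * y)⁻¹ = e₀ * (y * t) * y⁻¹ * e₀⁻¹ := by group
      _ = e₀ * (t * y) * y⁻¹ * e₀⁻¹ := by rw [hy.2]
      _ = e₀ * t * e₀⁻¹ := by group
  have h : ∑ _y ∈ cls σ τ r, 4 * (oddC (σ ^ 2) t).card ≤ D.card := by
    refine le_trans (Finset.sum_le_sum hfib) (le_of_eq ?_)
    exact (Finset.card_eq_sum_card_fiberwise fun e he => Finset.mem_image.2 ⟨e, he, rfl⟩).symm
  rw [Finset.sum_const, smul_eq_mul, hDc, mul_left_comm] at h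
  omega

/-- The pairs with a product of order divisible by four, over one involution. -/
theorem Ctx.fibre_le (C : Ctx α S ψ Q a b c σ τ) [Fintype (Cfsg.IrrCharacter G)] :
    ((invs G ×ˢ invs G).filter fun w : G × G => 4 ∣ orderOf (w.1 * w.2) ∧
      (w.1 * w.2) ^ (orderOf (w.1 * w.2) / 2) = σ ^ 2).card ≤ 2 * ((cls σ τ 0).card * (cls σ τ 1).card) := by
  haveI := Fact.mk Nat.prime_two
  have F := C.frame
  set J := σ ^ 2 with hJ
  obtain ⟨π, hπ, hker⟩ := F.dih.exists_retract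
  have hclass : ∀ x : (centralizer ({σ ^ 2} : Set G)), orderOf x = 2 →
      ((π x : (Q : Subgroup G)) : G) = J ∨
        ((x : G) ∈ cls σ τ 0 ∧ (((π x : (Q : Subgroup G)) : G) = τ ∨ ((π x : (Q : Subgroup G)) : G) = σ ^ 2 * τ)) ∨
        ((x : G) ∈ cls σ τ 1 ∧
          (((π x : (Q : Subgroup G)) : G) = σ * τ ∨ ((π x : (Q : Subgroup G)) : G) = σ ^ 3 * τ)) := by
    intro x hx
    set q : G := ((π x : (Q : Subgroup G)) : G) with hq
    obtain ⟨R, hR⟩ := (IsPGroup.of_card (n := 1) (by rw [Nat.card_zpowers, pow_one]; exact hx) :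
      IsPGroup 2 (zpowers x)).exists_le_sylow
    set QC : Sylow 2 (centralizer ({σ ^ 2} : Set G)) := Q.subtype F.dih.sylow_le
    obtain ⟨e, he⟩ := MulAction.exists_smul_eq (centralizer ({σ ^ 2} : Set G)) R QC
    have hmem : ((e * x * e⁻¹ : (centralizer ({σ ^ 2} : Set G))) : G) ∈ (Q : Subgroup G) := by
      have : e * x * e⁻¹ ∈ QC := by
        rw [← he, ← SetLike.mem_coe, Sylow.coe_smul]
        exact ⟨x, hR (mem_zpowers _), rfl⟩
      exact this
    set z : G := ((π e : (Q : Subgroup G)) : G) with hz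
    have hez : (e : G) * x * (e : G)⁻¹ = z * q * z⁻¹ := by
      have h := congrArg (fun w : (Q : Subgroup G) => (w : G)) (hπ (e * x * e⁻¹) hmem)
      simp only [map_mul, map_inv, Subgroup.coe_mul, Subgroup.coe_inv] at h
      exact h.symm
    have hxq : (x : G) = ((e : G)⁻¹ * z) * q * ((e : G)⁻¹ * z)⁻¹ := by
      calc (x : G) = (e : G)⁻¹ * ((e : G) * x * (e : G)⁻¹) * e := by group
        _ = _ := by rw [hez]; group
    have heC : Commute ((e : G)⁻¹ * z) J :=
      (Commute.inv_left (mem_centralizer_singleton_iff.1 e.2)).mul_left (F.dih.commute_J (π e).2)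
    have hq2 : q * q = 1 := by
      have h : π x * π x = 1 := by
        rw [← map_mul, ← pow_two, orderOf_dvd_iff_pow_eq_one.1 (dvd_of_eq hx), map_one]
      exact congrArg (fun w : (Q : Subgroup G) => (w : G)) h
    have hq1 : q ≠ 1 := fun e1 => (hker x).1 (Subtype.ext e1) (by rw [hx])
    obtain ⟨k, hk⟩ := F.dih.cases q (π x).2
    rw [← F.dih.pow_mod k] at hk
    have hk4 : k % (2 * 2) < 4 := Nat.mod_lt _ (by norm_num)
    generalize k % (2 * 2) = i at hk hk4
    rcases hk with hk | hk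
    · left
      have h2 := (F.dih.pow_half (DihSylow.mem_of_pow i hk) hq1).2
      rwa [orderOf_eq_prime (by rw [pow_two]; exact hq2) hq1, Nat.div_self two_pos, pow_one] at h2
    · right
      have hcls : ∀ (r : ℕ) (y : G), Commute y J → y * (σ ^ r * τ) * y⁻¹ = q → (x : G) ∈ cls σ τ r := by
        intro r y hy hyq
        refine Finset.mem_image.2 ⟨(e : G)⁻¹ * z * y, Finset.mem_filter.2 ⟨Finset.mem_univ _,
          heC.mul_left hy⟩, ?_⟩
        rw [hxq, ← hyq]; group
      have hσJ : Commute σ J := (Commute.refl σ).pow_right 2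
      have hconj := fun i => F.dih.conj_refl i 1
      simp only [pow_one] at hconj
      rcases (show i = 0 ∨ i = 1 ∨ i = 2 ∨ i = 3 by omega) with rfl | rfl | rfl | rfl
      · exact Or.inl ⟨hcls 0 1 (Commute.one_left _) (by rw [hk]; group), Or.inl (by rw [hk, pow_zero, one_mul])⟩
      · exact Or.inr ⟨hcls 1 1 (Commute.one_left _) (by rw [hk]; group), Or.inl (by rw [hk, pow_one])⟩
      · exact Or.inl ⟨hcls 0 σ hσJ (by rw [hk, hconj]), Or.inr hk⟩
      · exact Or.inr ⟨hcls 1 σ hσJ (by rw [hk, hconj]), Or.inr hk⟩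
  have hcommJ : ∀ y : (centralizer ({σ ^ 2} : Set G)), Commute ((π y : (Q : Subgroup G)) : G) J := fun y => F.dih.commute_J (π y).2
  have hsub : ((invs G ×ˢ invs G).filter fun w : G × G => 4 ∣ orderOf (w.1 * w.2) ∧
      (w.1 * w.2) ^ (orderOf (w.1 * w.2) / 2) = J) ⊆
      (cls σ τ 0 ×ˢ cls σ τ 1) ∪ (cls σ τ 1 ×ˢ cls σ τ 0) := by
    rintro ⟨x, y⟩ hw
    simp only [Finset.mem_filter, Finset.mem_product, mem_invs] at hw
    obtain ⟨⟨hxo, hyo⟩, h4, hJ'⟩ := hw
    have hxx := sq_one_of_orderOf hxo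
    have hyy := sq_one_of_orderOf hyo
    have hJinv : J⁻¹ = J := inv_eq_of_mul_eq_one_right (sq_one_of_orderOf C.hJ)
    have hxJ : Commute x J := by
      have h1 : x * (x * y) * x⁻¹ = (x * y)⁻¹ := by
        rw [mul_inv_rev, inv_eq_of_mul_eq_one_right hxx, inv_eq_of_mul_eq_one_right hyy, ← mul_assoc, hxx, one_mul]
      have h2 : x * J * x⁻¹ = J := by rw [← hJ', ← conj_pow, h1, inv_pow, hJ', hJinv]
      exact mul_inv_eq_iff_eq_mul.1 h2
    have hxyJ : Commute (x * y) J := hJ' ▸ Commute.self_pow _ _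
    have hyJ : Commute y J := by
      have := (hxJ.inv_left).mul_left hxyJ
      rwa [inv_mul_cancel_left] at this
    set X : (centralizer ({σ ^ 2} : Set G)) := ⟨x, mem_centralizer_singleton_iff.2 hxJ.eq⟩
    set Y : (centralizer ({σ ^ 2} : Set G)) := ⟨y, mem_centralizer_singleton_iff.2 hyJ.eq⟩
    have hX := hclass X (by rw [Subgroup.orderOf_mk]; exact hxo)
    have hY := hclass Y (by rw [Subgroup.orderOf_mk]; exact hyo)
    have hne : ¬ Commute ((π X : (Q : Subgroup G)) : G) ((π Y : (Q : Subgroup G)) : G) := by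
      intro hc
      have hc' : Commute (π X) (π Y) := Subtype.ext hc.eq
      have h1 : π ((X * Y) ^ 2) = 1 := by
        rw [map_pow, map_mul, hc'.mul_pow, ← map_pow, ← map_pow,
          show X ^ 2 = 1 from Subtype.ext ((Subgroup.coe_pow _ _ _).trans ((pow_two x).trans hxx)),
          show Y ^ 2 = 1 from Subtype.ext ((Subgroup.coe_pow _ _ _).trans ((pow_two y).trans hyy)), map_one, one_mul]
      have h2 := (hker _).1 h1
      rw [← Subgroup.orderOf_coe, Subgroup.coe_pow, Subgroup.coe_mul] at h2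
      refine h2 ?_
      show 2 ∣ orderOf ((x * y) ^ 2)
      rw [orderOf_pow_of_dvd two_ne_zero ((show (2 : ℕ) ∣ 4 by norm_num).trans h4)]
      exact Nat.dvd_div_of_mul_dvd h4
    have hsame : ∀ u v w : G, Commute w J → (u = w ∨ u = σ ^ 2 * w) → (v = w ∨ v = σ ^ 2 * w) → Commute u v := by
      rintro u v w hw (rfl | rfl) (rfl | rfl)
      · exact Commute.refl _
      · exact hw.mul_right (Commute.refl _)
      · exact (Commute.symm hw).mul_left (Commute.refl _)
      · exact Commute.refl _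
    have hτJ : Commute τ J := F.dih.commute_J F.dih.τ_mem
    have hστJ : Commute (σ * τ) J := F.dih.commute_J (mul_mem F.dih.σ_mem F.dih.τ_mem)
    have e3 : σ ^ 3 * τ = σ ^ 2 * (σ * τ) := by rw [← mul_assoc, ← pow_succ]
    rcases hX with hX | ⟨hX, hX'⟩ | ⟨hX, hX'⟩
    · exact absurd (hX ▸ (hcommJ Y).symm) hne
    · rcases hY with hY | ⟨-, hY'⟩ | ⟨hY, -⟩
      · exact absurd (hY ▸ hcommJ X) hne
      · exact absurd (hsame _ _ τ hτJ hX' hY') hne
      · exact Finset.mem_union_left _ (Finset.mem_product.2 ⟨hX, hY⟩)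
    · rcases hY with hY | ⟨hY, -⟩ | ⟨-, hY'⟩
      · exact absurd (hY ▸ hcommJ X) hne
      · exact Finset.mem_union_right _ (Finset.mem_product.2 ⟨hX, hY⟩)
      · exact absurd (hsame _ _ (σ * τ) hστJ (e3 ▸ hX') (e3 ▸ hY')) hne
  refine (Finset.card_le_card hsub).trans ((Finset.card_union_le _ _).trans ?_)
  rw [Finset.card_product, Finset.card_product]
  exact le_of_eq (by ring)

/-- The value of `1 + χ₁ - χ₂ - χ₃`. -/
theorem Ctx.value_G0 (C : Ctx α S ψ Q a b c σ τ) [Fintype (Cfsg.IrrCharacter G)] {Md : Ideal Cfsg.AlgInt}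
    (hMd : Cfsg.IsPModular 2 Md) {c3 : Cfsg.IrrCharacter G} {X : ℕ → Cfsg.IrrCharacter G}
    (T : Principal (G := G) σ 2 Md root4 S.χ ψ c3 1 (-1) (-1) X) (g : G) :
    1 + (S.χ : G → ℂ) g - (ψ : G → ℂ) g - (c3 : G → ℂ) g = if 4 ∣ orderOf g then 4 else 0 := by
  haveI := Fact.mk Nat.prime_two
  have F := C.frame
  by_cases h2 : 2 ∣ orderOf g
  swap
  · rw [if_neg fun h => h2 ((show (2 : ℕ) ∣ 4 by norm_num).trans h)]
    have := (T.reg g h2).1
    push_cast at this
    linear_combination this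
  obtain ⟨u, hu⟩ := exists_ppart Nat.prime_two g
  obtain ⟨s, hus, hcs, ⟨j, hj⟩, hso⟩ := id hu
  have hcop : (orderOf u).Coprime (orderOf s) := by
    rw [hj]; exact Nat.Coprime.pow_left _ ((Nat.prime_two.coprime_iff_not_dvd).2 hso)
  have hog : orderOf g = orderOf u * orderOf s := by
    rw [← hus]; exact hcs.orderOf_mul_eq_mul_orderOf_of_coprime hcop
  -- into the rotations
  obtain ⟨e, he⟩ : ∃ e : G, e * u * e⁻¹ ∈ zpowers σ := by
    rcases Nat.lt_or_ge j 2 with hj2 | hj2
    · interval_cases j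
      · exact ⟨1, by rw [orderOf_eq_one_iff.1 (hj.trans (pow_zero 2))]; group; exact one_mem _⟩
      · obtain ⟨e, he⟩ := isConj_iff.1 (C.hyp.isConj_involutions S (hj.trans (pow_one 2)) C.hJ)
        exact ⟨e, he ▸ pow_mem (mem_zpowers σ) 2⟩
    · obtain ⟨R, hR⟩ := (IsPGroup.of_card (n := j) (by rw [Nat.card_zpowers, hj]) :
        IsPGroup 2 (zpowers u)).exists_le_sylow
      obtain ⟨e, he⟩ := MulAction.exists_smul_eq G R Q
      have hmem : e * u * e⁻¹ ∈ (Q : Subgroup G) := by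
        rw [← he, Sylow.coe_subgroup_smul]
        exact ⟨u, hR (mem_zpowers _), rfl⟩
      obtain ⟨i, hi | hi⟩ := F.dih.cases _ hmem
      · exact ⟨e, DihSylow.mem_of_pow i hi⟩
      · exfalso
        have h1 : orderOf (e * u * e⁻¹) = 2 := by rw [hi]; exact F.dih.orderOf_refl i
        rw [BlockCharsA.RegularPart.orderOf_conj', hj] at h1
        have : 2 ^ 2 ≤ 2 ^ j := Nat.pow_le_pow_right two_pos hj2
        omega
  set u' := e * u * e⁻¹ with hu'
  have hu'o : orderOf u' = orderOf u := BlockCharsA.RegularPart.orderOf_conj' _ _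
  have hu'1 : u' ≠ 1 := fun e1 => by
    rw [e1, orderOf_one] at hu'o
    rw [hog, ← hu'o, one_mul] at h2
    exact hso h2
  have key : ∀ χ : Cfsg.IrrCharacter G, χ ∈ Cfsg.principalBlock Md G → (χ : G → ℂ) g = (χ : G → ℂ) u' := by
    intro χ hχ
    have hc' : Commute u' (e * s * e⁻¹) := hcs.map (MulAut.conj e).toMonoidHom
    rw [← F.dih.value_section hMd he hu'1 hχ hc' (by rwa [BlockCharsA.RegularPart.orderOf_conj']),
      ← irr_isClassFunction χ g e, ← hus]
    congr 1
    rw [hu']; group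
  rw [key _ ((T.mem _).2 (Or.inr (Or.inl rfl))), key _ ((T.mem _).2 (Or.inr (Or.inr (Or.inl rfl)))),
    key _ ((T.mem _).2 (Or.inr (Or.inr (Or.inr (Or.inl rfl))))), hog, ← hu'o]
  obtain ⟨i, hi⟩ := (mem_powers_iff_mem_zpowers).2 he
  simp only at hi
  rw [← F.dih.pow_mod i] at hi
  have hi4 : i % (2 * 2) < 4 := Nat.mod_lt _ (by norm_num)
  generalize i % (2 * 2) = k at hi hi4
  have hk0 : 0 < k := Nat.pos_of_ne_zero fun e1 => hu'1 (by rw [← hi, e1, pow_zero])
  rw [← hi, T.val1 k hk0 hi4, T.val2 k hk0 hi4, T.val3 k hk0 hi4]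
  have hs2 : ¬ 2 ∣ orderOf s := hso
  rcases (show k = 1 ∨ k = 2 ∨ k = 3 by omega) with rfl | rfl | rfl
  · rw [pow_one σ, C.order_σ, if_pos (dvd_mul_right 4 _)]; norm_num
  · rw [C.hJ, if_neg fun h => hs2 (by
      obtain ⟨m, hm⟩ := h
      exact ⟨m, by omega⟩)]
    norm_num
  · rw [Nat.Coprime.orderOf_pow (by rw [C.order_σ]; norm_num), C.order_σ, if_pos (dvd_mul_right 4 _)]
    norm_num

/-- Both counts. -/
theorem Ctx.pair_counts (C : Ctx α S ψ Q a b c σ τ) :
    (p - 1) * ((oddC (σ ^ 2) τ).card * (oddC (σ ^ 2) (σ * τ)).card) ^ 2 =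
        (oddC (σ ^ 2) (σ ^ 2)).card * ((oddC (σ ^ 2) τ).card + (oddC (σ ^ 2) (σ * τ)).card) ^ 2 ∧
      (p - 1) * ((oddC (σ ^ 2) τ).card * (oddC (σ ^ 2) (σ * τ)).card) ≤
        4 * (oddC (σ ^ 2) (σ ^ 2)).card := by
  haveI := Fintype.ofFinite (Cfsg.IrrCharacter G)
  have H := C.hyp
  have F := C.frame
  have hp5 := H.p5
  obtain ⟨Md, c3, X, hMd, T, hc3, hX1⟩ := C.exists_table
  set o := (oddC (σ ^ 2) (σ ^ 2)).card with ho
  set v1 := (oddC (σ ^ 2) τ).card with hv1
  set v2 := (oddC (σ ^ 2) (σ * τ)).card with hv2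
  have hA1 : Nat.card (centralizer ({σ ^ 2, τ} : Set G)) = 4 * v1 := by
    simpa using C.card_centralizer_pair 0
  have hA2 : Nat.card (centralizer ({σ ^ 2, σ * τ} : Set G)) = 4 * v2 := by
    simpa using C.card_centralizer_pair 1
  have hcJ := C.card_centralizer_J
  have hform := C.mid.formula H C.three C.hJ
  rw [hcJ, ← ho] at hform
  have hne : ∀ w : G, 1 ≤ (oddC (σ ^ 2) w).card := fun w =>
    Finset.card_pos.2 ⟨1, mem_oddC.2 ⟨Commute.one_left _, Commute.one_left _, by simp⟩⟩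
  have ho1 : 1 ≤ o := hne _
  have hv11 : 1 ≤ v1 := hne _
  have hv21 : 1 ≤ v2 := hne _
  have hf : (S.χ : G → ℂ) 1 = 2 * (p : ℂ) - 1 := by
    have : ((deg S.χ + 1 : ℕ) : ℂ) = ((2 * p : ℕ) : ℂ) := by rw [C.mid.hf]
    push_cast at this
    rw [← deg_cast]; linear_combination this
  have hpm : ((p - 1 : ℕ) : ℂ) = (p : ℂ) - 1 := by rw [Nat.cast_sub (by omega)]; norm_num
  have h2pm : ((2 * p - 1 : ℕ) : ℂ) = 2 * (p : ℂ) - 1 := by rw [Nat.cast_sub (by omega)]; push_cast; ring
  have hpC : (p : ℂ) ≠ 0 := Nat.cast_ne_zero.2 (by omega)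
  have hfC : 2 * (p : ℂ) - 1 ≠ 0 := by rw [← h2pm]; exact Nat.cast_ne_zero.2 (by omega)
  have hoC : (o : ℂ) ≠ 0 := Nat.cast_ne_zero.2 (by omega)
  have hformC : (Nat.card G : ℂ) * (2 * ((p : ℂ) - 1)) = p * (8 * (o : ℂ)) ^ 2 * (2 * (p : ℂ) - 1) := by
    rw [← hpm, ← h2pm]; exact_mod_cast hform
  refine ⟨?_, ?_⟩
  · have hF := order_formula F.dih hMd root4_spec (H.isConj_involutions S C.hJ
      (by simpa using F.dih.orderOf_refl 0)) (H.isConj_involutions S C.hJ
      (by simpa using F.dih.orderOf_refl 1)) T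
    simp only at hF
    rw [hcJ, hA1, hA2, hf, hX1, ← ho] at hF
    have hL : (Nat.card G : ℂ) / ((8 * o : ℕ) : ℂ) * (-1 - ((1 : ℤ) : ℂ) / (2 * (p : ℂ) - 1) +
        4 * ((1 : ℤ) : ℂ) / (2 * (p : ℂ))) = -(8 * (o : ℂ) * ((p : ℂ) - 1)) := by
      push_cast
      field_simp
      linear_combination (1 - (p : ℂ)) * 2 * hformC
    rw [hL] at hF
    have hv1C : (v1 : ℂ) ≠ 0 := Nat.cast_ne_zero.2 (by omega)
    have hv2C : (v2 : ℂ) ≠ 0 := Nat.cast_ne_zero.2 (by omega)
    push_cast at hF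
    field_simp at hF
    have : (((p - 1) * (v1 * v2) ^ 2 : ℕ) : ℂ) = ((o * (v1 + v2) ^ 2 : ℕ) : ℂ) := by
      push_cast
      rw [hpm]
      linear_combination (-(1 : ℂ) / 16) * hF
    exact_mod_cast this
  · set K := invs G with hK
    have hgK : 8 * o * K.card = Nat.card G := by
      have h := H.sum_conj_eq S C.hJ (fun _ => 1)
      rw [hcJ, ← ho, Finset.sum_const, Finset.sum_const, nsmul_eq_mul, nsmul_eq_mul, mul_one, mul_one,
        Finset.card_univ, ← Nat.card_eq_fintype_card] at h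
      exact_mod_cast h.symm
    set N := (K ×ˢ K).filter fun w : G × G => 4 ∣ orderOf (w.1 * w.2) with hN
    have hKsum : ∀ χ : Cfsg.IrrCharacter G, ∑ x ∈ K, ∑ y ∈ K, (χ : G → ℂ) (x * y) =
        (K.card : ℂ) ^ 2 * (χ : G → ℂ) (σ ^ 2) ^ 2 / (χ : G → ℂ) 1 := by
      intro χ
      have e := CharTheory.DihedralEight.sum_mul_involutions χ.2 K (σ ^ 2)
        (fun u hu x => by rw [hK, mem_invs, BlockCharsA.RegularPart.orderOf_conj']; exact mem_invs.1 hu)
        (fun u hu => Brauer.classFun_conj (irr_isClassFunction χ)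
          (H.isConj_involutions S (mem_invs.1 hu) C.hJ))
      rw [eq_div_iff (irr_one_ne_zero χ.2)]
      linear_combination e
    have hsum : ∑ x ∈ K, ∑ y ∈ K, (1 + (S.χ : G → ℂ) (x * y) - (ψ : G → ℂ) (x * y) - (c3 : G → ℂ) (x * y)) =
        4 * (N.card : ℂ) := by
      simp only [C.value_G0 hMd T]
      rw [← Finset.sum_product', Finset.sum_ite, Finset.sum_const_zero, add_zero, Finset.sum_const,
        nsmul_eq_mul, mul_comm, hN]
    simp only [Finset.sum_add_distrib, Finset.sum_sub_distrib, hKsum, Finset.sum_const, nsmul_eq_mul,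
      mul_one, T.val1 2 two_pos (by norm_num), T.val2 2 two_pos (by norm_num),
      T.val3 2 two_pos (by norm_num), hf, hc3,
      show (ψ : G → ℂ) 1 = p by rw [← deg_cast, C.mid.hψ]] at hsum
    have hval : K.card ^ 2 * (2 * (p - 1) ^ 2) = 4 * N.card * (p * (2 * p - 1)) := by
      have : ((K.card ^ 2 * (2 * (p - 1) ^ 2) : ℕ) : ℂ) = ((4 * N.card * (p * (2 * p - 1)) : ℕ) : ℂ) := by
        push_cast
        rw [hpm, h2pm, ← hsum]
        field_simp
        push_cast
        ring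
      exact_mod_cast this
    set B := 2 * ((cls σ τ 0).card * (cls σ τ 1).card) with hB
    have hNle : N.card ≤ K.card * B := by
      rw [Finset.card_eq_sum_card_fiberwise (s := N) (t := K)
        (f := fun w : G × G => (w.1 * w.2) ^ (orderOf (w.1 * w.2) / 2)) (fun w hw => by
          simp only [hN, Finset.mem_coe, Finset.mem_filter] at hw
          simp only [Finset.mem_coe, hK, mem_invs]
          have hd : 2 ∣ orderOf (w.1 * w.2) := (show (2 : ℕ) ∣ 4 by norm_num).trans hw.2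
          have hpos := orderOf_pos (w.1 * w.2)
          rw [orderOf_pow_of_dvd (by omega) (Nat.div_dvd_of_dvd hd), Nat.div_div_self hd (by omega)])]
      refine (Finset.sum_le_card_nsmul _ _ B fun z hz => ?_).trans (le_of_eq (smul_eq_mul _ _))
      obtain ⟨e, he⟩ := isConj_iff.1 (H.isConj_involutions S (mem_invs.1 hz) C.hJ)
      refine le_trans ?_ C.fibre_le
      refine Finset.card_le_card_of_injOn (fun w => (e * w.1 * e⁻¹, e * w.2 * e⁻¹)) (fun w hw => ?_)
        fun w _ w' _ e' => Prod.ext (mul_left_cancel (mul_right_cancel (congrArg Prod.fst e')))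
          (mul_left_cancel (mul_right_cancel (congrArg Prod.snd e')))
      have hmul : e * w.1 * e⁻¹ * (e * w.2 * e⁻¹) = e * (w.1 * w.2) * e⁻¹ := by group
      simp only [hN, hK, Finset.mem_coe, Finset.mem_filter, Finset.mem_product, mem_invs, hmul,
        BlockCharsA.RegularPart.orderOf_conj', conj_pow] at hw ⊢
      exact ⟨hw.1.1, hw.1.2, by rw [hw.2, he]⟩
    have hn0 : (cls σ τ 0).card * v1 ≤ 2 * o := by simpa [hv1] using C.card_cls_mul 0
    have hn1 : (cls σ τ 1).card * v2 ≤ 2 * o := by simpa [hv2] using C.card_cls_mul 1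
    set n0 := (cls σ τ 0).card
    set n1 := (cls σ τ 1).card
    have hK0 : 0 < K.card := by
      have := Nat.card_pos (α := G)
      rw [← hgK] at this
      exact Nat.pos_of_mul_pos_left this
    have hgK2 : K.card * (2 * (p - 1)) = p * (8 * o) * (2 * p - 1) := by
      refine Nat.eq_of_mul_eq_mul_left (show 0 < 8 * o by omega) ?_
      rw [← mul_assoc, hgK, hform]
      ring
    have e1 : K.card * (p - 1) ^ 2 ≤ 4 * (n0 * n1) * (p * (2 * p - 1)) := by
      refine Nat.le_of_mul_le_mul_left ?_ (show 0 < 2 * K.card by omega)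
      calc 2 * K.card * (K.card * (p - 1) ^ 2) = K.card ^ 2 * (2 * (p - 1) ^ 2) := by ring
        _ = 4 * N.card * (p * (2 * p - 1)) := hval
        _ ≤ 4 * (K.card * B) * (p * (2 * p - 1)) := Nat.mul_le_mul_right _ (Nat.mul_le_mul_left _ hNle)
        _ = _ := by rw [hB]; ring
    have e2 : (p - 1) * o ≤ n0 * n1 := by
      refine Nat.le_of_mul_le_mul_left ?_ (show 0 < 8 * (p * (2 * p - 1)) by
        have : 0 < p * (2 * p - 1) := Nat.mul_pos (by omega) (by omega)
        omega)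
      calc 8 * (p * (2 * p - 1)) * ((p - 1) * o) = (p * (8 * o) * (2 * p - 1)) * (p - 1) := by ring
        _ = 2 * (K.card * (p - 1) ^ 2) := by rw [← hgK2]; ring
        _ ≤ 2 * (4 * (n0 * n1) * (p * (2 * p - 1))) := Nat.mul_le_mul_left _ e1
        _ = _ := by ring
    refine Nat.le_of_mul_le_mul_left ?_ (show 0 < o by omega)
    calc o * ((p - 1) * (v1 * v2)) = (p - 1) * o * (v1 * v2) := by ring
      _ ≤ n0 * n1 * (v1 * v2) := Nat.mul_le_mul_right _ e2
      _ = n0 * v1 * (n1 * v2) := by ring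
      _ ≤ 2 * o * (2 * o) := Nat.mul_le_mul hn0 hn1
      _ = _ := by ring

end Cfsg.Agent.DegreeThreeP
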