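import Cfsg.Agent.Lib.DegreeThreeP.Transitive

/-!
# Doubly transitive with involutions fixing one point: the three-point stabilizers
-/

set_option autoImplicit false
set_option linter.style.haveILetI false
set_option linter.unusedSectionVars false

namespace Cfsg.Agent.DegreeThreeP

open Subgroup
open scoped _root_.Classical

universe u v

variable {G : Type u} [Group G] [Fintype G] {α : Type v} [MulAction G α] [Fintype α] {p : ℕ}
  [Fact p.Prime] {P : Sylow p G}

/-- Doubly transitive, every involution fixing a single point. -/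
structure One (α : Type v) [MulAction G α] (P : Sylow p G) : Prop extends Two α P where
  one : ∀ z : G, orderOf z = 2 → fx α z = 1
  blk : Nonempty (Blk P)

omit [Fintype G] in
theorem two_le_fx {g : G} {a b : α} (hab : a ≠ b) (ha : g • a = a) (hb : g • b = b) : 2 ≤ fx α g := by
  rw [fx, Nat.card_eq_fintype_card]
  exact Fintype.one_lt_card_iff.2 ⟨⟨a, ha⟩, ⟨b, hb⟩, fun e => hab (congrArg Subtype.val e)⟩

theorem One.odd_stab2 (O : One α P) {a b : α} (hab : a ≠ b) : Odd (Nat.card (stab2 G a b)) := by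
  rw [← Nat.not_even_iff_odd, even_iff_two_dvd]
  intro h
  haveI := Fact.mk Nat.prime_two
  obtain ⟨⟨z, hzD⟩, hz⟩ := exists_prime_orderOf_dvd_card' (G := stab2 G a b) 2 h
  rw [orderOf_mk] at hz
  obtain ⟨hza, hzb⟩ := hzD
  have h1 := two_le_fx hab hza hzb
  rw [O.one z hz] at h1
  omega

/-- An involution swapping two given points, with its only fixed point. -/
theorem One.exists_swapper (O : One α P) {a b : α} (hab : a ≠ b) :
    ∃ (t : G) (e : α), orderOf t = 2 ∧ t • a = b ∧ t • b = a ∧ t • e = e ∧ e ≠ a ∧ e ≠ b ∧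
      ∀ y, t • y = y → y = e := by
  obtain ⟨g, hga, hgb⟩ := O.toTwo.exists_swap hab
  obtain ⟨k, m, hm, hkm⟩ := Nat.exists_eq_two_pow_mul_odd (orderOf_pos g).ne'
  set u := g ^ m with hu
  have hsq : ∀ j, g ^ (2 * j) ∈ stab2 G a b := fun j => by
    rw [pow_mul]
    refine pow_mem ?_ j
    constructor <;> show g ^ 2 • _ = _ <;> simp [pow_two, mul_smul, hga, hgb]
  obtain ⟨i, hi⟩ := hm
  have hu' : u = g * g ^ (2 * i) := by rw [hu, hi, ← pow_succ']
  have hua : u • a = b := by rw [hu', mul_smul, (hsq i).1, hga]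
  have hub : u • b = a := by rw [hu', mul_smul, (hsq i).2, hgb]
  have huo : orderOf u = 2 ^ k := by
    rw [hu, orderOf_pow' g (by omega), hkm, Nat.gcd_mul_left_left, Nat.mul_div_cancel _ (by omega)]
  have hk : k = 1 := by
    rcases k with _ | _ | k
    · exfalso
      rw [pow_zero, orderOf_eq_one_iff] at huo
      rw [huo, one_smul] at hua
      exact hab hua
    · rfl
    · exfalso
      have hw : orderOf (u ^ (2 ^ (k + 1))) = 2 := by
        rw [orderOf_pow' u (by positivity), huo, pow_succ 2 (k + 1), Nat.gcd_mul_right_left,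
          Nat.mul_div_cancel_left _ (by positivity)]
      have hmem : u ^ (2 ^ (k + 1)) ∈ stab2 G a b := by
        rw [hu, ← pow_mul, pow_succ' 2 k, ← mul_assoc, mul_comm m 2, mul_assoc]
        exact hsq _
      have h1 := two_le_fx hab hmem.1 hmem.2
      rw [O.one _ hw] at h1
      omega
  rw [hk, pow_one] at huo
  have h1 := O.one u huo
  rw [fx, Nat.card_eq_one_iff_unique] at h1
  obtain ⟨hs, ⟨⟨e, he⟩⟩⟩ := h1
  refine ⟨u, e, huo, hua, hub, he, ?_, ?_, fun y hy => congrArg Subtype.val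
    (hs.elim (⟨y, hy⟩ : MulAction.fixedBy α u) ⟨e, he⟩)⟩
  · rintro rfl
    exact hab ((he : u • e = e).symm.trans hua)
  · rintro rfl
    exact hab (hub.symm.trans (he : u • e = e))

omit [Fintype G] [Fintype α] in
theorem zero_le_pair (x : ℤ) : 0 ≤ (x - 1) * (x - 2) := by
  rcases le_or_gt x 1 with h | h
  · exact mul_nonneg_of_nonpos_of_nonpos (by omega) (by omega)
  · exact mul_nonneg (by omega) (by omega)

/-- The stabilizer of two points is transitive on the rest. -/
theorem One.three_transitive (O : One α P) {a b : α} (hab : a ≠ b) :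
    norb (stab2 G a b) α = 3 := by
  obtain ⟨S⟩ := O.blk
  have H := O.hyp
  have hp5 := H.p5
  set D := stab2 G a b with hD
  set n := norb D α with hn
  have hfix : ∀ g ∈ D, ∀ x ∈ ({a, b} : Finset α), g • x = x := fun g hg x hx => by
    simp only [Finset.mem_insert, Finset.mem_singleton] at hx
    rcases hx with rfl | rfl
    · exact hg.1
    · exact hg.2
  have hpar := orbit_parity (α := α) D (O.odd_stab2 hab)
  rw [H.card_fintype, ← hn] at hpar
  obtain ⟨q, hq⟩ := H.odd
  have hn2 : 2 ≤ n := by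
    haveI : Fintype (MulAction.orbitRel.Quotient D α) := Fintype.ofFinite _
    rw [hn, norb, Nat.card_eq_fintype_card]
    exact Fintype.one_lt_card_iff.2 ⟨Quotient.mk'' a, Quotient.mk'' b, fun e => hab
      (fixed_orbit_eq (fun g hg => hfix g hg b (by simp)) e)⟩
  set π : G → ℤ := fun g => (fx α g : ℤ) with hπ
  have hcard := O.toTwo.card_stab2 hab
  have h1 : ∑ g : G, π g = (Nat.card G : ℤ) := by
    have := H.sum_all a (fun _ => 1) (fun _ _ => rfl)
    simp only [mul_one, Finset.sum_const, nsmul_eq_mul, card_elts] at this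
    rw [this, ← H.stab_mul a]; push_cast; rfl
  have h2 : ∑ g : G, π g * (π g - 1) = (Nat.card G : ℤ) := by
    have := O.toTwo.sum_pairs hab (fun _ => 1) (fun _ _ => rfl)
    simp only [mul_one, Finset.sum_const, nsmul_eq_mul, card_elts] at this
    rw [this, hcard]
  have h3 : ∑ g : G, π g * (π g - 1) * (π g - 2) = ((n : ℤ) - 2) * Nat.card G := by
    rw [O.toTwo.sum_pairs hab (fun g => π g - 2) (fun g k => by simp only [hπ, fx_class]),
      Finset.sum_sub_distrib, Finset.sum_const, nsmul_eq_mul, card_elts, ← Nat.cast_sum,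
      sum_fx_subgroup, ← hn, hcard]
    push_cast
    ring
  have h4 : ∑ g : G, (π g - 1) * (π g - 2) = (Nat.card G : ℤ) := by
    rw [Finset.sum_congr rfl fun g _ => show (π g - 1) * (π g - 2) = π g * (π g - 1) - 2 * π g + 2 by ring,
      Finset.sum_add_distrib, Finset.sum_sub_distrib, ← Finset.mul_sum, h1, h2, Finset.sum_const,
      Finset.card_univ, ← Nat.card_eq_fintype_card, nsmul_eq_mul]
    ring
  have h5 : ∑ g : G, (π g - 1) * (π g - 2) * (3 * (p : ℤ) - π g) =
      (3 * (p : ℤ) - ((n : ℤ) - 2)) * Nat.card G := by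
    rw [Finset.sum_congr rfl fun g _ => show (π g - 1) * (π g - 2) * (3 * (p : ℤ) - π g) =
      3 * (p : ℤ) * ((π g - 1) * (π g - 2)) - π g * (π g - 1) * (π g - 2) by ring,
      Finset.sum_sub_distrib, ← Finset.mul_sum, h3, h4]
    ring
  obtain ⟨r, hr, hsplit⟩ := H.sum_split_singular S
    (fun g => (π g - 1) * (π g - 2) * (3 * (p : ℤ) - π g)) (c := 2 * (3 * (p : ℤ))) (fun g hg => by
      simp only [hπ, H.fx_singular hg]; push_cast; ring)
  rw [h5, show π 1 = 3 * (p : ℤ) by simp only [hπ, H.fx_one]; push_cast; rfl, sub_self, mul_zero,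
    zero_add] at hsplit
  set N := Finset.univ.filter fun g : G => ¬ p ∣ orderOf g ∧ g ≠ 1 with hN
  have hterm : ∀ g ∈ N, 0 ≤ (π g - 1) * (π g - 2) * (3 * (p : ℤ) - π g) := fun g hg => by
    refine mul_nonneg (zero_le_pair _) ?_
    have := H.fx_lt (Finset.mem_filter.1 hg).2.2
    simp only [hπ]
    omega
  have hpos := Finset.sum_nonneg hterm
  have hg : (Nat.card G : ℤ) = 2 * p * (1 + r * p) := by rw [hr]; push_cast; ring
  have hsum : ∑ g ∈ N, (π g - 1) * (π g - 2) * (3 * (p : ℤ) - π g) =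
      (5 - (n : ℤ)) * Nat.card G := by
    have hcast : (((1 + r * p) * (p - 1) : ℕ) : ℤ) = (1 + (r : ℤ) * p) * ((p : ℤ) - 1) := by
      rw [Nat.cast_mul, Nat.cast_sub (by omega)]; push_cast; ring
    rw [hcast, hg] at hsplit
    rw [hg]
    linear_combination -hsplit
  have hgpos : 0 < (Nat.card G : ℤ) := by exact_mod_cast Nat.card_pos
  have hn5 : n ≤ 5 := by
    by_contra hlt
    rw [hsum] at hpos
    have : (5 - (n : ℤ)) * Nat.card G < 0 := mul_neg_of_neg_of_pos (by omega) hgpos
    omega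
  by_contra hne
  rcases em (n = 5) with h5' | h5'
  · rw [h5'] at hsum
    norm_num at hsum
    have hz := (Finset.sum_eq_zero_iff_of_nonneg hterm).1 hsum
    have hzero : ∀ g ∈ N, π g * (π g - 1) * (π g - 2) = 0 := fun g hg => by
      rcases mul_eq_zero.1 (hz g hg) with e | e
      · rw [mul_assoc, e, mul_zero]
      · have := H.fx_lt (Finset.mem_filter.1 hg).2.2
        simp only [hπ] at e
        omega
    obtain ⟨r', -, hsplit'⟩ := H.sum_split_singular S (fun g => π g * (π g - 1) * (π g - 2)) (c := 0)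
      (fun g hg => by simp only [hπ, H.fx_singular hg]; simp)
    rw [Finset.sum_eq_zero hzero, h3, show π 1 = 3 * (p : ℤ) by simp only [hπ, H.fx_one]; push_cast; rfl,
      h5', hcard, mul_zero, add_zero, add_zero] at hsplit'
    push_cast at hsplit'
    have h6 : (3 * (p : ℤ)) * (3 * p - 1) ≠ 0 := mul_ne_zero (by omega) (by omega)
    have h7 : 3 * (Nat.card D : ℤ) = 3 * (p : ℤ) - 2 := mul_left_cancel₀ h6 (by linear_combination hsplit')
    omega
  · omega

theorem One.exists_mem_stab2 (O : One α P) {a b x y : α} (hab : a ≠ b) (hxa : x ≠ a) (hxb : x ≠ b)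
    (hya : y ≠ a) (hyb : y ≠ b) : ∃ g ∈ stab2 G a b, g • x = y :=
  exists_of_norb (stab2 G a b) (T := {a, b}) (fun g hg z hz => by
    simp only [Finset.mem_insert, Finset.mem_singleton] at hz
    rcases hz with rfl | rfl
    · exact hg.1
    · exact hg.2) (by rw [O.three_transitive hab, Finset.card_pair hab])
    (by simp [hxa, hxb]) (by simp [hya, hyb])

theorem One.step3 (O : One α P) {a b e : α} (hab : a ≠ b) (hea : e ≠ a) (heb : e ≠ b) (F : G → ℤ)
    (hF : ∀ g k : G, F (k * g * k⁻¹) = F g) :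
    ∑ g ∈ elts (stab2 G a b), ((fx α g : ℤ) - 2) * F g =
      (3 * (p : ℤ) - 2) * ∑ g ∈ elts (stab3 G a b e), F g := by
  have h := sum_step (stab2 G a b) (T := {a, b}) (fun g hg z hz => by
      simp only [Finset.mem_insert, Finset.mem_singleton] at hz
      rcases hz with rfl | rfl
      · exact hg.1
      · exact hg.2) (x₀ := e) (by simp [hea, heb])
    (fun y hy => by
      simp only [Finset.mem_insert, Finset.mem_singleton, not_or] at hy
      exact O.exists_mem_stab2 hab hea heb hy.1 hy.2) F (fun g _ k _ => hF g k)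
  rw [O.hyp.card_fintype, Finset.card_pair hab] at h
  push_cast at h
  exact h

/-- The order of the group by the stabilizer of three points. -/
theorem One.card_eq (O : One α P) {a b e : α} (hab : a ≠ b) (hea : e ≠ a) (heb : e ≠ b) :
    (Nat.card (stab2 G a b) : ℤ) = (3 * (p : ℤ) - 2) * Nat.card (stab3 G a b e) ∧
      (Nat.card G : ℤ) = 3 * p * (3 * (p : ℤ) - 1) * (3 * (p : ℤ) - 2) * Nat.card (stab3 G a b e) := by
  have h := O.step3 hab hea heb (fun _ => 1) (fun _ _ => rfl)
  simp only [mul_one, Finset.sum_sub_distrib, Finset.sum_const, nsmul_eq_mul, card_elts] at h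
  rw [← Nat.cast_sum, sum_fx_subgroup, O.three_transitive hab] at h
  push_cast at h
  have h1 : (Nat.card (stab2 G a b) : ℤ) = (3 * (p : ℤ) - 2) * Nat.card (stab3 G a b e) := by
    linear_combination h
  refine ⟨h1, ?_⟩
  rw [O.toTwo.card_stab2 hab, h1]
  ring

theorem One.card_stab3_eq (O : One α P) {a b e a' b' e' : α} (hab : a ≠ b) (hea : e ≠ a) (heb : e ≠ b)
    (hab' : a' ≠ b') (hea' : e' ≠ a') (heb' : e' ≠ b') :
    Nat.card (stab3 G a' b' e') = Nat.card (stab3 G a b e) := by
  have h := (O.card_eq hab' hea' heb').2.symm.trans (O.card_eq hab hea heb).2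
  have hp5 := O.hyp.p5
  have h6 : 3 * (p : ℤ) * (3 * p - 1) * (3 * p - 2) ≠ 0 :=
    mul_ne_zero (mul_ne_zero (by omega) (by omega)) (by omega)
  exact_mod_cast mul_left_cancel₀ h6 h

/-- The number of Sylow subgroups gives `3 ρ ≡ 1`, and `ρ` is odd. -/
theorem One.rho_bound (O : One α P) {a b e : α} (hab : a ≠ b) (hea : e ≠ a) (heb : e ≠ b) :
    Odd (Nat.card (stab3 G a b e)) ∧ 2 * p + 1 ≤ 3 * Nat.card (stab3 G a b e) := by
  have hp5 := O.hyp.p5
  have hodd : Odd (Nat.card (stab3 G a b e)) :=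
    (O.odd_stab2 hab).of_dvd_nat (card_dvd_of_le inf_le_left)
  refine ⟨hodd, ?_⟩
  set ρ := Nat.card (stab3 G a b e) with hρ
  obtain ⟨r, hr⟩ := O.hyp.card_sylow_mul
  have h := (O.card_eq hab hea heb).2
  rw [← hρ, hr] at h
  push_cast at h
  have h' : 2 * (1 + (r : ℤ) * p) = 3 * (3 * (p : ℤ) - 1) * (3 * (p : ℤ) - 2) * ρ := by
    refine mul_left_cancel₀ (show (p : ℤ) ≠ 0 by omega) ?_
    linear_combination h
  obtain ⟨j, hj⟩ : (p : ℤ) ∣ 2 * (3 * (ρ : ℤ) - 1) :=
    ⟨2 * r - 27 * p * ρ + 27 * ρ, by linear_combination -h'⟩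
  have hρpos : 0 < ρ := Nat.card_pos
  have hj0 : 0 < j := by
    by_contra hle
    have : (p : ℤ) * j ≤ 0 := mul_nonpos_of_nonneg_of_nonpos (by omega) (by omega)
    omega
  obtain ⟨q, hq⟩ := O.hyp.odd
  obtain ⟨i, hi⟩ := hodd
  have hjeven : 4 ∣ (p : ℤ) * j := ⟨3 * i + 1, by rw [← hj, hi]; push_cast; ring⟩
  have hcop : IsCoprime (4 : ℤ) (p : ℤ) := by
    rw [Int.isCoprime_iff_nat_coprime]
    show Nat.Coprime (2 ^ 2) p
    exact Nat.Coprime.pow_left 2 O.hyp.odd.coprime_two_left
  obtain ⟨j', rfl⟩ := hcop.dvd_of_dvd_mul_left hjeven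
  have h1 : (p : ℤ) * 4 ≤ p * (4 * j') := mul_le_mul_of_nonneg_left (by omega) (by omega)
  omega

/-- Moments over the regular elements: an element with many fixed points and many orbits. -/
theorem One.moments (O : One α P) {a b e : α} (hab : a ≠ b) (hea : e ≠ a) (heb : e ≠ b) :
    (∃ y : G, y ≠ 1 ∧ p - 1 ≤ fx α y) ∧ p + 1 ≤ norb (stab3 G a b e) α := by
  obtain ⟨S⟩ := O.blk
  have H := O.hyp
  have hp5 := H.p5
  set R := stab3 G a b e with hR
  set ρ : ℤ := (Nat.card R : ℤ) with hρ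
  set n : ℤ := (norb R α : ℤ) with hn
  obtain ⟨hρodd, hρb⟩ := O.rho_bound hab hea heb
  have hρ1 : 2 * (p : ℤ) + 1 ≤ 3 * ρ := by rw [hρ]; exact_mod_cast hρb
  obtain ⟨hD, hcard⟩ := O.card_eq hab hea heb
  rw [← hρ] at hD hcard
  set π : G → ℤ := fun g => (fx α g : ℤ) with hπ
  have hπ1 : π 1 = 3 * (p : ℤ) := by simp only [hπ, H.fx_one]; push_cast; rfl
  set N := Finset.univ.filter fun g : G => ¬ p ∣ orderOf g ∧ g ≠ 1 with hN
  set K : ℤ := (3 * (p : ℤ) - 1) * (3 * (p : ℤ) - 2) with hK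
  have hKpos : 0 < K := mul_pos (by omega) (by omega)
  have s1 : ∑ g : G, π g = (Nat.card G : ℤ) := by
    have := H.sum_all a (fun _ => 1) (fun _ _ => rfl)
    simp only [mul_one, Finset.sum_const, nsmul_eq_mul, card_elts] at this
    rw [this, ← H.stab_mul a]; push_cast; rfl
  have s2 : ∑ g : G, π g * (π g - 1) = (Nat.card G : ℤ) := by
    have := O.toTwo.sum_pairs hab (fun _ => 1) (fun _ _ => rfl)
    simp only [mul_one, Finset.sum_const, nsmul_eq_mul, card_elts] at this
    rw [this, O.toTwo.card_stab2 hab]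
  have s3 : ∑ g : G, π g * (π g - 1) * (π g - 2) = (Nat.card G : ℤ) := by
    rw [O.toTwo.sum_pairs hab (fun g => π g - 2) (fun g k => by simp only [hπ, fx_class]),
      Finset.sum_sub_distrib, Finset.sum_const, nsmul_eq_mul, card_elts, ← Nat.cast_sum,
      sum_fx_subgroup, O.three_transitive hab, O.toTwo.card_stab2 hab]
    push_cast
    ring
  have s4 : ∑ g : G, π g * (π g - 1) * (π g - 2) * (π g - 3) = (n - 3) * Nat.card G := by
    rw [Finset.sum_congr rfl fun g _ => mul_assoc (π g * (π g - 1)) (π g - 2) (π g - 3),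
      O.toTwo.sum_pairs hab (fun g => (π g - 2) * (π g - 3)) (fun g k => by simp only [hπ, fx_class]),
      O.step3 hab hea heb (fun g => π g - 3) (fun g k => by simp only [hπ, fx_class]),
      Finset.sum_sub_distrib, Finset.sum_const, nsmul_eq_mul, card_elts, ← Nat.cast_sum,
      sum_fx_subgroup, hcard]
    push_cast
    ring
  have sA : ∑ g : G, (π g - 1) * (π g - 2) = (Nat.card G : ℤ) := by
    rw [Finset.sum_congr rfl fun g _ => show (π g - 1) * (π g - 2) = π g * (π g - 1) - 2 * π g + 2 by ring,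
      Finset.sum_add_distrib, Finset.sum_sub_distrib, ← Finset.mul_sum, s1, s2, Finset.sum_const,
      Finset.card_univ, ← Nat.card_eq_fintype_card, nsmul_eq_mul]
    ring
  have hA : ∑ g ∈ N, (π g - 1) * (π g - 2) = K * (3 * ρ - 1) := by
    obtain ⟨r, hr, hs⟩ := H.sum_split_singular S (fun g => (π g - 1) * (π g - 2)) (c := 2)
      (fun g hg => by simp only [hπ, H.fx_singular hg]; simp)
    have hg : (Nat.card G : ℤ) = 2 * p * (1 + r * p) := by rw [hr]; push_cast; ring
    have hcast : (((1 + r * p) * (p - 1) : ℕ) : ℤ) = (1 + (r : ℤ) * p) * ((p : ℤ) - 1) := by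
      rw [Nat.cast_mul, Nat.cast_sub (by omega)]; push_cast; ring
    rw [sA, hπ1, hcast, hg] at hs
    refine mul_left_cancel₀ (show (p : ℤ) ≠ 0 by omega) ?_
    rw [hK]
    rw [hcard] at hg
    linear_combination -(p : ℤ) * hs - hg
  have hB : ∑ g ∈ N, π g * (π g - 1) * (π g - 2) = 3 * p * K * (ρ - 1) := by
    obtain ⟨r, -, hs⟩ := H.sum_split_singular S (fun g => π g * (π g - 1) * (π g - 2)) (c := 0)
      (fun g hg => by simp only [hπ, H.fx_singular hg]; simp)
    rw [s3, hπ1, hcard, mul_zero, add_zero] at hs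
    rw [hK]
    linear_combination -hs
  have hC : ∑ g ∈ N, π g * (π g - 1) * (π g - 2) * (π g - 3) =
      3 * p * K * ((n - 3) * ρ - (3 * (p : ℤ) - 3)) := by
    obtain ⟨r, -, hs⟩ := H.sum_split_singular S (fun g => π g * (π g - 1) * (π g - 2) * (π g - 3))
      (c := 0) (fun g hg => by simp only [hπ, H.fx_singular hg]; simp)
    rw [s4, hπ1, hcard, mul_zero, add_zero] at hs
    rw [hK]
    linear_combination -hs
  refine ⟨?_, ?_⟩
  · by_contra hno
    push Not at hno
    have h : ∑ g ∈ N, π g * (π g - 1) * (π g - 2) ≤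
        ∑ g ∈ N, ((p : ℤ) - 2) * ((π g - 1) * (π g - 2)) := Finset.sum_le_sum fun g hg => by
      have h1 := hno g (Finset.mem_filter.1 hg).2.2
      rw [mul_assoc]
      refine mul_le_mul_of_nonneg_right ?_ (zero_le_pair _)
      simp only [hπ]
      omega
    rw [← Finset.mul_sum, hA, hB] at h
    have h' : 3 * (p : ℤ) * (ρ - 1) ≤ ((p : ℤ) - 2) * (3 * ρ - 1) :=
      le_of_mul_le_mul_left (by linarith) hKpos
    linarith
  · have h : 0 ≤ ∑ g ∈ N, (π g * (π g - 1) * (π g - 2) * (π g - 3) +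
        (3 - 2 * (p : ℤ)) * (π g * (π g - 1) * (π g - 2)) + (p : ℤ) ^ 2 * ((π g - 1) * (π g - 2))) :=
      Finset.sum_nonneg fun g _ => by
        rw [show π g * (π g - 1) * (π g - 2) * (π g - 3) +
          (3 - 2 * (p : ℤ)) * (π g * (π g - 1) * (π g - 2)) + (p : ℤ) ^ 2 * ((π g - 1) * (π g - 2)) =
          (π g - 1) * (π g - 2) * (π g - p) ^ 2 by ring]
        exact mul_nonneg (zero_le_pair _) (sq_nonneg _)
    rw [Finset.sum_add_distrib, Finset.sum_add_distrib, ← Finset.mul_sum, ← Finset.mul_sum,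
      hA, hB, hC] at h
    have h' : 0 ≤ (p : ℤ) * K * (3 * ρ * n - 3 * p * ρ - 4 * p) := by linarith
    have h'' : 0 ≤ 3 * ρ * n - 3 * p * ρ - 4 * p :=
      nonneg_of_mul_nonneg_right h' (mul_pos (by omega) hKpos)
    by_contra hlt
    push Not at hlt
    have hnp : n ≤ p := by rw [hn]; omega
    have : 3 * ρ * n ≤ 3 * ρ * p := mul_le_mul_of_nonneg_left hnp (by omega)
    linarith

end Cfsg.Agent.DegreeThreeP
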