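import Mathlib.GroupTheory.GroupAction.Primitive
import Mathlib.GroupTheory.Perm.Cycle.Type
import Cfsg.Agent.Lib.PrimeBlock.PrimeDegree.Setup
import Cfsg.Agent.Lib.PrimeBlock.Tools
import Cfsg.Agent.Lib.PrimeBlock.Brauer.Common
import Cfsg.Agent.Lib.SmallSimple.PSqQR

/-!
# Degree `3 p` and a Sylow normalizer of order `2 p`: first properties
-/

set_option autoImplicit false
set_option linter.style.haveILetI false
set_option linter.unusedSectionVars false

namespace Cfsg.Agent.DegreeThreeP

open Cfsg.Agent.SmallSimple Subgroup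

universe u v

/-- The number of fixed points. -/
noncomputable def fx {G : Type u} [Group G] (α : Type v) [MulAction G α] (g : G) : ℕ :=
  Nat.card (MulAction.fixedBy α g)

variable {G : Type u} [Group G] [Finite G] {α : Type v} [MulAction G α] [Finite α] {p : ℕ}
  [Fact p.Prime]

/-- A simple group of degree `3 p` with a Sylow normalizer of order `2 p`. -/
structure Hyp (α : Type v) [MulAction G α] (P : Sylow p G) : Prop where
  p3 : 3 < p
  hα : Nat.card α = 3 * p
  simple : IsSimpleGroup G
  not_comm : ¬ IsMulCommutative G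
  faith : FaithfulSMul G α
  pretrans : MulAction.IsPretransitive G α
  hN : Nat.card (normalizer ((P : Subgroup G) : Set G)) = 2 * p

variable {P : Sylow p G}

theorem Hyp.nonempty (H : Hyp α P) : Nonempty α :=
  (Nat.card_pos_iff.1 (by rw [H.hα]; have := H.p3; omega)).1

theorem Hyp.p5 (H : Hyp α P) : 5 ≤ p := by
  have := H.p3
  rcases (show p = 4 ∨ 5 ≤ p by omega) with rfl | h
  · exact absurd (Fact.out : (4 : ℕ).Prime) (by norm_num)
  · exact h

theorem Hyp.odd (H : Hyp α P) : Odd p :=
  (Fact.out : p.Prime).odd_of_ne_two (by have := H.p3; omega)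

theorem Hyp.stab_mul (H : Hyp α P) (a : α) :
    3 * p * Nat.card (MulAction.stabilizer G a) = Nat.card G := by
  haveI := H.pretrans
  rw [← H.hα, ← MulAction.index_stabilizer_of_transitive G a]
  exact index_mul_card _

theorem Hyp.card_P (H : Hyp α P) : Nat.card (P : Subgroup G) = p := by
  have hp : p.Prime := Fact.out
  obtain ⟨a⟩ := H.nonempty
  have hpn : p ∣ Nat.card G := Dvd.intro (3 * Nat.card (MulAction.stabilizer G a)) (by
    rw [← H.stab_mul a]; ring)
  have hd : Nat.card (P : Subgroup G) ∣ 2 * p := H.hN ▸ card_dvd_of_le le_normalizer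
  rw [P.card_eq_multiplicity] at hd ⊢
  have h1 : 0 < (Nat.card G).factorization p := hp.factorization_pos_of_dvd Nat.card_pos.ne' hpn
  rcases (show (Nat.card G).factorization p = 1 ∨ 2 ≤ (Nat.card G).factorization p by omega) with
    e | e
  · rw [e, pow_one]
  · exfalso
    have h2 : p * p ∣ 2 * p := (by rw [← pow_two]; exact pow_dvd_pow p e : p * p ∣ _).trans hd
    have := Nat.le_of_dvd two_pos (Nat.dvd_of_mul_dvd_mul_right hp.pos h2)
    have := H.p3
    omega

theorem Hyp.not_sq_dvd (H : Hyp α P) : ¬ p * p ∣ Nat.card G := by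
  intro h2
  have hp : p.Prime := Fact.out
  rw [← pow_two, hp.pow_dvd_iff_le_factorization Nat.card_pos.ne'] at h2
  have h1 := H.card_P
  rw [P.card_eq_multiplicity] at h1
  have := Nat.pow_right_injective hp.two_le (h1.trans (pow_one p).symm)
  omega

theorem Hyp.not_dvd_stab (H : Hyp α P) (a : α) : ¬ p ∣ Nat.card (MulAction.stabilizer G a) := by
  intro ⟨c, hc⟩
  exact H.not_sq_dvd ⟨3 * c, by rw [← H.stab_mul a, hc]; ring⟩

/-- Elements whose order is divisible by `p` fix no point. -/
theorem Hyp.free (H : Hyp α P) {g : G} (hg : p ∣ orderOf g) (a : α) : g • a ≠ a := fun h =>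
  H.not_dvd_stab a (hg.trans (orderOf_mk g (show g ∈ MulAction.stabilizer G a from h) ▸
    orderOf_dvd_natCard (⟨g, h⟩ : MulAction.stabilizer G a)))

theorem Hyp.fx_singular (H : Hyp α P) {g : G} (hg : p ∣ orderOf g) : fx α g = 0 :=
  Nat.card_eq_zero.2 (Or.inl ⟨fun c => H.free hg c.1 c.2⟩)

theorem Hyp.fx_one (H : Hyp α P) : fx α (1 : G) = 3 * p := by
  rw [fx, show MulAction.fixedBy α (1 : G) = Set.univ from
      Set.eq_univ_of_forall fun a => by simp, Nat.card_univ, H.hα]

/-- Only the identity fixes everything. -/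
theorem Hyp.fx_lt (H : Hyp α P) {g : G} (hg : g ≠ 1) : fx α g < 3 * p := by
  haveI := H.faith
  rw [← H.hα, ← Nat.card_univ, fx, Nat.card_coe_set_eq, Nat.card_coe_set_eq]
  refine Set.ncard_lt_ncard ((Set.subset_univ _).ssubset_of_ne fun e => hg
    (FaithfulSMul.eq_of_smul_eq_smul (α := α) fun a => ?_)) Set.finite_univ
  have ha : a ∈ MulAction.fixedBy α g := e ▸ Set.mem_univ a
  rw [one_smul]
  exact ha

theorem Hyp.card_centralizer (H : Hyp α P) :
    Nat.card (centralizer ((P : Subgroup G) : Set G)) = p := by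
  have hp : p.Prime := Fact.out
  haveI := H.simple
  obtain ⟨e, -, he1, hNe, hCd⟩ := Centralize.centralizer_data H.not_comm P H.card_P
  obtain ⟨c, hc⟩ := hCd
  rw [H.hN, hc, mul_assoc, mul_comm 2 p] at hNe
  have h2 : c * e = 2 := (Nat.eq_of_mul_eq_mul_left hp.pos hNe).symm
  rcases (Nat.dvd_prime Nat.prime_two).1 (h2 ▸ dvd_mul_right c e) with rfl | rfl
  · rw [hc, mul_one]
  · omega

/-- The number of Sylow subgroups gives `|G| / (2 p) ≡ 1`. -/
theorem Hyp.card_sylow_mul (H : Hyp α P) :
    ∃ r : ℕ, Nat.card G = 2 * p * (1 + r * p) := by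
  obtain ⟨r, hr⟩ : ∃ r, Nat.card (Sylow p G) = 1 + r * p := by
    obtain ⟨c, hc⟩ := (Nat.modEq_iff_dvd' Nat.card_pos).1 (card_sylow_modEq_one p G).symm
    exact ⟨c, by have := Nat.card_pos (α := Sylow p G); rw [mul_comm c p]; omega⟩
  refine ⟨r, ?_⟩
  rw [← Basic.card_normalizer_mul P, H.hN, hr]

theorem Hyp.two_dvd (H : Hyp α P) : 2 ∣ Nat.card G := by
  obtain ⟨r, hr⟩ := H.card_sylow_mul
  exact ⟨p * (1 + r * p), by rw [hr]; ring⟩

theorem Hyp.four_dvd (H : Hyp α P) : 4 ∣ Nat.card G := by
  haveI := H.simple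
  haveI := Fact.mk Nat.prime_two
  obtain ⟨Q⟩ : Nonempty (Sylow 2 G) := inferInstance
  have hnc := SmallSimple.PSqQR.minFac_noncyclic H.not_comm Nat.prime_two H.two_dvd
    (fun s hs _ => hs.two_le) Q
  obtain ⟨j, hj⟩ := IsPGroup.iff_card.1 Q.isPGroup'
  rcases j with _ | _ | j
  · exact absurd (by
      haveI : Subsingleton (Q : Subgroup G) := (Nat.card_eq_one_iff_unique.1 (by rw [hj, pow_zero])).1
      exact isCyclic_of_subsingleton) hnc
  · exact absurd (isCyclic_of_prime_card (p := 2) (by rw [hj, pow_one])) hnc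
  · exact (Dvd.intro (2 ^ j) (by rw [hj, pow_succ, pow_succ]; ring)).trans
      (card_subgroup_dvd_card (Q : Subgroup G))

theorem Hyp.exists_involution (H : Hyp α P) : ∃ z : G, orderOf z = 2 :=
  haveI := Fact.mk Nat.prime_two
  exists_prime_orderOf_dvd_card' 2 H.two_dvd

/-- All elements act as even permutations. -/
theorem Hyp.sign_eq_one (H : Hyp α P) [Fintype α] [DecidableEq α] (g : G) :
    Equiv.Perm.sign (MulAction.toPermHom G α g) = 1 := by
  haveI := H.simple
  have hn := (Equiv.Perm.sign.comp (MulAction.toPermHom G α)).normal_ker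
  rcases hn.eq_bot_or_eq_top with h | h
  · exfalso
    have h1 := Nat.card_le_card_of_injective _ ((MonoidHom.ker_eq_bot_iff _).1 h)
    rw [Nat.card_eq_fintype_card (α := ℤˣ), Fintype.card_units_int] at h1
    obtain ⟨c, hc⟩ := H.four_dvd
    have := Nat.card_pos (α := G)
    omega
  · exact (h ▸ Subgroup.mem_top g : g ∈ (Equiv.Perm.sign.comp (MulAction.toPermHom G α)).ker)

/-- An element inverting an element of order `p` fixes at most three points. -/
theorem Hyp.fx_le_three (H : Hyp α P) {x u : G} (hx : orderOf x = p)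
    (hu : u * x * u⁻¹ = x⁻¹) : fx α u ≤ 3 := by
  have hp : p.Prime := Fact.out
  have hux : ∀ i : ℕ, u * x ^ i = (x ^ i)⁻¹ * u := fun i => by
    rw [← inv_pow, ← hu, conj_pow]; group
  have key : Function.Injective
      fun w : MulAction.fixedBy α u × Fin p => x ^ (w.2 : ℕ) • (w.1 : α) := by
    rintro ⟨⟨a, ha⟩, i⟩ ⟨⟨b, hb⟩, k⟩ h
    simp only at h
    rw [MulAction.mem_fixedBy] at ha hb
    have h2 : (x ^ (i : ℕ))⁻¹ • a = (x ^ (k : ℕ))⁻¹ • b := by
      have := congrArg (u • ·) h
      simp only [← mul_smul, hux] at this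
      rwa [mul_smul, mul_smul, ha, hb] at this
    set g := x ^ (i : ℕ) with hg
    set h' := x ^ (k : ℕ) with hh
    have hc : Commute g h' := (Commute.refl x).pow_pow _ _
    have ha1 : a = (g⁻¹ * h') • b := by rw [mul_smul, ← h, inv_smul_smul]
    have ha2 : a = (g * h'⁻¹) • b := by rw [mul_smul, ← h2, smul_inv_smul]
    have hfix : ((g⁻¹ * h') * (g⁻¹ * h')) • b = b := by
      rw [mul_smul, ← ha1, ha2, ← mul_smul]
      have : g⁻¹ * h' * (g * h'⁻¹) = 1 := by
        rw [mul_assoc, ← mul_assoc h', ← hc.eq, mul_assoc, mul_inv_cancel, mul_one, inv_mul_cancel]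
      rw [this, one_smul]
    have hd : orderOf (g⁻¹ * h') ∣ p := by
      refine orderOf_dvd_of_pow_eq_one ?_
      rw [hc.inv_left.mul_pow, inv_pow, hg, hh, ← pow_mul, ← pow_mul, mul_comm (i : ℕ),
        mul_comm (k : ℕ), pow_mul, pow_mul, show x ^ p = 1 by rw [← hx, pow_orderOf_eq_one]]
      simp
    have hgh : g = h' := by
      rcases (Nat.dvd_prime hp).1 hd with e | e
      · exact inv_mul_eq_one.1 (orderOf_eq_one_iff.1 e)
      · refine absurd hfix (H.free (dvd_of_eq ?_) b)
        rw [← pow_two, orderOf_pow' _ two_ne_zero, e,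
          (hp.coprime_iff_not_dvd.2 fun d => by
            have := Nat.le_of_dvd two_pos d; have := H.p3; omega).gcd_eq_one, Nat.div_one]
    have hik : i = k := Fin.ext (pow_injOn_Iio_orderOf (by rw [Set.mem_Iio, hx]; exact i.2)
      (by rw [Set.mem_Iio, hx]; exact k.2) hgh)
    refine Prod.ext (Subtype.ext ?_) hik
    show a = b
    rw [ha1, hgh, inv_mul_cancel, one_smul]
  have := Nat.card_le_card_of_injective _ key
  rw [Nat.card_prod, Nat.card_eq_fintype_card (α := Fin p), Fintype.card_fin, H.hα] at this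
  exact Nat.le_of_mul_le_mul_right this hp.pos

omit [Finite G] [Finite α] in
theorem fx_conj (c z : G) : fx α (c * z * c⁻¹) = fx α z :=
  Nat.card_congr {
    toFun := fun b => ⟨c⁻¹ • (b : α), by
      have := MulAction.mem_fixedBy.1 b.2
      rw [MulAction.mem_fixedBy]
      rw [mul_smul, mul_smul, ← eq_inv_smul_iff] at this
      exact this⟩
    invFun := fun b => ⟨c • (b : α), by
      rw [MulAction.mem_fixedBy, mul_smul, mul_smul, inv_smul_smul, MulAction.mem_fixedBy.1 b.2]⟩
    left_inv := fun b => by simp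
    right_inv := fun b => by simp }

/-- An involution moves a multiple of four points. -/
theorem Hyp.four_dvd_moved (H : Hyp α P) {z : G} (hz : orderOf z = 2) :
    fx α z % 2 = 1 ∧ (3 * p - fx α z) % 4 = 0 := by
  classical
  haveI := Fintype.ofFinite α
  haveI := H.faith
  set w := MulAction.toPermHom G α z with hw
  have hwo : orderOf w = 2 := by
    rw [hw, orderOf_injective (MulAction.toPermHom G α) (fun g h e' => FaithfulSMul.eq_of_smul_eq_smul
      (α := α) fun d => DFunLike.congr_fun e' d) z, hz]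
  have hall : ∀ n ∈ w.cycleType, n = 2 := fun n hn => by
    have h1 := Equiv.Perm.dvd_of_mem_cycleType hn
    have h2 := Equiv.Perm.two_le_of_mem_cycleType hn
    rw [hwo] at h1
    exact Nat.dvd_antisymm h1 (by
      have := Nat.le_of_dvd two_pos h1
      rw [show n = 2 by omega])
  have hrep := Multiset.eq_replicate_card.2 hall
  set r := Multiset.card w.cycleType with hr
  have hsum : w.support.card = 2 * r := by
    rw [← w.sum_cycleType, hrep, Multiset.sum_replicate, smul_eq_mul, mul_comm]
  have hsign := H.sign_eq_one z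
  rw [← hw, Equiv.Perm.sign_of_cycleType, hrep, Multiset.sum_replicate, Multiset.card_replicate,
    smul_eq_mul, pow_add, mul_comm r 2, pow_mul] at hsign
  simp only [neg_one_sq, one_pow, one_mul] at hsign
  have hre : Even r := by
    rcases Nat.even_or_odd r with h | h
    · exact h
    · rw [h.neg_one_pow] at hsign
      exact absurd hsign (by decide)
  have hfix : fx α z + w.support.card = 3 * p := by
    rw [← H.hα, Nat.card_eq_fintype_card, fx, Nat.card_eq_fintype_card, Fintype.card_subtype,
      ← Finset.card_univ,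
      ← Finset.card_filter_add_card_filter_not (s := (Finset.univ : Finset α)) (fun d => z • d = d)]
    congr 1
  obtain ⟨k, hk⟩ := hre
  obtain ⟨q, hq⟩ := H.odd
  omega

end Cfsg.Agent.DegreeThreeP
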