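import Mathlib.GroupTheory.GroupAction.Quotient
import Cfsg.Agent.Lib.DegreeThreeP.Setup

/-!
# Counting fixed points over a subgroup
-/

set_option autoImplicit false
set_option linter.style.haveILetI false
set_option linter.unusedSectionVars false

namespace Cfsg.Agent.DegreeThreeP

open Subgroup
open scoped _root_.Classical

universe u v

variable {G : Type u} [Group G] [Fintype G] {α : Type v} [MulAction G α] [Fintype α]

/-- The elements of a subgroup. -/
noncomputable def elts (K : Subgroup G) : Finset G := Finset.univ.filter fun g => g ∈ K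

theorem mem_elts {K : Subgroup G} {g : G} : g ∈ elts K ↔ g ∈ K := by simp [elts]

theorem card_elts (K : Subgroup G) : (elts K).card = Nat.card K := by
  classical
  rw [elts, Nat.card_eq_fintype_card, Fintype.card_subtype]

theorem elts_top : elts (⊤ : Subgroup G) = Finset.univ := by
  ext g; simp [mem_elts]

theorem sum_elts_eq {M : Type*} [AddCommMonoid M] (K : Subgroup G) (F : G → M) :
    ∑ g ∈ elts K, F g = ∑ k : K, F k := by
  classical
  exact Finset.sum_subtype (elts K) (fun g => mem_elts) F

/-- The orbits of a subgroup. -/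
noncomputable def norb (K : Subgroup G) (α : Type v) [MulAction G α] : ℕ :=
  Nat.card (MulAction.orbitRel.Quotient K α)

theorem sum_fx_subgroup (K : Subgroup G) :
    ∑ g ∈ elts K, fx α g = norb K α * Nat.card K := by
  classical
  haveI : Fintype (MulAction.orbitRel.Quotient K α) := Fintype.ofFinite _
  have hb := MulAction.sum_card_fixedBy_eq_card_orbits_mul_card_group K α
  rw [sum_elts_eq, norb, Nat.card_eq_fintype_card, Nat.card_eq_fintype_card, ← hb]
  exact Finset.sum_congr rfl fun k _ => Nat.card_eq_fintype_card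

theorem sum_step (K : Subgroup G) {T : Finset α} (hT : ∀ g ∈ K, ∀ x ∈ T, g • x = x) {x₀ : α}
    (hx₀ : x₀ ∉ T) (htr : ∀ y ∉ T, ∃ g ∈ K, g • x₀ = y) (F : G → ℤ)
    (hF : ∀ g ∈ K, ∀ k ∈ K, F (k * g * k⁻¹) = F g) :
    ∑ g ∈ elts K, ((fx α g : ℤ) - T.card) * F g =
      ((Fintype.card α : ℤ) - T.card) * ∑ g ∈ elts (K ⊓ MulAction.stabilizer G x₀), F g := by
  have hfix : ∀ g ∈ K, ((fx α g : ℤ) - T.card) =
      ∑ y ∈ Finset.univ \ T, if g • y = y then (1 : ℤ) else 0 := fun g hg => by
    have hsub : T ⊆ Finset.univ.filter fun y => g • y = y := fun y hy =>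
      Finset.mem_filter.2 ⟨Finset.mem_univ y, hT g hg y hy⟩
    rw [Finset.sum_boole, fx, Nat.card_eq_fintype_card, Fintype.card_subtype,
      show ((Finset.univ \ T).filter fun y => g • y = y) =
        (Finset.univ.filter fun y => g • y = y) \ T by ext y; simp [and_comm],
      Finset.card_sdiff_of_subset hsub, Nat.cast_sub (Finset.card_le_card hsub)]
    simp [MulAction.mem_fixedBy]
  have hy : ∀ y ∈ Finset.univ \ T, (∑ g ∈ elts K, if g • y = y then F g else 0) =
      ∑ g ∈ elts (K ⊓ MulAction.stabilizer G x₀), F g := fun y hy => by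
    obtain ⟨k, hk, rfl⟩ := htr y (Finset.mem_sdiff.1 hy).2
    rw [← Finset.sum_filter]
    refine Finset.sum_bij' (fun g _ => k⁻¹ * g * k) (fun g _ => k * g * k⁻¹) ?_ ?_ ?_ ?_ ?_
    · intro g hg
      rw [Finset.mem_filter, mem_elts] at hg
      rw [mem_elts, Subgroup.mem_inf, MulAction.mem_stabilizer_iff, mul_smul, mul_smul, hg.2,
        inv_smul_smul]
      exact ⟨mul_mem (mul_mem (inv_mem hk) hg.1) hk, rfl⟩
    · intro g hg
      rw [mem_elts, Subgroup.mem_inf, MulAction.mem_stabilizer_iff] at hg
      rw [Finset.mem_filter, mem_elts, mul_smul, mul_smul, inv_smul_smul, hg.2]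
      exact ⟨mul_mem (mul_mem hk hg.1) (inv_mem hk), rfl⟩
    · intro g _; group
    · intro g _; group
    · intro g hg
      rw [Finset.mem_filter, mem_elts] at hg
      rw [← hF (k⁻¹ * g * k) (mul_mem (mul_mem (inv_mem hk) hg.1) hk) k hk]
      congr 1; group
  rw [Finset.sum_congr rfl fun g hg => by rw [hfix g (mem_elts.1 hg), Finset.sum_mul],
    Finset.sum_comm]
  simp only [ite_mul, one_mul, zero_mul]
  rw [Finset.sum_congr rfl hy, Finset.sum_const, nsmul_eq_mul,
    Finset.card_sdiff_of_subset (Finset.subset_univ T), Finset.card_univ,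
    Nat.cast_sub (Finset.card_le_univ T)]

theorem fixed_orbit_eq {K : Subgroup G} {x y : α} (hx : ∀ g ∈ K, g • x = x)
    (h : (Quotient.mk'' y : MulAction.orbitRel.Quotient K α) = Quotient.mk'' x) : y = x := by
  obtain ⟨g, hg⟩ := Quotient.exact' h
  rw [← hg]
  exact hx g g.2

theorem exists_of_norb (K : Subgroup G) {T : Finset α} (hT : ∀ g ∈ K, ∀ x ∈ T, g • x = x)
    (hn : norb K α ≤ T.card + 1) {x y : α} (hx : x ∉ T) (hy : y ∉ T) : ∃ g ∈ K, g • x = y := by
  classical
  haveI : Fintype (MulAction.orbitRel.Quotient K α) := Fintype.ofFinite _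
  set f : α → MulAction.orbitRel.Quotient K α := Quotient.mk'' with hf
  have hfix : ∀ z : α, ∀ w ∈ T, f z = f w → z = w := fun z w hw h =>
    fixed_orbit_eq (fun g hg => hT g hg w hw) h
  by_contra hne
  have hxy : f x ≠ f y := fun h => hne (by
    obtain ⟨g, hg⟩ := Quotient.exact' h.symm
    exact ⟨g, g.2, hg⟩)
  have h1 := Finset.card_le_univ (insert (f x) (insert (f y) (T.image f)))
  rw [Finset.card_insert_of_notMem, Finset.card_insert_of_notMem,
    Finset.card_image_of_injOn fun z _ w hw h => hfix z w (Finset.mem_coe.1 hw) h] at h1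
  · rw [norb, Nat.card_eq_fintype_card] at hn
    omega
  · simp only [Finset.mem_image, not_exists, not_and]
    exact fun w hw h => hy (hfix y w hw h.symm ▸ hw)
  · simp only [Finset.mem_insert, Finset.mem_image, not_or, not_exists, not_and]
    exact ⟨hxy, fun w hw h => hx (hfix x w hw h.symm ▸ hw)⟩

/-- The orbit lengths add up. -/
theorem sum_orbit_card (K : Subgroup G) [Fintype (MulAction.orbitRel.Quotient K α)] :
    Fintype.card α = ∑ ω : MulAction.orbitRel.Quotient K α, Nat.card (MulAction.orbit K ω.out) := by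
  rw [← Nat.card_eq_fintype_card, ← Nat.card_sigma]
  exact Nat.card_congr (MulAction.selfEquivSigmaOrbits K α)

theorem orbit_parity (K : Subgroup G) (hK : Odd (Nat.card K)) :
    Fintype.card α % 2 = norb K α % 2 := by
  classical
  haveI : Fintype (MulAction.orbitRel.Quotient K α) := Fintype.ofFinite _
  rw [sum_orbit_card K, Finset.sum_nat_mod, norb, Nat.card_eq_fintype_card, ← Finset.card_univ,
    Finset.card_eq_sum_ones, Finset.sum_congr rfl fun ω _ => ?_]
  exact Nat.odd_iff.1 (Odd.of_dvd_nat hK (by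
    rw [Nat.card_congr (MulAction.orbitEquivQuotientStabilizer K ω.out)]
    exact Subgroup.card_quotient_dvd_card _))

theorem orbit_bound (K : Subgroup G) {T : Finset α} (hT : ∀ g ∈ K, ∀ x ∈ T, g • x = x) {m : ℕ}
    (hm : ∀ y ∉ T, m ≤ Nat.card (MulAction.orbit K y)) {x : α} (hx : x ∉ T) :
    (norb K α - T.card - 1) * m + T.card + Nat.card (MulAction.orbit K x) ≤ Fintype.card α := by
  classical
  haveI : Fintype (MulAction.orbitRel.Quotient K α) := Fintype.ofFinite _
  set f : α → MulAction.orbitRel.Quotient K α := Quotient.mk'' with hf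
  have hfix : ∀ z : α, ∀ w ∈ T, f z = f w → z = w := fun z w hw h =>
    fixed_orbit_eq (fun g hg => hT g hg w hw) h
  set U := T.image f with hU
  have hUc : U.card = T.card :=
    Finset.card_image_of_injOn fun z _ w hw h => hfix z w (Finset.mem_coe.1 hw) h
  have hxU : f x ∉ U := by
    simp only [hU, Finset.mem_image, not_exists, not_and]
    exact fun w hw h => hx (hfix x w hw h.symm ▸ hw)
  have horb : ∀ y, Nat.card (MulAction.orbit K (f y).out) = Nat.card (MulAction.orbit K y) := fun y => by
    rw [MulAction.orbit_eq_iff.2 (Quotient.exact' (Quotient.out_eq' (f y)))]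
  rw [sum_orbit_card K, ← Finset.sum_sdiff (Finset.subset_univ (insert (f x) U)),
    Finset.sum_insert hxU]
  have h1 : ((Finset.univ : Finset (MulAction.orbitRel.Quotient K α)) \ insert (f x) U).card * m ≤
      ∑ ω ∈ Finset.univ \ insert (f x) U, Nat.card (MulAction.orbit K ω.out) := by
    rw [← smul_eq_mul]
    refine Finset.card_nsmul_le_sum _ _ _ fun ω hω => hm _ fun hmem => (Finset.mem_sdiff.1 hω).2 ?_
    exact Finset.mem_insert_of_mem (Finset.mem_image.2 ⟨ω.out, hmem, Quotient.out_eq' ω⟩)
  have h2 : U.card ≤ ∑ ω ∈ U, Nat.card (MulAction.orbit K ω.out) := by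
    rw [Finset.card_eq_sum_ones]
    exact Finset.sum_le_sum fun ω _ => Nat.card_pos_iff.2
      ⟨⟨⟨ω.out, MulAction.mem_orbit_self _⟩⟩, inferInstance⟩
  rw [Finset.card_sdiff_of_subset (Finset.subset_univ _), Finset.card_insert_of_notMem hxU,
    Finset.card_univ] at h1
  rw [horb x, norb, Nat.card_eq_fintype_card (α := MulAction.orbitRel.Quotient K α)]
  rw [← hUc, Nat.sub_sub]
  omega

end Cfsg.Agent.DegreeThreeP
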