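import Cfsg.Agent.Lib.DegreeThreeP.Involution
import Cfsg.Agent.Lib.DegreeThreeP.Orbits

/-!
# The doubly transitive case: first counts
-/

set_option autoImplicit false
set_option linter.style.haveILetI false
set_option linter.unusedSectionVars false

namespace Cfsg.Agent.DegreeThreeP

open Cfsg.Agent.Characters Cfsg.Agent.Blocks Subgroup Cfsg.Agent.PrimeBlock
open scoped ComplexConjugate
open scoped _root_.Classical

universe u v

variable {G : Type u} [Group G] [Fintype G] {α : Type v} [MulAction G α] [Fintype α] {p : ℕ}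
  [Fact p.Prime] {P : Sylow p G}

/-- The stabilizer of two points. -/
abbrev stab2 (G : Type u) [Group G] {α : Type v} [MulAction G α] (a b : α) : Subgroup G :=
  MulAction.stabilizer G a ⊓ MulAction.stabilizer G b

/-- The stabilizer of three points. -/
abbrev stab3 (G : Type u) [Group G] {α : Type v} [MulAction G α] (a b e : α) : Subgroup G :=
  stab2 G a b ⊓ MulAction.stabilizer G e

/-- Doubly transitive. -/
structure Two (α : Type v) [MulAction G α] (P : Sylow p G) : Prop where
  hyp : Hyp α P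
  two : ∀ a x y : α, x ≠ a → y ≠ a → ∃ g : G, g • a = a ∧ g • x = y

omit [Fintype G] [Fintype α] in
theorem fx_class (g k : G) : (fx α (k * g * k⁻¹) : ℤ) = fx α g := by rw [fx_conj]

theorem Hyp.card_fintype (H : Hyp α P) : Fintype.card α = 3 * p := by
  rw [← Nat.card_eq_fintype_card, H.hα]

theorem Hyp.sum_all (H : Hyp α P) (a : α) (F : G → ℤ) (hF : ∀ g k : G, F (k * g * k⁻¹) = F g) :
    ∑ g : G, (fx α g : ℤ) * F g =
      3 * p * ∑ g ∈ elts (MulAction.stabilizer G a), F g := by
  haveI := H.pretrans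
  have h := sum_step (⊤ : Subgroup G) (T := (∅ : Finset α)) (fun g _ x hx => absurd hx (Finset.notMem_empty x))
    (Finset.notMem_empty a) (fun y _ => by
      obtain ⟨g, hg⟩ := MulAction.exists_smul_eq G a y
      exact ⟨g, Subgroup.mem_top g, hg⟩) F (fun g _ k _ => hF g k)
  rw [top_inf_eq, elts_top, H.card_fintype] at h
  simpa using h

theorem Hyp.two_of_perm (H : Hyp α P) (S : Blk P)
    (hπ : ∀ g : G, (fx α g : ℂ) = 1 + (S.χ : G → ℂ) g) : Two α P := by
  haveI := Fintype.ofFinite (Cfsg.IrrCharacter G)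
  refine ⟨H, fun a x y hx hy => ?_⟩
  have hg : (Nat.card G : ℂ) ≠ 0 := natCard_ne_zero
  have h0 : ∑ g : G, (S.χ : G → ℂ) g = 0 := by
    have h0 := classInner_isIrr_ne S.χ.2 (trivIrr G).2 (fun e => S.χ_ne (Subtype.ext e))
    rw [classInner_def] at h0
    simp only [trivIrr_coe, map_one, mul_one] at h0
    exact (mul_eq_zero.1 h0).resolve_left (inv_ne_zero natCard_ne_zero)
  have h1 : ∑ g : G, (S.χ : G → ℂ) g * conj ((S.χ : G → ℂ) g) = (Nat.card G : ℂ) := by
    have h1 := classInner_irr S.χ S.χ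
    rw [if_pos rfl, classInner_def] at h1
    field_simp at h1
    linear_combination h1
  have h2 : ∑ g : G, (fx α g : ℂ) * (fx α g : ℂ) = 2 * (Nat.card G : ℂ) := by
    have e : ∀ g : G, (fx α g : ℂ) * (fx α g : ℂ) = 1 + ((S.χ : G → ℂ) g + conj ((S.χ : G → ℂ) g)) +
        (S.χ : G → ℂ) g * conj ((S.χ : G → ℂ) g) := fun g => by
      have h3 := congrArg conj (hπ g)
      rw [Complex.conj_natCast, map_add, map_one] at h3
      nth_rewrite 1 [hπ g]
      rw [h3]; ring
    rw [Finset.sum_congr rfl fun g _ => e g, Finset.sum_add_distrib, Finset.sum_add_distrib,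
      Finset.sum_add_distrib, h1, ← map_sum, h0, map_zero, Finset.sum_const, Finset.card_univ,
      nsmul_eq_mul, mul_one, ← Nat.card_eq_fintype_card]
    ring
  have h3 : ∑ g : G, (fx α g : ℤ) * (fx α g : ℤ) = 2 * (Nat.card G : ℤ) := by
    have : ((∑ g : G, (fx α g : ℤ) * (fx α g : ℤ) : ℤ) : ℂ) = ((2 * (Nat.card G : ℤ) : ℤ) : ℂ) := by
      push_cast
      exact h2
    exact_mod_cast this
  rw [H.sum_all a _ (fun g k => fx_class g k), ← Nat.cast_sum, sum_fx_subgroup, ← H.stab_mul a] at h3
  push_cast at h3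
  have hn : norb (MulAction.stabilizer G a) α = 2 := by
    have : (3 * (p : ℤ) * Nat.card (MulAction.stabilizer G a)) * (norb (MulAction.stabilizer G a) α) =
        (3 * (p : ℤ) * Nat.card (MulAction.stabilizer G a)) * 2 := by linear_combination h3
    have hne : (3 * (p : ℤ) * Nat.card (MulAction.stabilizer G a)) ≠ 0 :=
      mul_ne_zero (mul_ne_zero (by norm_num) (Nat.cast_ne_zero.2 (Fact.out : p.Prime).ne_zero))
        (Nat.cast_ne_zero.2 Nat.card_pos.ne')
    exact_mod_cast mul_left_cancel₀ hne this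
  obtain ⟨g, hg, e⟩ := exists_of_norb (MulAction.stabilizer G a) (T := {a})
    (fun g hg z hz => by rw [Finset.mem_singleton.1 hz]; exact hg) (by rw [hn, Finset.card_singleton])
    (x := x) (y := y) (by simpa using hx) (by simpa using hy)
  exact ⟨g, hg, e⟩

theorem Two.step2 (T : Two α P) {a b : α} (hab : a ≠ b) (F : G → ℤ)
    (hF : ∀ g k : G, F (k * g * k⁻¹) = F g) :
    ∑ g ∈ elts (MulAction.stabilizer G a), ((fx α g : ℤ) - 1) * F g =
      (3 * (p : ℤ) - 1) * ∑ g ∈ elts (stab2 G a b), F g := by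
  have h := sum_step (MulAction.stabilizer G a) (T := {a})
    (fun g hg z hz => by rw [Finset.mem_singleton.1 hz]; exact hg) (x₀ := b) (by simpa using hab.symm)
    (fun y hy => by
      obtain ⟨g, hg, e⟩ := T.two a b y hab.symm (by simpa using hy)
      exact ⟨g, hg, e⟩) F (fun g _ k _ => hF g k)
  rw [T.hyp.card_fintype, Finset.card_singleton] at h
  push_cast at h
  exact h

theorem Two.sum_pairs (T : Two α P) {a b : α} (hab : a ≠ b) (F : G → ℤ)
    (hF : ∀ g k : G, F (k * g * k⁻¹) = F g) :
    ∑ g : G, (fx α g : ℤ) * ((fx α g : ℤ) - 1) * F g =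
      3 * p * (3 * (p : ℤ) - 1) * ∑ g ∈ elts (stab2 G a b), F g := by
  simp only [mul_assoc ((fx α _ : ℤ))]
  rw [T.hyp.sum_all a _ (fun g k => by rw [fx_class, hF]), T.step2 hab F hF, mul_assoc (3 * (p : ℤ))]

theorem Two.card_stab2 (T : Two α P) {a b : α} (hab : a ≠ b) :
    (Nat.card G : ℤ) = 3 * p * (3 * (p : ℤ) - 1) * Nat.card (stab2 G a b) := by
  have h := T.step2 hab (fun _ => 1) (fun _ _ => rfl)
  simp only [mul_one, Finset.sum_const, nsmul_eq_mul, card_elts] at h
  have h1 : ∑ g ∈ elts (MulAction.stabilizer G a), (fx α g : ℤ) =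
      (norb (MulAction.stabilizer G a) α : ℤ) * Nat.card (MulAction.stabilizer G a) := by
    rw [← Nat.cast_sum, sum_fx_subgroup]; push_cast; rfl
  rw [Finset.sum_sub_distrib, h1, Finset.sum_const, nsmul_eq_mul, card_elts, mul_one] at h
  have h2 : norb (MulAction.stabilizer G a) α = 2 := by
    refine le_antisymm ?_ ?_
    · by_contra hlt
      push Not at hlt
      -- two points in one orbit
      haveI : Fintype (MulAction.orbitRel.Quotient (MulAction.stabilizer G a) α) := Fintype.ofFinite _
      rw [norb, Nat.card_eq_fintype_card, Fintype.two_lt_card_iff] at hlt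
      obtain ⟨x, y, w, hxy, hxw, hyw⟩ := hlt
      have key : ∀ x y : MulAction.orbitRel.Quotient (MulAction.stabilizer G a) α,
          x ≠ Quotient.mk'' a → y ≠ Quotient.mk'' a → x = y := fun x y => by
        induction x using Quotient.inductionOn' with
        | h x =>
          induction y using Quotient.inductionOn' with
          | h y =>
            intro hx hy
            obtain ⟨g, hg, e⟩ := T.two a y x (fun e => hy (by rw [e])) (fun e => hx (by rw [e]))
            exact Quotient.sound' ⟨⟨g, hg⟩, e⟩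
      by_cases hxa : x = Quotient.mk'' a
      · exact hyw (key y w (fun e => hxy (hxa.trans e.symm)) (fun e => hxw (hxa.trans e.symm)))
      · by_cases hya : y = Quotient.mk'' a
        · exact hxw (key x w hxa (fun e => hyw (hya.trans e.symm)))
        · exact hxy (key x y hxa hya)
    · haveI : Fintype (MulAction.orbitRel.Quotient (MulAction.stabilizer G a) α) := Fintype.ofFinite _
      rw [norb, Nat.card_eq_fintype_card]
      refine Fintype.one_lt_card_iff.2 ⟨Quotient.mk'' a, Quotient.mk'' b, fun e => hab.symm ?_⟩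
      exact fixed_orbit_eq (K := MulAction.stabilizer G a) (fun g hg => hg) e.symm
  rw [h2] at h
  have h3 := T.hyp.stab_mul a
  rw [← h3]
  push_cast
  linear_combination (3 * (p : ℤ)) * h

theorem Two.exists_swap (T : Two α P) {a b : α} (hab : a ≠ b) : ∃ g : G, g • a = b ∧ g • b = a := by
  haveI := T.hyp.pretrans
  obtain ⟨g, hg⟩ := MulAction.exists_smul_eq G a b
  obtain ⟨k, hk1, hk2⟩ := T.two b (g • b) a
    (fun e => hab (MulAction.injective g (hg.trans e.symm))) hab
  exact ⟨k * g, by rw [mul_smul, hg, hk1], by rw [mul_smul, hk2]⟩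

theorem Hyp.sum_split_singular (H : Hyp α P) (S : Blk P) (F : G → ℤ) {c : ℤ}
    (hc : ∀ g : G, p ∣ orderOf g → F g = c) :
    ∃ r : ℕ, Nat.card G = 2 * p * (1 + r * p) ∧
      ∑ g : G, F g = F 1 + (∑ g ∈ Finset.univ.filter (fun g : G => ¬ p ∣ orderOf g ∧ g ≠ 1), F g) +
        (((1 + r * p) * (p - 1) : ℕ) : ℤ) * c := by
  obtain ⟨r, hr⟩ : ∃ r, Nat.card (Sylow p G) = 1 + r * p := by
    obtain ⟨c, hc⟩ := (Nat.modEq_iff_dvd' Nat.card_pos).1 (card_sylow_modEq_one p G).symm
    exact ⟨c, by have := Nat.card_pos (α := Sylow p G); rw [mul_comm c p]; omega⟩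
  refine ⟨r, by rw [← Cfsg.Agent.SmallSimple.Basic.card_normalizer_mul P, H.hN, hr], ?_⟩
  rw [← Finset.sum_filter_add_sum_filter_not Finset.univ (fun g : G => p ∣ orderOf g) F,
    Finset.sum_congr rfl fun g hg => hc g (Finset.mem_filter.1 hg).2, Finset.sum_const, nsmul_eq_mul,
    Brauer.card_singular S.D H.card_centralizer, hr,
    ← Finset.add_sum_erase (Finset.univ.filter fun g : G => ¬ p ∣ orderOf g) F
      (a := 1) (by simp [(Fact.out : p.Prime).ne_one]),
    show (Finset.univ.filter fun g : G => ¬ p ∣ orderOf g).erase 1 =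
      Finset.univ.filter (fun g : G => ¬ p ∣ orderOf g ∧ g ≠ 1) by ext g; simp [and_comm]]
  ring

end Cfsg.Agent.DegreeThreeP
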